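import Mathlib

set_option autoImplicit false

/-! Recognising the dihedral group of order 8. -/

namespace Cfsg.Agent.Lib.Helper5.OAut

section d8
variable {E : Type*} [Group E]

/-- the map from the dihedral group given by a rotation and a reflection -/
def dihMap (r s : E) : DihedralGroup 4 → E
  | DihedralGroup.r i => r ^ i.val
  | DihedralGroup.sr i => s * r ^ i.val

theorem dihMap_r (r s : E) (i : ZMod 4) : dihMap r s (DihedralGroup.r i) = r ^ i.val := rfl

theorem dihMap_sr (r s : E) (i : ZMod 4) :
    dihMap r s (DihedralGroup.sr i) = s * r ^ i.val := rfl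

theorem pow_val_add {r : E} (hr : r ^ 4 = 1) (i j : ZMod 4) :
    r ^ (i + j).val = r ^ i.val * r ^ j.val := by
  rw [ZMod.val_add, ← pow_add, ← pow_eq_pow_mod _ hr]

theorem pow_val_sub {r : E} (hr : r ^ 4 = 1) (i j : ZMod 4) :
    r ^ (j - i).val = (r ^ i.val)⁻¹ * r ^ j.val := by
  have h := pow_val_add hr i (j - i)
  rw [add_sub_cancel] at h
  rw [h, inv_mul_cancel_left]

theorem conj_pow_of_inv {r s : E} (hs : s * s = 1) (hsr : s * r * s = r⁻¹) (k : ℕ) :
    s * r ^ k * s = (r ^ k)⁻¹ := by
  have hsinv : s⁻¹ = s := inv_eq_of_mul_eq_one_right hs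
  have h1 : s * r ^ k * s⁻¹ = (s * r * s⁻¹) ^ k := (conj_pow (a := s) (b := r) (i := k)).symm
  rw [hsinv] at h1
  rw [h1, hsr, inv_pow]

theorem dihMap_mul {r s : E} (hr : r ^ 4 = 1) (hs : s * s = 1) (hsr : s * r * s = r⁻¹)
    (x y : DihedralGroup 4) : dihMap r s (x * y) = dihMap r s x * dihMap r s y := by
  cases x with
  | r i =>
    cases y with
    | r j =>
      rw [DihedralGroup.r_mul_r, dihMap_r, dihMap_r, dihMap_r, pow_val_add hr]
    | sr j =>
      rw [DihedralGroup.r_mul_sr, dihMap_r, dihMap_sr, dihMap_sr, pow_val_sub hr]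
      have h := conj_pow_of_inv hs hsr i.val
      have h' : r ^ i.val * s = s * (r ^ i.val)⁻¹ := by
        rw [← h, ← mul_assoc, ← mul_assoc, hs, one_mul]
      rw [← mul_assoc (r ^ i.val), h', mul_assoc]
  | sr i =>
    cases y with
    | r j =>
      rw [DihedralGroup.sr_mul_r, dihMap_r, dihMap_sr, dihMap_sr, pow_val_add hr, mul_assoc]
    | sr j =>
      rw [DihedralGroup.sr_mul_sr, dihMap_r, dihMap_sr, dihMap_sr, pow_val_sub hr]
      have h := conj_pow_of_inv hs hsr i.val
      rw [← h]
      group

/-- the homomorphism from the dihedral group -/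
def dihHom {r s : E} (hr : r ^ 4 = 1) (hs : s * s = 1) (hsr : s * r * s = r⁻¹) :
    DihedralGroup 4 →* E :=
  MonoidHom.mk' (dihMap r s) (dihMap_mul hr hs hsr)

theorem dihHom_injective {r s : E} (hr : orderOf r = 4) (hs : s * s = 1)
    (hsr : s * r * s = r⁻¹) (hns : s ∉ Subgroup.zpowers r) :
    Function.Injective (dihHom (by rw [← hr]; exact pow_orderOf_eq_one r) hs hsr) := by
  rw [injective_iff_map_eq_one]
  intro x hx
  change dihMap r s x = 1 at hx
  cases x with
  | r i =>
    rw [dihMap_r] at hx
    have hd : orderOf r ∣ i.val := orderOf_dvd_of_pow_eq_one hx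
    rw [hr] at hd
    have hlt : i.val < 4 := ZMod.val_lt i
    have h0 : i.val = 0 := Nat.eq_zero_of_dvd_of_lt hd hlt
    have : i = 0 := (ZMod.val_eq_zero i).1 h0
    rw [this]
    rfl
  | sr i =>
    exfalso
    rw [dihMap_sr] at hx
    apply hns
    have : s = (r ^ i.val)⁻¹ := eq_inv_of_mul_eq_one_left hx
    rw [this]
    exact Subgroup.inv_mem _ (Subgroup.pow_mem _ (Subgroup.mem_zpowers r) _)

theorem exists_dihedral_equiv_of (hcard : Nat.card E = 8) (r s : E) (hr : orderOf r = 4)
    (hs : s * s = 1) (hsr : s * r * s = r⁻¹) (hns : s ∉ Subgroup.zpowers r) :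
    Nonempty (E ≃* DihedralGroup 4) := by
  have hfin : Finite E := Nat.finite_of_card_ne_zero (by rw [hcard]; norm_num)
  have hinj := dihHom_injective hr hs hsr hns
  have hbij : Function.Bijective
      (dihHom (by rw [← hr]; exact pow_orderOf_eq_one r) hs hsr : DihedralGroup 4 →* E) := by
    apply hinj.bijective_of_nat_card_le
    rw [hcard, DihedralGroup.nat_card]
  exact ⟨(MulEquiv.ofBijective _ hbij).symm⟩

theorem commute_of_mem_zpowers {x s : E} (h : s ∈ Subgroup.zpowers x) : s * x = x * s := by
  obtain ⟨k, rfl⟩ := Subgroup.mem_zpowers_iff.1 h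
  exact ((Commute.refl x).zpow_left k).eq

theorem orderOf_cases (hcard : Nat.card E = 8) (x : E) :
    orderOf x = 1 ∨ orderOf x = 2 ∨ orderOf x = 4 ∨ orderOf x = 8 := by
  have hd : orderOf x ∣ 8 := hcard ▸ orderOf_dvd_natCard x
  have hmem : orderOf x ∈ Nat.divisors 8 := Nat.mem_divisors.2 ⟨hd, by norm_num⟩
  have h8 : Nat.divisors 8 = {1, 2, 4, 8} := by decide
  rw [h8] at hmem
  simpa using hmem

theorem commute_of_orderOf_eq_card (hcard : Nat.card E = 8) (x s : E) (hx : orderOf x = 8) :
    s * x = x * s := by
  apply commute_of_mem_zpowers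
  have hfin : Finite E := Nat.finite_of_card_ne_zero (by rw [hcard]; norm_num)
  have htop : Subgroup.zpowers x = ⊤ := by
    apply Subgroup.eq_top_of_card_eq
    rw [Nat.card_zpowers, hx, hcard]
  rw [htop]
  exact Subgroup.mem_top s

/-- a group of order 8 with a non-central involution is dihedral -/
theorem exists_dihedral_equiv (hcard : Nat.card E = 8) (s t : E) (hs : s * s = 1)
    (hst : s * t ≠ t * s) : Nonempty (E ≃* DihedralGroup 4) := by
  have hfin : Finite E := Nat.finite_of_card_ne_zero (by rw [hcard]; norm_num)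
  have hsinv : s⁻¹ = s := inv_eq_of_mul_eq_one_right hs
  rcases orderOf_cases hcard t with h1 | h2 | h4 | h8
  · exfalso
    rw [orderOf_eq_one_iff] at h1
    apply hst
    rw [h1, mul_one, one_mul]
  · -- `t` is an involution: use `s * t`
    have htt : t * t = 1 := by
      have := pow_orderOf_eq_one t
      rw [h2, pow_two] at this
      exact this
    have htinv : t⁻¹ = t := inv_eq_of_mul_eq_one_right htt
    have hne1 : s * t ≠ 1 := by
      intro h
      apply hst
      have : t = s := by
        rw [← hsinv]
        exact (eq_inv_of_mul_eq_one_right h)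
      rw [this]
    have hne2 : (s * t) * (s * t) ≠ 1 := by
      intro h
      apply hst
      have h3 : s * t = (s * t)⁻¹ := (inv_eq_of_mul_eq_one_right h).symm
      rw [mul_inv_rev, hsinv, htinv] at h3
      exact h3
    have hord : orderOf (s * t) = 4 := by
      rcases orderOf_cases hcard (s * t) with k1 | k2 | k4 | k8
      · exfalso
        exact hne1 (orderOf_eq_one_iff.1 k1)
      · exfalso
        apply hne2
        have := pow_orderOf_eq_one (s * t)
        rw [k2, pow_two] at this
        exact this
      · exact k4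
      · exfalso
        apply hst
        have h3 := commute_of_orderOf_eq_card hcard (s * t) s k8
        -- s * (s * t) = (s * t) * s
        have h4 : t = s * t * s := by
          rw [← h3, ← mul_assoc, hs, one_mul]
        calc s * t = s * (s * t * s) := by rw [← h4]
          _ = t * s := by rw [← mul_assoc, ← mul_assoc, hs, one_mul]
    apply exists_dihedral_equiv_of hcard (s * t) s hord hs
    · rw [mul_inv_rev, hsinv, htinv, ← mul_assoc, hs, one_mul]
    · intro hmem
      apply hst
      have h3 := commute_of_mem_zpowers hmem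
      have h4 : t = s * t * s := by
        rw [← h3, ← mul_assoc, hs, one_mul]
      calc s * t = s * (s * t * s) := by rw [← h4]
        _ = t * s := by rw [← mul_assoc, ← mul_assoc, hs, one_mul]
  · -- `t` has order 4
    have hns : s ∉ Subgroup.zpowers t := fun hmem => hst (commute_of_mem_zpowers hmem)
    have hidx : (Subgroup.zpowers t).index = 2 := by
      have h := Subgroup.card_mul_index (Subgroup.zpowers t)
      rw [Nat.card_zpowers, h4, hcard] at h
      omega
    have hnorm : (Subgroup.zpowers t).Normal := Subgroup.normal_of_index_eq_two hidx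
    have hconj : s * t * s⁻¹ ∈ Subgroup.zpowers t :=
      hnorm.conj_mem t (Subgroup.mem_zpowers t) s
    rw [hsinv] at hconj
    have ht4 : t ^ 4 = 1 := by
      rw [← h4]
      exact pow_orderOf_eq_one t
    obtain ⟨k, hk⟩ := (mem_powers_iff_mem_zpowers (x := t) (y := s * t * s)
      ).2 hconj
    have hk' : t ^ (k % 4) = s * t * s := by
      rw [← pow_eq_pow_mod _ ht4]
      exact hk
    have hlt : k % 4 < 4 := Nat.mod_lt _ (by norm_num)
    have hsq : (s * t * s) * (s * t * s) = s * (t * t) * s := by
      rw [mul_assoc (s * t), ← mul_assoc s (s * t), ← mul_assoc s s, hs, one_mul]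
      group
    apply exists_dihedral_equiv_of hcard t s h4 hs _ hns
    interval_cases hk4 : k % 4
    · exfalso
      rw [pow_zero] at hk'
      apply hst
      have : t = 1 := by
        have h5 : s * (s * t * s) * s = t := by
          rw [← mul_assoc, ← mul_assoc, hs, one_mul, mul_assoc, hs, mul_one]
        rw [← h5, ← hk', mul_one, hs]
      rw [this, mul_one, one_mul]
    · exfalso
      rw [pow_one] at hk'
      apply hst
      calc s * t = s * t * (s * s) := by rw [hs, mul_one]
        _ = (s * t * s) * s := by rw [mul_assoc (s * t)]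
        _ = t * s := by rw [← hk']
    · exfalso
      -- (s t s)^2 = t^4 = 1, so t^2 = 1
      have h5 : (s * t * s) * (s * t * s) = 1 := by
        rw [← hk', ← pow_add]
        exact ht4
      rw [hsq] at h5
      have h6 : t * t = 1 := by
        have h7 : s * (s * (t * t) * s) * s = t * t := by
          rw [← mul_assoc, ← mul_assoc, hs, one_mul, mul_assoc, hs, mul_one]
        rw [← h7, h5, mul_one, hs]
      have h7 : orderOf t ∣ 2 := orderOf_dvd_of_pow_eq_one (by rw [pow_two]; exact h6)
      rw [h4] at h7
      omega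
    · rw [← hk']
      apply eq_inv_of_mul_eq_one_left
      rw [← pow_succ]
      exact ht4
  · exfalso
    exact hst (commute_of_orderOf_eq_card hcard t s h8)

end d8

end Cfsg.Agent.Lib.Helper5.OAut
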