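import Mathlib

set_option autoImplicit false

/-!
# Conjugation on the central quotient of a normal subgroup
-/

namespace Cfsg.Agent.Lib.Helper5.OAut

section generic

/-- an automorphism of a group acts on the quotient by the centre -/
noncomputable def quotCenter (H : Type*) [Group H] :
    MulAut H →* MulAut (H ⧸ Subgroup.center H) where
  toFun e := QuotientGroup.congr (Subgroup.center H) (Subgroup.center H) e
    (Subgroup.characteristic_iff_map_eq.1 inferInstance e)
  map_one' := by
    ext x
    induction x using QuotientGroup.induction_on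
    rfl
  map_mul' e₁ e₂ := by
    ext x
    induction x using QuotientGroup.induction_on
    rfl

theorem quotCenter_mk (H : Type*) [Group H] (e : MulAut H) (x : H) :
    quotCenter H e (QuotientGroup.mk x) = QuotientGroup.mk (e x) := rfl

variable {G : Type*} [Group G] (H : Subgroup G) [H.Normal]

/-- conjugation by elements of `G` on the central quotient of the normal subgroup `H` -/
noncomputable def conjQuot : G →* MulAut (↥H ⧸ Subgroup.center ↥H) :=
  (quotCenter ↥H).comp MulAut.conjNormal

theorem conjQuot_mk (g : G) (h : H) :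
    conjQuot H g (QuotientGroup.mk h) = QuotientGroup.mk (MulAut.conjNormal g h) := rfl

/-- the image of `H` is the group of inner automorphisms -/
theorem map_conjQuot_self :
    H.map (conjQuot H) = (MulAut.conj : (↥H ⧸ Subgroup.center ↥H) →* MulAut _).range := by
  have key : ∀ h : H, conjQuot H (h : G) = MulAut.conj (QuotientGroup.mk h) := by
    intro h
    ext x
    induction x using QuotientGroup.induction_on with
    | H x =>
      rw [conjQuot_mk, MulAut.conjNormal_val, MulAut.conj_apply, MulAut.conj_apply]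
      rfl
  ext β
  constructor
  · rintro ⟨h, hh, rfl⟩
    exact ⟨QuotientGroup.mk ⟨h, hh⟩, (key ⟨h, hh⟩).symm⟩
  · rintro ⟨y, rfl⟩
    induction y using QuotientGroup.induction_on with
    | H h => exact ⟨h.1, h.2, key h⟩

/-- membership in the kernel -/
theorem mem_ker_conjQuot_iff (g : G) :
    g ∈ (conjQuot H).ker ↔ ∀ h : H, h⁻¹ * MulAut.conjNormal g h ∈ Subgroup.center ↥H := by
  rw [MonoidHom.mem_ker]
  constructor
  · intro hg h
    have h1 := conjQuot_mk H g h
    rw [hg, MulAut.one_apply] at h1
    exact QuotientGroup.eq.1 h1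
  · intro hg
    ext x
    induction x using QuotientGroup.induction_on with
    | H x =>
      rw [conjQuot_mk, MulAut.one_apply]
      exact (QuotientGroup.eq.2 (hg x)).symm

/-- an automorphism of a perfect group that is trivial modulo the centre is trivial -/
theorem eq_of_perfect_of_central {K : Type*} [Group K] (hK : commutator K = ⊤) (e : MulAut K)
    (he : ∀ s : K, s⁻¹ * e s ∈ Subgroup.center K) (s : K) : e s = s := by
  obtain ⟨Fx, hFx⟩ : ∃ Fx : Subgroup K, ∀ x, x ∈ Fx ↔ e x = x := by
    refine ⟨{ carrier := {x | e x = x}, mul_mem' := ?_, one_mem' := ?_, inv_mem' := ?_ },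
      fun x => Iff.rfl⟩
    · intro a b ha hb
      show e (a * b) = a * b
      rw [map_mul, ha, hb]
    · show e 1 = 1
      exact map_one e
    · intro a ha
      show e a⁻¹ = a⁻¹
      rw [map_inv, ha]
  have hle : commutator K ≤ Fx := by
    rw [commutator_def, Subgroup.commutator_le]
    intro a _ b _
    rw [hFx, map_commutatorElement]
    have ha := he a
    have hb := he b
    obtain ⟨za, hza, hea⟩ : ∃ z ∈ Subgroup.center K, e a = a * z :=
      ⟨a⁻¹ * e a, ha, by group⟩
    obtain ⟨zb, hzb, heb⟩ : ∃ z ∈ Subgroup.center K, e b = b * z :=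
      ⟨b⁻¹ * e b, hb, by group⟩
    rw [hea, heb]
    have hca : ∀ x, za * x = x * za := fun x => (Subgroup.mem_center_iff.1 hza x).symm
    have hcb : ∀ x, zb * x = x * zb := fun x => (Subgroup.mem_center_iff.1 hzb x).symm
    rw [commutatorElement_def, commutatorElement_def, mul_inv_rev, mul_inv_rev]
    have h1 : a * za * (b * zb) * (za⁻¹ * a⁻¹) * (zb⁻¹ * b⁻¹) =
        a * b * a⁻¹ * b⁻¹ * (za * za⁻¹) * (zb * zb⁻¹) := by
      have hcai : ∀ x, za⁻¹ * x = x * za⁻¹ := fun x => by
        have := hca (za⁻¹ * x * za⁻¹)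
        have h' : za * (za⁻¹ * x * za⁻¹) = x * za⁻¹ := by group
        have h'' : za⁻¹ * x * za⁻¹ * za = za⁻¹ * x := by group
        rw [h', h''] at this
        exact this.symm
      have hcbi : ∀ x, zb⁻¹ * x = x * zb⁻¹ := fun x => by
        have := hcb (zb⁻¹ * x * zb⁻¹)
        have h' : zb * (zb⁻¹ * x * zb⁻¹) = x * zb⁻¹ := by group
        have h'' : zb⁻¹ * x * zb⁻¹ * zb = zb⁻¹ * x := by group
        rw [h', h''] at this
        exact this.symm
      calc a * za * (b * zb) * (za⁻¹ * a⁻¹) * (zb⁻¹ * b⁻¹)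
          = a * (za * b) * (zb * za⁻¹) * a⁻¹ * (zb⁻¹ * b⁻¹) := by group
        _ = a * (b * za) * (za⁻¹ * zb) * a⁻¹ * (zb⁻¹ * b⁻¹) := by rw [hca b, hcai zb]
        _ = a * b * (zb * a⁻¹) * (zb⁻¹ * b⁻¹) := by group
        _ = a * b * (a⁻¹ * zb) * (zb⁻¹ * b⁻¹) := by rw [hcb a⁻¹]
        _ = a * b * a⁻¹ * b⁻¹ := by group
        _ = a * b * a⁻¹ * b⁻¹ * (za * za⁻¹) * (zb * zb⁻¹) := by group
    rw [h1]
    group
  have : s ∈ Fx := hle (hK ▸ Subgroup.mem_top s)
  exact (hFx s).1 this

end generic

end Cfsg.Agent.Lib.Helper5.OAut
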