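import Mathlib
import Cfsg.Prelude.Def_LieTypeDatum
import Cfsg.Agent.Lib.Helper5.OAut.Generic
import Cfsg.Agent.Lib.Helper5.POmegaCard
import Cfsg.Agent.Lib.Helper5.SiegelComm
import Cfsg.Agent.Lib.Helper5.OmegaSimple
import Cfsg.Agent.Lib.Helper5.SpinorNorm

set_option autoImplicit false

namespace Cfsg.Agent.Lib.Helper5.OAut

open Cfsg Matrix QuadraticMap

section orth
variable {ι : Type} [Fintype ι] [DecidableEq ι] {F : Type*} [Field F]
  (Q : QuadraticForm F (ι → F))

/-- conjugation by isometries on `PΩ` -/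
noncomputable def conjO : ↥(isometryGroup F ⇑Q) →* MulAut (POmega F ⇑Q) :=
  conjQuot (Omega F ⇑Q)

theorem conjO_mk (g : ↥(isometryGroup F ⇑Q)) (s : ↥(Omega F ⇑Q)) :
    conjO Q g (QuotientGroup.mk s) = QuotientGroup.mk (MulAut.conjNormal g s) := rfl

/-- the special isometries, as a subgroup of the isometry group -/
def soSub : Subgroup ↥(isometryGroup F ⇑Q) :=
  (Geo.specialLinear ι F).subgroupOf (isometryGroup F ⇑Q)

theorem inn_eq : Inn (POmega F ⇑Q) = (Omega F ⇑Q).map (conjO Q) :=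
  (map_conjQuot_self (Omega F ⇑Q)).symm

omit [Fintype ι] [DecidableEq ι] in
theorem map_refl (M : Matrix ι ι F) : M.map (RingEquiv.refl F) = M := by
  ext i j
  rfl

theorem psoAut_eq : psoAut F ⇑Q = (soSub Q).map (conjO Q) := by
  unfold psoAut autSubgroupOf
  have hset : {β : MulAut (POmega F ⇑Q) | IsSpecialIsometryInducedAutPOmega ⇑Q β} =
      ((soSub Q).map (conjO Q) : Set (MulAut (POmega F ⇑Q))) := by
    ext β
    constructor
    · rintro ⟨g, hg, hind⟩
      have hgO : g ∈ isometryGroup F ⇑Q := hg.1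
      refine ⟨⟨g, hgO⟩, hg.2, ?_⟩
      ext x
      induction x using QuotientGroup.induction_on with
      | H s =>
        rw [conjO_mk]
        symm
        apply hind
        rw [map_refl]
        rfl
    · rintro ⟨g, hg, rfl⟩
      refine ⟨(g : GL ι F), ⟨g.2, hg⟩, ?_⟩
      intro s s' hs
      rw [conjO_mk]
      congr 1
      apply Subtype.ext
      apply Subtype.ext
      apply Units.ext
      rw [hs, map_refl]
      rfl
  rw [hset, Subgroup.closure_eq]

end orth

section ker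
variable {ι : Type} [Fintype ι] [DecidableEq ι] {F : Type*} [Field F] [Fintype F]
  {Q : QuadraticForm F (ι → F)} {i : ℕ} {α β : Fin i → ι}

open Cfsg.Agent.Lib.Helper5.SpinorHyp Cfsg.Agent.Lib.Helper5.SpinorDiag
  Cfsg.Agent.Lib.Helper5.Siegel Cfsg.Agent.Lib.Helper5.SiegelComm
  Cfsg.Agent.Lib.Helper5.OmegaCenter Cfsg.Agent.Lib.Helper5.OmegaSimple
  Cfsg.Agent.Lib.Helper5.SpinorNorm Cfsg.Agent.Lib.Helper5.POmegaCard

/-- the kernel of the conjugation action on `PΩ` consists of `±1` -/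
theorem ker_conjO_le (hQ : (polarBilin Q).Nondegenerate) (h : IsHypFamily Q α β) (hi : 3 ≤ i)
    (h5 : 5 ≤ Fintype.card ι) (g : ↥(isometryGroup F ⇑Q)) (hg : g ∈ (conjO Q).ker) :
    g = 1 ∨ g = negOne Q := by
  have hperf : commutator ↥(Omega F ⇑Q) = ⊤ := perfect (Hyp.of_hypFamily hQ h hi h5)
  have hg' := (mem_ker_conjQuot_iff (Omega F ⇑Q) g).1 hg
  have hfix := eq_of_perfect_of_central hperf (MulAut.conjNormal g) hg'
  obtain ⟨a, ha, hga⟩ := scalar_of_commute_siegel h (by omega) g (by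
    intro u v hu hv huv
    have hS : siegel Q u v hu hv huv 1 ∈ Omega F ⇑Q := siegel_mem_commutator hQ h hi u v hu hv huv 1
    have h1 := hfix ⟨_, hS⟩
    have h2 := congrArg Subtype.val h1
    rw [MulAut.conjNormal_apply] at h2
    have h3 : g * siegel Q u v hu hv huv 1 * g⁻¹ = siegel Q u v hu hv huv 1 := h2
    calc g * siegel Q u v hu hv huv 1 = g * siegel Q u v hu hv huv 1 * g⁻¹ * g := by group
      _ = siegel Q u v hu hv huv 1 * g := by rw [h3])
  have ha' : (a - 1) * (a + 1) = 0 := by linear_combination ha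
  rcases mul_eq_zero.mp ha' with h1 | h1
  · left
    have ha1 : a = 1 := by linear_combination h1
    rw [ha1, one_smul] at hga
    apply Subtype.ext
    apply Units.ext
    rw [hga]
    rfl
  · right
    have ha1 : a = -1 := by linear_combination h1
    rw [ha1] at hga
    apply Subtype.ext
    apply Units.ext
    rw [hga, negOne_coe]
    simp

omit [Fintype F] in
/-- `-1` acts trivially -/
theorem negOne_mem_ker : negOne Q ∈ (conjO Q).ker := by
  apply (mem_ker_conjQuot_iff (Omega F ⇑Q) (negOne Q)).2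
  intro s
  have h1 : MulAut.conjNormal (negOne Q) s = s := by
    apply Subtype.ext
    rw [MulAut.conjNormal_apply]
    apply Subtype.ext
    apply Units.ext
    show ((negOne Q : ↥(isometryGroup F ⇑Q)) : Matrix.GeneralLinearGroup ι F).1 *
      ((s : ↥(isometryGroup F ⇑Q)) : Matrix.GeneralLinearGroup ι F).1 *
      (((negOne Q)⁻¹ : ↥(isometryGroup F ⇑Q)) : Matrix.GeneralLinearGroup ι F).1 = _
    have hinv : (((negOne Q)⁻¹ : ↥(isometryGroup F ⇑Q)) : Matrix.GeneralLinearGroup ι F).1 =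
        -1 := rfl
    rw [hinv, negOne_coe]
    simp
  rw [h1, inv_mul_cancel]
  exact Subgroup.one_mem _

end ker

section index
variable {ι : Type} [Fintype ι] [DecidableEq ι] {F : Type*} [Field F] [Fintype F]
  {Q : QuadraticForm F (ι → F)} {i : ℕ} {α β : Fin i → ι}

open Cfsg.Agent.Lib.Helper5.SpinorHyp Cfsg.Agent.Lib.Helper5.SpinorDiag
  Cfsg.Agent.Lib.Helper5.Siegel Cfsg.Agent.Lib.Helper5.SiegelComm
  Cfsg.Agent.Lib.Helper5.OmegaCenter Cfsg.Agent.Lib.Helper5.OmegaSimple
  Cfsg.Agent.Lib.Helper5.SpinorNorm Cfsg.Agent.Lib.Helper5.POmegaCard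

omit [Fintype F] in
theorem mem_soSub_iff (g : ↥(isometryGroup F ⇑Q)) :
    g ∈ soSub Q ↔ ((g : Matrix.GeneralLinearGroup ι F) : Matrix ι ι F).det = 1 := by
  unfold soSub
  rw [Subgroup.mem_subgroupOf]
  unfold Geo.specialLinear
  rw [MonoidHom.mem_ker, Units.ext_iff]
  rfl

/-- the special isometries are the kernel of the parity of the number of reflections -/
theorem soSub_eq_ker (h2 : (2 : F) ≠ 0) (hQ : (polarBilin Q).Nondegenerate) :
    soSub Q = ((MonoidHom.fst ℤˣ ℤˣ).comp (theta Q h2 hQ)).ker := by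
  ext g
  rw [mem_soSub_iff, MonoidHom.mem_ker, MonoidHom.comp_apply, MonoidHom.coe_fst]
  obtain ⟨vs, hvs⟩ := exists_rep Q h2 hQ g
  rw [theta_eq Q h2 hQ g vs hvs, hvs.2, rprod_det Q vs hvs.1]
  have hne : (-1 : F) ≠ 1 := by
    intro h
    apply h2
    linear_combination -h
  show (-1 : F) ^ vs.length = 1 ↔ (-1 : ℤˣ) ^ vs.length = 1
  rw [neg_one_pow_eq_one_iff_even hne, neg_one_pow_eq_one_iff]

theorem index_soSub (h2 : (2 : F) ≠ 0) (hQ : (polarBilin Q).Nondegenerate)
    (hn : 2 ≤ Fintype.card ι) : (soSub Q).index = 2 := by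
  rw [soSub_eq_ker h2 hQ, Subgroup.index_ker]
  have hsurj : Function.Surjective ((MonoidHom.fst ℤˣ ℤˣ).comp (theta Q h2 hQ)) := by
    intro x
    obtain ⟨g, hg⟩ := theta_surjective Q h2 hQ hn (x, 1)
    exact ⟨g, by rw [MonoidHom.comp_apply, hg]; rfl⟩
  rw [MonoidHom.range_eq_top.2 hsurj, Subgroup.card_top]
  simp

theorem Omega_le_soSub (h2 : (2 : F) ≠ 0) (hQ : (polarBilin Q).Nondegenerate) :
    Omega F ⇑Q ≤ soSub Q := by
  rw [soSub_eq_ker h2 hQ]
  exact Abelianization.commutator_subset_ker _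

theorem relIndex_Omega_soSub (h2 : (2 : F) ≠ 0) (hQ : (polarBilin Q).Nondegenerate)
    (hn : 2 ≤ Fintype.card ι) : (Omega F ⇑Q).relIndex (soSub Q) = 2 := by
  have h1 := Subgroup.relIndex_mul_index (Omega_le_soSub h2 hQ)
  rw [index_soSub h2 hQ hn] at h1
  have h4 : (Omega F ⇑Q).index = 4 := index_commutator Q h2 hQ hn
  rw [h4] at h1
  omega

omit [Fintype F] in
theorem negOne_mem_soSub (heven : Even (Fintype.card ι)) : negOne Q ∈ soSub Q := by
  rw [mem_soSub_iff, negOne_coe, Matrix.det_neg, Matrix.det_one, mul_one, heven.neg_one_pow]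

open Classical in
/-- **the index of `Inn(PΩ)` in the image of the special orthogonal group** -/
theorem relIndex_inn_psoAut (h2 : (2 : F) ≠ 0) (hQ : (polarBilin Q).Nondegenerate)
    (h : IsHypFamily Q α β) (hi : 3 ≤ i) (h5 : 5 ≤ Fintype.card ι)
    (heven : Even (Fintype.card ι)) :
    (Inn (POmega F ⇑Q)).relIndex (psoAut F ⇑Q) =
      if negOne Q ∈ Omega F ⇑Q then 2 else 1 := by
  rw [inn_eq, psoAut_eq, Subgroup.relIndex_map_map]
  have hle := Omega_le_soSub h2 hQ
  have hK : (conjO Q).ker ≤ soSub Q := by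
    intro g hg
    rcases ker_conjO_le hQ h hi h5 g hg with rfl | rfl
    · exact Subgroup.one_mem _
    · exact negOne_mem_soSub heven
  rw [sup_eq_left.2 hK]
  have h22 := relIndex_Omega_soSub h2 hQ (by omega : 2 ≤ Fintype.card ι)
  by_cases hneg : negOne Q ∈ Omega F ⇑Q
  · rw [if_pos hneg]
    have hK' : (conjO Q).ker ≤ Omega F ⇑Q := by
      intro g hg
      rcases ker_conjO_le hQ h hi h5 g hg with rfl | rfl
      · exact Subgroup.one_mem _
      · exact hneg
    rw [sup_eq_left.2 hK']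
    exact h22
  · rw [if_neg hneg]
    have hmul := Subgroup.relIndex_mul_relIndex (Omega F ⇑Q) (Omega F ⇑Q ⊔ (conjO Q).ker)
      (soSub Q) le_sup_left (sup_le hle hK)
    rw [h22] at hmul
    have hne : (Omega F ⇑Q).relIndex (Omega F ⇑Q ⊔ (conjO Q).ker) ≠ 1 := by
      intro h1
      rw [Subgroup.relIndex_eq_one] at h1
      exact hneg (h1 (Subgroup.mem_sup_right negOne_mem_ker))
    have hdvd : (Omega F ⇑Q).relIndex (Omega F ⇑Q ⊔ (conjO Q).ker) ∣ 2 := ⟨_, hmul.symm⟩
    rcases (Nat.prime_two.eq_one_or_self_of_dvd _ hdvd) with h1 | h1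
    · exact absurd h1 hne
    · rw [h1] at hmul
      omega

/-- the two cases of `relIndex_inn_psoAut` -/
theorem relIndex_inn_psoAut' (h2 : (2 : F) ≠ 0) (hQ : (polarBilin Q).Nondegenerate)
    (h : IsHypFamily Q α β) (hi : 3 ≤ i) (h5 : 5 ≤ Fintype.card ι)
    (heven : Even (Fintype.card ι)) :
    (negOne Q ∈ Omega F ⇑Q → (Inn (POmega F ⇑Q)).relIndex (psoAut F ⇑Q) = 2) ∧
    (negOne Q ∉ Omega F ⇑Q → (Inn (POmega F ⇑Q)).relIndex (psoAut F ⇑Q) = 1) := by
  classical
  have := relIndex_inn_psoAut h2 hQ h hi h5 heven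
  constructor
  · intro hn
    rw [this, if_pos hn]
  · intro hn
    rw [this, if_neg hn]

end index

end Cfsg.Agent.Lib.Helper5.OAut
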