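import Mathlib
import Cfsg.Prelude.Def_LieTypeDatum
import Cfsg.Agent.Lib.Helper5.OAut.Orth
import Cfsg.Agent.Lib.Helper5.OAut.SimCenter

set_option autoImplicit false

/-!
# Conjugation by similarities on `PΩ`
-/

namespace Cfsg.Agent.Lib.Helper5.OAut

open Cfsg Matrix QuadraticMap

section generic2

/-- restriction of automorphisms to a characteristic subgroup -/
noncomputable def restrictChar {G : Type*} [Group G] (K : Subgroup G) [hK : K.Characteristic] :
    MulAut G →* MulAut ↥K where
  toFun e :=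
    { toFun := fun k => ⟨e (k : G), by
        have := hK.fixed e
        have hk : (k : G) ∈ K.comap e.toMonoidHom := by rw [this]; exact k.2
        exact hk⟩
      invFun := fun k => ⟨e.symm (k : G), by
        have := hK.fixed e.symm
        have hk : (k : G) ∈ K.comap e.symm.toMonoidHom := by rw [this]; exact k.2
        exact hk⟩
      left_inv := fun k => by
        apply Subtype.ext
        exact e.symm_apply_apply (k : G)
      right_inv := fun k => by
        apply Subtype.ext
        exact e.apply_symm_apply (k : G)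
      map_mul' := fun a b => by
        apply Subtype.ext
        exact map_mul e (a : G) (b : G) }
  map_one' := by
    apply MulEquiv.ext
    intro k
    rfl
  map_mul' e₁ e₂ := by
    apply MulEquiv.ext
    intro k
    rfl

theorem restrictChar_apply {G : Type*} [Group G] (K : Subgroup G) [K.Characteristic]
    (e : MulAut G) (k : K) : ((restrictChar K e k : ↥K) : G) = e k := rfl

end generic2

section sim
variable {ι : Type} [Fintype ι] [DecidableEq ι] {F : Type*} [Field F]
  (Q : QuadraticForm F (ι → F))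

/-- conjugating an isometry by a similarity -/
theorem conj_mem_isometryGroup (g : GL ι F) (hg : g ∈ Geo.quadSimilarityGroup (F := F) ⇑Q)
    (s : GL ι F) (hs : s ∈ isometryGroup F ⇑Q) : g * s * g⁻¹ ∈ isometryGroup F ⇑Q := by
  rw [Cfsg.Agent.Lib.Helper5.OrthCard.mem_isometryGroup_iff] at hs ⊢
  obtain ⟨c, hc⟩ := hg
  obtain ⟨c', hc'⟩ := (Geo.quadSimilarityGroup (F := F) ⇑Q).inv_mem ⟨c, hc⟩
  intro v
  have h1 := hc' v
  have h2 := hc ((s : Matrix ι ι F) *ᵥ (((g⁻¹ : GL ι F) : Matrix ι ι F) *ᵥ v))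
  have h3 := hc (((g⁻¹ : GL ι F) : Matrix ι ι F) *ᵥ v)
  rw [Matrix.mulVec_mulVec, ← Units.val_mul, mul_inv_cancel, Units.val_one,
    Matrix.one_mulVec] at h3
  rw [Units.val_mul, Units.val_mul, ← Matrix.mulVec_mulVec, ← Matrix.mulVec_mulVec, h2, hs, ← h3]

/-- conjugation by similarities on the isometry group -/
noncomputable def simConjO :
    ↥(Geo.quadSimilarityGroup (F := F) ⇑Q) →* MulAut ↥(isometryGroup F ⇑Q) where
  toFun g :=
    { toFun := fun s => ⟨(g : GL ι F) * s * (g : GL ι F)⁻¹, conj_mem_isometryGroup Q g g.2 s s.2⟩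
      invFun := fun s => ⟨(g : GL ι F)⁻¹ * s * (g : GL ι F), by
        have := conj_mem_isometryGroup Q (g : GL ι F)⁻¹
          ((Geo.quadSimilarityGroup (F := F) ⇑Q).inv_mem g.2) s s.2
        rwa [inv_inv] at this⟩
      left_inv := fun s => by
        apply Subtype.ext
        show (g : GL ι F)⁻¹ * ((g : GL ι F) * s * (g : GL ι F)⁻¹) * (g : GL ι F) = s
        group
      right_inv := fun s => by
        apply Subtype.ext
        show (g : GL ι F) * ((g : GL ι F)⁻¹ * s * (g : GL ι F)) * (g : GL ι F)⁻¹ = s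
        group
      map_mul' := fun a b => by
        apply Subtype.ext
        show (g : GL ι F) * ((a : GL ι F) * b) * (g : GL ι F)⁻¹ =
          ((g : GL ι F) * a * (g : GL ι F)⁻¹) * ((g : GL ι F) * b * (g : GL ι F)⁻¹)
        group }
  map_one' := by
    apply MulEquiv.ext
    intro s
    apply Subtype.ext
    show (1 : GL ι F) * s * (1 : GL ι F)⁻¹ = s
    group
  map_mul' g h := by
    apply MulEquiv.ext
    intro s
    apply Subtype.ext
    show ((g : GL ι F) * h) * s * ((g : GL ι F) * h)⁻¹ =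
      (g : GL ι F) * ((h : GL ι F) * s * (h : GL ι F)⁻¹) * (g : GL ι F)⁻¹
    group

theorem simConjO_apply (g : ↥(Geo.quadSimilarityGroup (F := F) ⇑Q)) (s : ↥(isometryGroup F ⇑Q)) :
    ((simConjO Q g s : ↥(isometryGroup F ⇑Q)) : GL ι F) = (g : GL ι F) * s * (g : GL ι F)⁻¹ := rfl

/-- conjugation by similarities on `PΩ` -/
noncomputable def conjGO : ↥(Geo.quadSimilarityGroup (F := F) ⇑Q) →* MulAut (POmega F ⇑Q) :=
  (quotCenter ↥(Omega F ⇑Q)).comp ((restrictChar (Omega F ⇑Q)).comp (simConjO Q))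

theorem conjGO_mk (g : ↥(Geo.quadSimilarityGroup (F := F) ⇑Q)) (s : ↥(Omega F ⇑Q)) :
    conjGO Q g (QuotientGroup.mk s) =
      QuotientGroup.mk (restrictChar (Omega F ⇑Q) (simConjO Q g) s) := rfl

theorem conjGO_coe (g : ↥(Geo.quadSimilarityGroup (F := F) ⇑Q)) (s : ↥(Omega F ⇑Q)) :
    (((restrictChar (Omega F ⇑Q) (simConjO Q g) s : ↥(Omega F ⇑Q)) :
      ↥(isometryGroup F ⇑Q)) : GL ι F) = (g : GL ι F) * (s : ↥(isometryGroup F ⇑Q)) *
        (g : GL ι F)⁻¹ := rfl

end sim

end Cfsg.Agent.Lib.Helper5.OAut
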