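import Mathlib
import Cfsg.Prelude.Def_LieTypeDatum
import Cfsg.Agent.Lib.Helper5.OAut.Sim

set_option autoImplicit false

namespace Cfsg.Agent.Lib.Helper5.OAut

open Cfsg Matrix QuadraticMap

section mult
variable {ι : Type} [Fintype ι] [DecidableEq ι] {F : Type*} [Field F]
  (Q : QuadraticForm F (ι → F))

/-- the multiplier of a similarity, measured at a fixed vector -/
def mult (w₀ : ι → F) (g : GL ι F) : F := Q ((g : Matrix ι ι F) *ᵥ w₀)

variable {Q}

theorem mult_spec {w₀ : ι → F} (hw₀ : Q w₀ = 1) {g : GL ι F}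
    (hg : g ∈ Geo.quadSimilarityGroup (F := F) ⇑Q) (v : ι → F) :
    Q ((g : Matrix ι ι F) *ᵥ v) = mult Q w₀ g * Q v := by
  obtain ⟨c, hc⟩ := hg
  unfold mult
  rw [hc v, hc w₀, hw₀, mul_one]

theorem mult_ne_zero {w₀ : ι → F} (hw₀ : Q w₀ = 1) {g : GL ι F}
    (hg : g ∈ Geo.quadSimilarityGroup (F := F) ⇑Q) : mult Q w₀ g ≠ 0 := by
  obtain ⟨c, hc⟩ := hg
  unfold mult
  rw [hc w₀, hw₀, mul_one]
  exact c.ne_zero

theorem mult_mul {w₀ : ι → F} (hw₀ : Q w₀ = 1) {g h : GL ι F}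
    (hg : g ∈ Geo.quadSimilarityGroup (F := F) ⇑Q) :
    mult Q w₀ (g * h) = mult Q w₀ g * mult Q w₀ h := by
  unfold mult
  rw [Units.val_mul, ← Matrix.mulVec_mulVec, mult_spec hw₀ hg]
  rfl

theorem mult_of_isometry {w₀ : ι → F} (hw₀ : Q w₀ = 1) {g : GL ι F}
    (hg : g ∈ isometryGroup F ⇑Q) : mult Q w₀ g = 1 := by
  unfold mult
  rw [(Cfsg.Agent.Lib.Helper5.OrthCard.mem_isometryGroup_iff _ _).1 hg, hw₀]

theorem polar_sim {w₀ : ι → F} (hw₀ : Q w₀ = 1) {g : GL ι F}
    (hg : g ∈ Geo.quadSimilarityGroup (F := F) ⇑Q) (x y : ι → F) :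
    polar ⇑Q ((g : Matrix ι ι F) *ᵥ x) ((g : Matrix ι ι F) *ᵥ y) =
      mult Q w₀ g * polar ⇑Q x y := by
  unfold polar
  rw [← Matrix.mulVec_add, mult_spec hw₀ hg, mult_spec hw₀ hg, mult_spec hw₀ hg]
  ring

/-- the square of the determinant of a similarity -/
theorem det_sq_of_sim (hQ : (polarBilin Q).Nondegenerate) {w₀ : ι → F} (hw₀ : Q w₀ = 1)
    {g : GL ι F} (hg : g ∈ Geo.quadSimilarityGroup (F := F) ⇑Q) :
    (g : Matrix ι ι F).det ^ 2 = mult Q w₀ g ^ Fintype.card ι := by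
  have hB : (LinearMap.toMatrix₂' F (polarBilin Q)).det ≠ 0 := by
    rw [← Matrix.nondegenerate_iff_det_ne_zero]
    exact LinearMap.Nondegenerate.toMatrix₂' hQ
  have hcomp : (polarBilin Q).compl₁₂ (Matrix.toLin' (g : Matrix ι ι F))
      (Matrix.toLin' (g : Matrix ι ι F)) = mult Q w₀ g • polarBilin Q := by
    apply LinearMap.ext
    intro x
    apply LinearMap.ext
    intro y
    rw [LinearMap.compl₁₂_apply, Matrix.toLin'_apply, Matrix.toLin'_apply, polarBilin_apply_apply,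
      polar_sim hw₀ hg, LinearMap.smul_apply, LinearMap.smul_apply, polarBilin_apply_apply,
      smul_eq_mul]
  have h1 := LinearMap.toMatrix₂'_compl₁₂ (polarBilin Q) (Matrix.toLin' (g : Matrix ι ι F))
    (Matrix.toLin' (g : Matrix ι ι F))
  rw [hcomp, LinearMap.toMatrix'_toLin', map_smul] at h1
  have h2 := congrArg Matrix.det h1
  rw [Matrix.det_smul, Matrix.det_mul, Matrix.det_mul, Matrix.det_transpose] at h2
  apply mul_right_cancel₀ hB
  rw [h2]
  ring

end mult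

section chars
variable {ι : Type} [Fintype ι] [DecidableEq ι] {F : Type*} [Field F] [Fintype F]
  {Q : QuadraticForm F (ι → F)}

open Cfsg.Agent.Lib.Helper5.SpinorNorm

open Classical in
/-- the sign of `±1` -/
noncomputable def signOf (x : F) : ℤˣ := if x = 1 then 1 else -1

omit [Fintype F] in
theorem signOf_eq_one_iff (x : F) : signOf x = 1 ↔ x = 1 := by
  unfold signOf
  split_ifs with h
  · exact ⟨fun _ => h, fun _ => rfl⟩
  · constructor
    · intro h'
      exact absurd h' (by decide)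
    · intro h'
      exact absurd h' h

omit [Fintype F] in
theorem signOf_mul (h2 : (2 : F) ≠ 0) {x y : F} (hx : x * x = 1) (hy : y * y = 1) :
    signOf (x * y) = signOf x * signOf y := by
  have hne : (-1 : F) ≠ 1 := by
    intro h
    apply h2
    linear_combination -h
  have hcases : ∀ z : F, z * z = 1 → z = 1 ∨ z = -1 := by
    intro z hz
    have : (z - 1) * (z + 1) = 0 := by linear_combination hz
    rcases mul_eq_zero.1 this with h | h
    · left; linear_combination h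
    · right; linear_combination h
  have h11 : signOf (1 : F) = 1 := (signOf_eq_one_iff 1).2 rfl
  have hn1 : signOf (-1 : F) = -1 := by
    unfold signOf
    rw [if_neg hne]
  rcases hcases x hx with rfl | rfl <;> rcases hcases y hy with rfl | rfl
  · rw [mul_one, h11, mul_one]
  · rw [one_mul, h11, hn1, one_mul]
  · rw [mul_one, h11, hn1, mul_one]
  · rw [neg_mul_neg, mul_one, h11, hn1]
    rfl

/-- the determinant of a similarity divided by the right power of the multiplier -/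
noncomputable def detRatio (w₀ : ι → F) (m : ℕ) (g : GL ι F) : F :=
  (g : Matrix ι ι F).det * (mult Q w₀ g)⁻¹ ^ m

omit [Fintype F] in
theorem detRatio_sq (hQ : (polarBilin Q).Nondegenerate) {w₀ : ι → F} (hw₀ : Q w₀ = 1) {m : ℕ}
    (hcard : Fintype.card ι = 2 * m) {g : GL ι F}
    (hg : g ∈ Geo.quadSimilarityGroup (F := F) ⇑Q) :
    detRatio (Q := Q) w₀ m g * detRatio (Q := Q) w₀ m g = 1 := by
  have h1 := det_sq_of_sim hQ hw₀ hg
  have h0 := mult_ne_zero hw₀ hg
  rw [hcard, pow_mul] at h1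
  unfold detRatio
  have : (g : Matrix ι ι F).det * (mult Q w₀ g)⁻¹ ^ m * ((g : Matrix ι ι F).det *
      (mult Q w₀ g)⁻¹ ^ m) = (g : Matrix ι ι F).det ^ 2 * ((mult Q w₀ g)⁻¹ ^ 2) ^ m := by
    rw [← pow_mul, mul_comm 2 m, pow_mul]
    ring
  rw [this, h1, ← mul_pow, inv_pow, mul_inv_cancel₀ (pow_ne_zero 2 h0), one_pow]

omit [Fintype F] in
theorem detRatio_mul {w₀ : ι → F} (hw₀ : Q w₀ = 1) {m : ℕ} {g h : GL ι F}
    (hg : g ∈ Geo.quadSimilarityGroup (F := F) ⇑Q) :
    detRatio (Q := Q) w₀ m (g * h) = detRatio (Q := Q) w₀ m g * detRatio (Q := Q) w₀ m h := by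
  unfold detRatio
  rw [Units.val_mul, Matrix.det_mul, mult_mul hw₀ hg, mul_inv, mul_pow]
  ring

/-- the character of the similarity group with values in the Klein four group -/
noncomputable def chi (h2 : (2 : F) ≠ 0) (hQ : (polarBilin Q).Nondegenerate) (w₀ : ι → F)
    (hw₀ : Q w₀ = 1) (m : ℕ) (hcard : Fintype.card ι = 2 * m) :
    ↥(Geo.quadSimilarityGroup (F := F) ⇑Q) →* ℤˣ × ℤˣ :=
  MonoidHom.mk' (fun g => (sgn (mult Q w₀ (g : GL ι F)), signOf (detRatio (Q := Q) w₀ m g))) (by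
    intro g h
    show (sgn (mult Q w₀ ((g : GL ι F) * h)), signOf (detRatio (Q := Q) w₀ m ((g : GL ι F) * h))) =
      (sgn (mult Q w₀ (g : GL ι F)) * sgn (mult Q w₀ (h : GL ι F)),
        signOf (detRatio (Q := Q) w₀ m g) * signOf (detRatio (Q := Q) w₀ m h))
    rw [mult_mul hw₀ g.2, sgn_mul (mult_ne_zero hw₀ g.2) (mult_ne_zero hw₀ h.2),
      detRatio_mul hw₀ g.2, signOf_mul h2 (detRatio_sq hQ hw₀ hcard g.2)
        (detRatio_sq hQ hw₀ hcard h.2)])

theorem chi_apply (h2 : (2 : F) ≠ 0) (hQ : (polarBilin Q).Nondegenerate) (w₀ : ι → F)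
    (hw₀ : Q w₀ = 1) (m : ℕ) (hcard : Fintype.card ι = 2 * m)
    (g : ↥(Geo.quadSimilarityGroup (F := F) ⇑Q)) :
    chi h2 hQ w₀ hw₀ m hcard g =
      (sgn (mult Q w₀ (g : GL ι F)), signOf (detRatio (Q := Q) w₀ m g)) := rfl

end chars

end Cfsg.Agent.Lib.Helper5.OAut
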