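import Mathlib
import Cfsg.Prelude.Def_LieTypeDatum
import Cfsg.Agent.Lib.Helper5.OAut.SimChar

set_option autoImplicit false

namespace Cfsg.Agent.Lib.Helper5.OAut

open Cfsg Matrix QuadraticMap

section generic3

theorem quotCenter_eq_one_iff (H : Type*) [Group H] (e : MulAut H) :
    quotCenter H e = 1 ↔ ∀ h : H, h⁻¹ * e h ∈ Subgroup.center H := by
  constructor
  · intro he h
    have h1 := quotCenter_mk H e h
    rw [he, MulAut.one_apply] at h1
    exact QuotientGroup.eq.1 h1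
  · intro he
    ext x
    induction x using QuotientGroup.induction_on with
    | H x =>
      rw [quotCenter_mk, MulAut.one_apply]
      exact (QuotientGroup.eq.2 (he x)).symm

/-- descending a character along a homomorphism -/
theorem exists_lift_range {G A B : Type*} [Group G] [Group A] [Group B] (f : G →* A)
    (χ : G →* B) (hχ : Function.Surjective χ) (S : Subgroup G) (hker : χ.ker = S ⊔ f.ker) :
    ∃ φ : ↥f.range →* B, Function.Surjective φ ∧ φ.ker = (S.map f).subgroupOf f.range := by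
  have hle : f.rangeRestrict.ker ≤ χ.ker := by
    rw [MonoidHom.ker_rangeRestrict, hker]
    exact le_sup_right
  obtain ⟨φ, hφ⟩ : ∃ φ : ↥f.range →* B, ∀ g, φ (f.rangeRestrict g) = χ g :=
    ⟨f.rangeRestrict.liftOfSurjective f.rangeRestrict_surjective ⟨χ, hle⟩,
      fun g => MonoidHom.liftOfRightInverse_comp_apply _ _ _ _ g⟩
  refine ⟨φ, ?_, ?_⟩
  · intro b
    obtain ⟨g, rfl⟩ := hχ b
    exact ⟨f.rangeRestrict g, hφ g⟩
  · ext y
    obtain ⟨g, rfl⟩ := f.rangeRestrict_surjective y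
    rw [MonoidHom.mem_ker, hφ, ← MonoidHom.mem_ker, hker, Subgroup.mem_subgroupOf]
    show g ∈ S ⊔ f.ker ↔ f g ∈ S.map f
    constructor
    · intro hg
      have : f g ∈ (S ⊔ f.ker).map f := Subgroup.mem_map_of_mem f hg
      rw [Subgroup.map_sup, Subgroup.map_ker_self, sup_bot_eq] at this
      exact this
    · rintro ⟨s, hs, hsg⟩
      have h1 : s⁻¹ * g ∈ f.ker := by
        rw [MonoidHom.mem_ker, map_mul, map_inv, hsg, inv_mul_cancel]
      have : g = s * (s⁻¹ * g) := by group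
      rw [this]
      exact Subgroup.mul_mem_sup hs h1

end generic3

section main
variable {ι : Type} [Fintype ι] [DecidableEq ι] {F : Type*} [Field F]
  (Q : QuadraticForm F (ι → F))

theorem isometryGroup_le_sim : isometryGroup F ⇑Q ≤ Geo.quadSimilarityGroup (F := F) ⇑Q := by
  intro g hg
  exact ⟨1, fun v => by
    rw [(Cfsg.Agent.Lib.Helper5.OrthCard.mem_isometryGroup_iff _ _).1 hg, Units.val_one, one_mul]⟩

/-- the inclusion of the isometry group in the similarity group -/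
noncomputable def inclO : ↥(isometryGroup F ⇑Q) →* ↥(Geo.quadSimilarityGroup (F := F) ⇑Q) :=
  Subgroup.inclusion (isometryGroup_le_sim Q)

theorem inclO_coe (g : ↥(isometryGroup F ⇑Q)) : ((inclO Q g : ↥(Geo.quadSimilarityGroup (F := F) ⇑Q)) :
    GL ι F) = g := rfl

theorem conjGO_comp_inclO : (conjGO Q).comp (inclO Q) = conjO Q := by
  apply MonoidHom.ext
  intro g
  ext x
  induction x using QuotientGroup.induction_on with
  | H s =>
    rw [MonoidHom.comp_apply, conjGO_mk, conjO_mk]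
    congr 1

theorem pgoAut_eq : pgoAut F ⇑Q = (conjGO Q).range := by
  unfold pgoAut autSubgroupOf
  have hset : {β : MulAut (POmega F ⇑Q) | IsSimilarityInducedAutPOmega ⇑Q β} =
      ((conjGO Q).range : Set (MulAut (POmega F ⇑Q))) := by
    ext β
    constructor
    · rintro ⟨g, hg, hind⟩
      refine ⟨⟨g, hg⟩, ?_⟩
      ext x
      induction x using QuotientGroup.induction_on with
      | H s =>
        rw [conjGO_mk]
        symm
        apply hind
        rw [map_refl]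
        rfl
    · rintro ⟨g, rfl⟩
      refine ⟨(g : GL ι F), g.2, ?_⟩
      intro s s' hs
      rw [conjGO_mk]
      congr 1
      apply Subtype.ext
      apply Subtype.ext
      apply Units.ext
      rw [hs, map_refl]
      rfl
  rw [hset, Subgroup.closure_eq]

theorem psoAut_eq' : psoAut F ⇑Q = ((soSub Q).map (inclO Q)).map (conjGO Q) := by
  rw [psoAut_eq, Subgroup.map_map, conjGO_comp_inclO]

end main

section kerGO
variable {ι : Type} [Fintype ι] [DecidableEq ι] {F : Type*} [Field F] [Fintype F]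
  {Q : QuadraticForm F (ι → F)} {i : ℕ} {α β : Fin i → ι}

open Cfsg.Agent.Lib.Helper5.SpinorHyp Cfsg.Agent.Lib.Helper5.SpinorDiag
  Cfsg.Agent.Lib.Helper5.Siegel Cfsg.Agent.Lib.Helper5.SiegelComm
  Cfsg.Agent.Lib.Helper5.OmegaCenter Cfsg.Agent.Lib.Helper5.OmegaSimple
  Cfsg.Agent.Lib.Helper5.SpinorNorm Cfsg.Agent.Lib.Helper5.POmegaCard

omit [Fintype F] in
/-- scalar similarities act trivially -/
theorem mem_ker_conjGO_of_scalar (g : ↥(Geo.quadSimilarityGroup (F := F) ⇑Q)) (a : F)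
    (hga : ((g : GL ι F) : Matrix ι ι F) = a • 1) : g ∈ (conjGO Q).ker := by
  rw [MonoidHom.mem_ker]
  ext x
  induction x using QuotientGroup.induction_on with
  | H s =>
    rw [conjGO_mk, MulAut.one_apply]
    congr 1
    apply Subtype.ext
    apply Subtype.ext
    rw [conjGO_coe]
    have hcomm : (g : GL ι F) * ((s : ↥(isometryGroup F ⇑Q)) : GL ι F) =
        ((s : ↥(isometryGroup F ⇑Q)) : GL ι F) * (g : GL ι F) := by
      apply Units.ext
      rw [Units.val_mul, Units.val_mul, hga, Matrix.smul_mul, Matrix.mul_smul, Matrix.one_mul,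
        Matrix.mul_one]
    rw [hcomm, mul_assoc, mul_inv_cancel, mul_one]

/-- the kernel of the action of the similarity group on `PΩ` consists of scalars -/
theorem scalar_of_mem_ker_conjGO (hQ : (polarBilin Q).Nondegenerate) (h : IsHypFamily Q α β)
    (hi : 3 ≤ i) (h5 : 5 ≤ Fintype.card ι) {w₀ : ι → F} (hw₀ : Q w₀ = 1)
    (g : ↥(Geo.quadSimilarityGroup (F := F) ⇑Q)) (hg : g ∈ (conjGO Q).ker) :
    ∃ a : F, a * a = mult Q w₀ (g : GL ι F) ∧ ((g : GL ι F) : Matrix ι ι F) = a • 1 := by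
  have hperf : commutator ↥(Omega F ⇑Q) = ⊤ := perfect (Hyp.of_hypFamily hQ h hi h5)
  have h1 : quotCenter ↥(Omega F ⇑Q) (restrictChar (Omega F ⇑Q) (simConjO Q g)) = 1 := hg
  rw [quotCenter_eq_one_iff] at h1
  have hfix := eq_of_perfect_of_central hperf _ h1
  apply scalar_of_commute_siegelMatrix h (by omega) ((g : GL ι F) : Matrix ι ι F) _
    (mult Q w₀ (g : GL ι F)) (mult_ne_zero hw₀ g.2) (polar_sim hw₀ g.2)
  intro u v hu hv huv
  have hS : siegel Q u v hu hv huv 1 ∈ Omega F ⇑Q := siegel_mem_commutator hQ h hi u v hu hv huv 1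
  have h2 := hfix ⟨_, hS⟩
  have h3 : (g : GL ι F) * (siegel Q u v hu hv huv 1 : GL ι F) * (g : GL ι F)⁻¹ =
      (siegel Q u v hu hv huv 1 : GL ι F) := by
    have := congrArg (fun s : ↥(Omega F ⇑Q) => ((s : ↥(isometryGroup F ⇑Q)) : GL ι F)) h2
    exact this
  have h4 : (g : GL ι F) * (siegel Q u v hu hv huv 1 : GL ι F) =
      (siegel Q u v hu hv huv 1 : GL ι F) * (g : GL ι F) := by
    calc (g : GL ι F) * (siegel Q u v hu hv huv 1 : GL ι F)
        = (g : GL ι F) * (siegel Q u v hu hv huv 1 : GL ι F) * (g : GL ι F)⁻¹ * (g : GL ι F) := by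
          group
      _ = (siegel Q u v hu hv huv 1 : GL ι F) * (g : GL ι F) := by rw [h3]
  have h5' := congrArg (fun s : GL ι F => (s : Matrix ι ι F)) h4
  simp only [Units.val_mul] at h5'
  exact h5'

end kerGO

section klein

/-- sign to bit -/
def bitOf (u : ℤˣ) : ZMod 2 := if u = 1 then 0 else 1

theorem bitOf_mul : ∀ a b : ℤˣ, bitOf (a * b) = bitOf a + bitOf b := by decide

def kleinHom : ℤˣ × ℤˣ →* Multiplicative (ZMod 2 × ZMod 2) :=
  MonoidHom.mk' (fun p => Multiplicative.ofAdd (bitOf p.1, bitOf p.2)) (by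
    intro a b
    show Multiplicative.ofAdd (bitOf (a.1 * b.1), bitOf (a.2 * b.2)) =
      Multiplicative.ofAdd (bitOf a.1, bitOf a.2) * Multiplicative.ofAdd (bitOf b.1, bitOf b.2)
    rw [bitOf_mul, bitOf_mul]
    rfl)

theorem kleinHom_bijective : Function.Bijective kleinHom := by
  constructor
  · intro a b hab
    have h1 : bitOf a.1 = bitOf b.1 ∧ bitOf a.2 = bitOf b.2 := by
      have := congrArg Multiplicative.toAdd hab
      exact Prod.ext_iff.1 this
    have hinj : ∀ u v : ℤˣ, bitOf u = bitOf v → u = v := by decide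
    exact Prod.ext (hinj _ _ h1.1) (hinj _ _ h1.2)
  · intro y
    have hsurj : ∀ z : ZMod 2, ∃ u : ℤˣ, bitOf u = z := by decide
    obtain ⟨u, hu⟩ := hsurj (Multiplicative.toAdd y).1
    obtain ⟨v, hv⟩ := hsurj (Multiplicative.toAdd y).2
    refine ⟨(u, v), ?_⟩
    show Multiplicative.ofAdd (bitOf u, bitOf v) = y
    rw [hu, hv]
    rfl

end klein

section final
variable {ι : Type} [Fintype ι] [DecidableEq ι] {F : Type*} [Field F] [Fintype F]
  {Q : QuadraticForm F (ι → F)} {i : ℕ} {α β : Fin i → ι}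

open Cfsg.Agent.Lib.Helper5.SpinorHyp Cfsg.Agent.Lib.Helper5.SpinorDiag
  Cfsg.Agent.Lib.Helper5.Siegel Cfsg.Agent.Lib.Helper5.SiegelComm
  Cfsg.Agent.Lib.Helper5.OmegaCenter Cfsg.Agent.Lib.Helper5.OmegaSimple
  Cfsg.Agent.Lib.Helper5.SpinorNorm Cfsg.Agent.Lib.Helper5.POmegaCard
  Cfsg.Agent.Lib.Helper5.Refl

/-- the scalar matrix as an element of `GL` -/
noncomputable def scalarGL (ι : Type) [Fintype ι] [DecidableEq ι] {F : Type*} [Field F] (a : F)
    (ha : a ≠ 0) : GL ι F :=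
  ⟨a • 1, a⁻¹ • 1, by
    rw [Matrix.smul_mul, Matrix.mul_smul, Matrix.one_mul, smul_smul, mul_inv_cancel₀ ha, one_smul],
    by
    rw [Matrix.smul_mul, Matrix.mul_smul, Matrix.one_mul, smul_smul, inv_mul_cancel₀ ha, one_smul]⟩

omit [Fintype F] in
theorem scalarGL_mem (a : F) (ha : a ≠ 0) :
    scalarGL ι a ha ∈ Geo.quadSimilarityGroup (F := F) ⇑Q := by
  refine ⟨Units.mk0 (a * a) (mul_ne_zero ha ha), fun v => ?_⟩
  show Q ((a • (1 : Matrix ι ι F)) *ᵥ v) = a * a * Q v
  rw [Matrix.smul_mulVec, Matrix.one_mulVec, QuadraticMap.map_smul, smul_eq_mul]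

/-- the kernel of the Klein four character -/
theorem ker_chi (h2 : (2 : F) ≠ 0) (hQ : (polarBilin Q).Nondegenerate) (h : IsHypFamily Q α β)
    (hi : 3 ≤ i) (h5 : 5 ≤ Fintype.card ι) (w₀ : ι → F) (hw₀ : Q w₀ = 1) (m : ℕ)
    (hcard : Fintype.card ι = 2 * m) :
    (chi h2 hQ w₀ hw₀ m hcard).ker = (soSub Q).map (inclO Q) ⊔ (conjGO Q).ker := by
  apply le_antisymm
  · intro g hg
    rw [MonoidHom.mem_ker, chi_apply, Prod.mk_eq_one] at hg
    obtain ⟨hg1, hg2⟩ := hg
    rw [sgn_eq_one_iff] at hg1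
    rw [signOf_eq_one_iff] at hg2
    obtain ⟨l, hl⟩ := hg1
    have hm0 := mult_ne_zero hw₀ g.2
    have hl0 : l ≠ 0 := by
      rintro rfl
      rw [mul_zero] at hl
      exact hm0 hl
    obtain ⟨zs, hzs⟩ : ∃ zs : ↥(Geo.quadSimilarityGroup (F := F) ⇑Q),
        (zs : GL ι F) = scalarGL ι l hl0 := ⟨⟨_, scalarGL_mem l hl0⟩, rfl⟩
    have hzker : zs ∈ (conjGO Q).ker := mem_ker_conjGO_of_scalar zs l (by rw [hzs]; rfl)
    have hdet : ((g : GL ι F) : Matrix ι ι F).det = (l * l) ^ m := by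
      unfold detRatio at hg2
      rw [hl] at hg2
      have h0 : ((l * l)⁻¹ ^ m) ≠ 0 := pow_ne_zero _ (inv_ne_zero (mul_ne_zero hl0 hl0))
      have : ((g : GL ι F) : Matrix ι ι F).det * (l * l)⁻¹ ^ m * (l * l) ^ m = (l * l) ^ m := by
        rw [hg2, one_mul]
      rw [mul_assoc, ← mul_pow, inv_mul_cancel₀ (mul_ne_zero hl0 hl0), one_pow, mul_one] at this
      exact this
    have hz' : g * zs⁻¹ ∈ (soSub Q).map (inclO Q) := by
      have hmat : (((g * zs⁻¹ : ↥(Geo.quadSimilarityGroup (F := F) ⇑Q)) : GL ι F) :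
          Matrix ι ι F) = ((g : GL ι F) : Matrix ι ι F) * (l⁻¹ • 1) := by
        show ((g : GL ι F) * (zs : GL ι F)⁻¹ : GL ι F).1 = _
        rw [hzs]
        rfl
      have hO : ((g * zs⁻¹ : ↥(Geo.quadSimilarityGroup (F := F) ⇑Q)) : GL ι F) ∈
          isometryGroup F ⇑Q := by
        rw [Cfsg.Agent.Lib.Helper5.OrthCard.mem_isometryGroup_iff]
        intro v
        rw [hmat, ← Matrix.mulVec_mulVec, Matrix.smul_mulVec, Matrix.one_mulVec,
          mult_spec hw₀ g.2, QuadraticMap.map_smul, hl, smul_eq_mul]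
        field_simp
      refine ⟨⟨_, hO⟩, ?_, Subtype.ext rfl⟩
      rw [SetLike.mem_coe, mem_soSub_iff]
      show (((g * zs⁻¹ : ↥(Geo.quadSimilarityGroup (F := F) ⇑Q)) : GL ι F) :
          Matrix ι ι F).det = 1
      rw [hmat, Matrix.det_mul, Matrix.det_smul, Matrix.det_one, mul_one, hdet, hcard, pow_mul,
        ← mul_pow, inv_pow, pow_two, mul_inv_cancel₀ (mul_ne_zero hl0 hl0), one_pow]
    have hg' : g = g * zs⁻¹ * zs := by group
    rw [hg']
    exact Subgroup.mul_mem_sup hz' hzker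
  · apply sup_le
    · rintro _ ⟨z, hz, rfl⟩
      rw [SetLike.mem_coe, mem_soSub_iff] at hz
      rw [MonoidHom.mem_ker, chi_apply, Prod.mk_eq_one]
      have hm1 : mult Q w₀ ((inclO Q z : ↥(Geo.quadSimilarityGroup (F := F) ⇑Q)) : GL ι F) = 1 :=
        mult_of_isometry hw₀ z.2
      constructor
      · rw [hm1]
        exact sgn_one
      · rw [signOf_eq_one_iff]
        unfold detRatio
        rw [hm1, inv_one, one_pow, mul_one]
        exact hz
    · intro g hg
      obtain ⟨a, ha, hga⟩ := scalar_of_mem_ker_conjGO hQ h hi h5 hw₀ g hg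
      have hm0 := mult_ne_zero hw₀ g.2
      have ha0 : a ≠ 0 := by
        rintro rfl
        rw [mul_zero] at ha
        exact hm0 ha.symm
      rw [MonoidHom.mem_ker, chi_apply, Prod.mk_eq_one]
      constructor
      · rw [sgn_eq_one_iff]
        exact ⟨a, ha.symm⟩
      · rw [signOf_eq_one_iff]
        unfold detRatio
        rw [hga, ← ha, Matrix.det_smul, Matrix.det_one, mul_one, hcard, pow_mul, ← mul_pow,
          pow_two, mul_inv_cancel₀ (mul_ne_zero ha0 ha0), one_pow]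

/-- the Klein four character is onto -/
theorem chi_surjective (h2 : (2 : F) ≠ 0) (hQ : (polarBilin Q).Nondegenerate) (w₀ : ι → F)
    (hw₀ : Q w₀ = 1) (m : ℕ) (hcard : Fintype.card ι = 2 * m)
    (hns : ∃ g₁ : ↥(Geo.quadSimilarityGroup (F := F) ⇑Q), ¬ IsSquare (mult Q w₀ (g₁ : GL ι F))) :
    Function.Surjective (chi h2 hQ w₀ hw₀ m hcard) := by
  obtain ⟨g₁, hg₁⟩ := hns
  have hne : (-1 : F) ≠ 1 := by
    intro h
    apply h2
    linear_combination -h
  have hw0 : Q w₀ ≠ 0 := by rw [hw₀]; exact one_ne_zero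
  obtain ⟨r, hr⟩ : ∃ r : ↥(Geo.quadSimilarityGroup (F := F) ⇑Q),
      chi h2 hQ w₀ hw₀ m hcard r = (1, -1) := by
    refine ⟨inclO Q (reflection Q w₀ hw0), ?_⟩
    rw [chi_apply]
    have hm1 : mult Q w₀ ((inclO Q (reflection Q w₀ hw0) :
        ↥(Geo.quadSimilarityGroup (F := F) ⇑Q)) : GL ι F) = 1 :=
      mult_of_isometry hw₀ (reflection Q w₀ hw0).2
    have hdet : (((inclO Q (reflection Q w₀ hw0) :
        ↥(Geo.quadSimilarityGroup (F := F) ⇑Q)) : GL ι F) : Matrix ι ι F).det = -1 :=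
      reflection_det Q w₀ hw0
    unfold detRatio
    rw [hm1, hdet, inv_one, one_pow, mul_one, sgn_one]
    congr 1
    unfold signOf
    rw [if_neg hne]
  obtain ⟨ε, hε⟩ : ∃ ε : ℤˣ, chi h2 hQ w₀ hw₀ m hcard g₁ = (-1, ε) := by
    refine ⟨signOf (detRatio (Q := Q) w₀ m g₁), ?_⟩
    rw [chi_apply, sgn_of_not_isSquare hg₁]
  rintro ⟨x, y⟩
  rcases Int.units_eq_one_or x with rfl | rfl
  · rcases Int.units_eq_one_or y with rfl | rfl
    · exact ⟨1, map_one _⟩
    · exact ⟨r, hr⟩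
  · by_cases hy : y = ε
    · exact ⟨g₁, by rw [hε, hy]⟩
    · refine ⟨g₁ * r, ?_⟩
      rw [map_mul, hε, hr]
      have : y = -ε := by
        rcases Int.units_eq_one_or y with rfl | rfl <;> rcases Int.units_eq_one_or ε with rfl | rfl
        · exact absurd rfl hy
        · rfl
        · rfl
        · exact absurd rfl hy
      rw [this]
      show ((-1 : ℤˣ) * 1, ε * -1) = (-1, -ε)
      rw [mul_one, mul_neg, mul_one]

/-- **`PGO / PSO` is a Klein four group** -/
theorem exists_pgo_mod_pso (h2 : (2 : F) ≠ 0) (hQ : (polarBilin Q).Nondegenerate)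
    (h : IsHypFamily Q α β) (hi : 3 ≤ i) (h5 : 5 ≤ Fintype.card ι) (w₀ : ι → F) (hw₀ : Q w₀ = 1)
    (m : ℕ) (hcard : Fintype.card ι = 2 * m)
    (hns : ∃ g₁ : ↥(Geo.quadSimilarityGroup (F := F) ⇑Q), ¬ IsSquare (mult Q w₀ (g₁ : GL ι F))) :
    ∃ φ : ↥(pgoAut F ⇑Q) →* Multiplicative (ZMod 2 × ZMod 2), Function.Surjective φ ∧
      φ.ker = (psoAut F ⇑Q).subgroupOf (pgoAut F ⇑Q) := by
  rw [pgoAut_eq, psoAut_eq']
  apply exists_lift_range (conjGO Q) (kleinHom.comp (chi h2 hQ w₀ hw₀ m hcard))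
  · exact kleinHom_bijective.2.comp (chi_surjective h2 hQ w₀ hw₀ m hcard hns)
  · rw [← ker_chi h2 hQ h hi h5 w₀ hw₀ m hcard]
    ext g
    rw [MonoidHom.mem_ker, MonoidHom.mem_ker, MonoidHom.comp_apply,
      map_eq_one_iff _ kleinHom_bijective.1]

end final

end Cfsg.Agent.Lib.Helper5.OAut
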