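import Mathlib
import Cfsg.Prelude.Def_LieTypeDatum
import Cfsg.Agent.Lib.Helper5.OAut.SimMain
import Cfsg.Agent.Lib.Helper5.OAut.D8

set_option autoImplicit false

/-! The image of the conformal orthogonal group in `Aut(PΩ)` modulo the inner automorphisms. -/

namespace Cfsg.Agent.Lib.Helper5.OAut

open Cfsg Matrix QuadraticMap Cfsg.Agent.Lib.Helper5.SpinorNorm Cfsg.Agent.Lib.Helper5.Refl

section simrefl
variable {ι : Type} [Fintype ι] [DecidableEq ι] {F : Type*} [Field F]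
  {Q : QuadraticForm F (ι → F)}

/-- conjugating a reflection matrix by a similarity -/
theorem reflectionMatrix_sim {w₀ : ι → F} (hw₀ : Q w₀ = 1) {g : GL ι F}
    (hg : g ∈ Geo.quadSimilarityGroup (F := F) ⇑Q) (v : ι → F) :
    (g : Matrix ι ι F) * reflectionMatrix ⇑Q v * ((g⁻¹ : GL ι F) : Matrix ι ι F) =
      reflectionMatrix ⇑Q ((g : Matrix ι ι F) *ᵥ v) := by
  rw [Matrix.ext_iff_mulVec]
  intro x
  rw [← mulVec_mulVec, ← mulVec_mulVec, reflectionMatrix_mulVec, reflectionMatrix_mulVec]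
  have hx : (g : Matrix ι ι F) *ᵥ (((g⁻¹ : GL ι F) : Matrix ι ι F) *ᵥ x) = x := by
    rw [mulVec_mulVec, ← Units.val_mul, mul_inv_cancel, Units.val_one, one_mulVec]
  have hp : polar ⇑Q ((g : Matrix ι ι F) *ᵥ v) x =
      mult Q w₀ g * polar ⇑Q v (((g⁻¹ : GL ι F) : Matrix ι ι F) *ᵥ x) := by
    rw [← polar_sim hw₀ hg, hx]
  rw [mulVec_sub, mulVec_smul, hx, hp, mult_spec hw₀ hg]
  congr 2
  have h0 := mult_ne_zero hw₀ hg
  by_cases hv : Q v = 0
  · rw [hv]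
    simp
  · field_simp

theorem rprod_sim {w₀ : ι → F} (hw₀ : Q w₀ = 1) {g : GL ι F}
    (hg : g ∈ Geo.quadSimilarityGroup (F := F) ⇑Q) (vs : List (ι → F)) :
    (g : Matrix ι ι F) * rprod Q vs * ((g⁻¹ : GL ι F) : Matrix ι ι F) =
      rprod Q (vs.map fun v => (g : Matrix ι ι F) *ᵥ v) := by
  have hinv : ((g⁻¹ : GL ι F) : Matrix ι ι F) * (g : Matrix ι ι F) = 1 := by
    rw [← Units.val_mul, inv_mul_cancel, Units.val_one]
  induction vs with
  | nil =>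
    rw [List.map_nil, rprod_nil, mul_one, ← Units.val_mul, mul_inv_cancel, Units.val_one]
  | cons v vs ih =>
    rw [List.map_cons, rprod_cons, rprod_cons, ← reflectionMatrix_sim hw₀ hg v, ← ih]
    calc (g : Matrix ι ι F) * (reflectionMatrix ⇑Q v * rprod Q vs) *
          ((g⁻¹ : GL ι F) : Matrix ι ι F)
        = (g : Matrix ι ι F) * reflectionMatrix ⇑Q v * 1 * rprod Q vs *
          ((g⁻¹ : GL ι F) : Matrix ι ι F) := by
          simp only [Matrix.mul_one, Matrix.mul_assoc]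
      _ = (g : Matrix ι ι F) * reflectionMatrix ⇑Q v * ((g⁻¹ : GL ι F) : Matrix ι ι F) *
          ((g : Matrix ι ι F) * rprod Q vs * ((g⁻¹ : GL ι F) : Matrix ι ι F)) := by
          rw [← hinv]
          simp only [Matrix.mul_assoc]

theorem isRep_simConjO {w₀ : ι → F} (hw₀ : Q w₀ = 1)
    (g : ↥(Geo.quadSimilarityGroup (F := F) ⇑Q)) {σ : ↥(isometryGroup F ⇑Q)}
    {vs : List (ι → F)} (h : IsRep Q σ vs) :
    IsRep Q (simConjO Q g σ) (vs.map fun v => ((g : GL ι F) : Matrix ι ι F) *ᵥ v) := by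
  refine ⟨?_, ?_⟩
  · intro v hv
    obtain ⟨u, hu, rfl⟩ := List.mem_map.1 hv
    rw [mult_spec hw₀ g.2]
    exact mul_ne_zero (mult_ne_zero hw₀ g.2) (h.1 u hu)
  · rw [← rprod_sim hw₀ g.2 vs, ← h.2]
    rfl

theorem prodQ_map_sim {w₀ : ι → F} (hw₀ : Q w₀ = 1) {g : GL ι F}
    (hg : g ∈ Geo.quadSimilarityGroup (F := F) ⇑Q) (vs : List (ι → F)) :
    ((vs.map fun v => (g : Matrix ι ι F) *ᵥ v).map Q).prod =
      mult Q w₀ g ^ vs.length * (vs.map Q).prod := by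
  induction vs with
  | nil => simp
  | cons v vs ih =>
    rw [List.map_cons, List.map_cons, List.prod_cons, ih, List.map_cons, List.prod_cons,
      List.length_cons, mult_spec hw₀ hg]
    ring

/-- **commutator of an isometry and a similarity**: it lies in `Ω` iff the corresponding power
of the multiplier is a square. -/
theorem comm_mem_Omega_iff [Fintype F] (h2 : (2 : F) ≠ 0) (hQ : (polarBilin Q).Nondegenerate)
    (hn : 2 ≤ Fintype.card ι) {w₀ : ι → F} (hw₀ : Q w₀ = 1)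
    (g : ↥(Geo.quadSimilarityGroup (F := F) ⇑Q)) (σ : ↥(isometryGroup F ⇑Q))
    (vs : List (ι → F)) (hrep : IsRep Q σ vs) :
    σ * (simConjO Q g σ)⁻¹ ∈ Omega F ⇑Q ↔ IsSquare (mult Q w₀ (g : GL ι F) ^ vs.length) := by
  have rep := isRep_mul Q hrep (isRep_inv Q (isRep_simConjO hw₀ g hrep))
  have hmem := mem_commutator_iff Q h2 hQ hn _ _ rep
  show σ * (simConjO Q g σ)⁻¹ ∈ commutator ↥(isometryGroup F ⇑Q) ↔ _
  rw [hmem]
  have hlen : Even (vs ++ (vs.map fun v => ((g : GL ι F) : Matrix ι ι F) *ᵥ v).reverse).length := by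
    rw [List.length_append, List.length_reverse, List.length_map]
    exact ⟨_, rfl⟩
  have hP := prodQ_ne_zero Q vs hrep.1
  have hprod : ((vs ++ (vs.map fun v => ((g : GL ι F) : Matrix ι ι F) *ᵥ v).reverse).map Q).prod =
      mult Q w₀ (g : GL ι F) ^ vs.length * ((vs.map Q).prod * (vs.map Q).prod) := by
    rw [List.map_append, List.prod_append, prodQ_reverse, prodQ_map_sim hw₀ g.2]
    ring
  rw [hprod]
  constructor
  · rintro ⟨-, a, ha⟩
    refine ⟨a / (vs.map Q).prod, ?_⟩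
    field_simp
    linear_combination ha
  · rintro ⟨a, ha⟩
    refine ⟨hlen, a * (vs.map Q).prod, ?_⟩
    rw [ha]
    ring

end simrefl

section genericD8

/-- recognising a dihedral quotient of the range of a homomorphism -/
theorem exists_dihedral_of_range {G A : Type*} [Group G] [Group A] (f : G →* A)
    (N : Subgroup A) [N.Normal] (hidx : N.relIndex f.range = 8) (a b : G)
    (ha : f (a * a) ∈ N) (hab : f (a * b * a⁻¹ * b⁻¹) ∉ N) :
    ∃ φ : ↥f.range →* DihedralGroup 4, Function.Surjective φ ∧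
      φ.ker = N.subgroupOf f.range := by
  have hcardE : Nat.card (↥f.range ⧸ N.subgroupOf f.range) = 8 := hidx
  obtain ⟨x, hx⟩ : ∃ x : ↥f.range, (x : A) = f a := ⟨⟨f a, ⟨a, rfl⟩⟩, rfl⟩
  obtain ⟨y, hy⟩ : ∃ y : ↥f.range, (y : A) = f b := ⟨⟨f b, ⟨b, rfl⟩⟩, rfl⟩
  have hs : (QuotientGroup.mk x : ↥f.range ⧸ N.subgroupOf f.range) * QuotientGroup.mk x = 1 := by
    rw [← QuotientGroup.mk_mul, QuotientGroup.eq_one_iff, Subgroup.mem_subgroupOf,
      Subgroup.coe_mul, hx, ← map_mul]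
    exact ha
  have hst : (QuotientGroup.mk x : ↥f.range ⧸ N.subgroupOf f.range) * QuotientGroup.mk y ≠
      QuotientGroup.mk y * QuotientGroup.mk x := by
    intro heq
    apply hab
    have h1 : (QuotientGroup.mk x : ↥f.range ⧸ N.subgroupOf f.range) * QuotientGroup.mk y *
        (QuotientGroup.mk x)⁻¹ * (QuotientGroup.mk y)⁻¹ = 1 := by
      rw [heq, mul_inv_cancel_right, mul_inv_cancel]
    have h2 : (QuotientGroup.mk (x * y * x⁻¹ * y⁻¹) : ↥f.range ⧸ N.subgroupOf f.range) = 1 := h1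
    have h3 := Subgroup.mem_subgroupOf.1 ((QuotientGroup.eq_one_iff _).1 h2)
    rw [map_mul, map_mul, map_mul, map_inv, map_inv, ← hx, ← hy]
    exact h3
  obtain ⟨e⟩ := exists_dihedral_equiv hcardE _ _ hs hst
  refine ⟨e.toMonoidHom.comp (QuotientGroup.mk' _), ?_, ?_⟩
  · exact e.surjective.comp (QuotientGroup.mk'_surjective _)
  · ext z
    rw [MonoidHom.mem_ker, MonoidHom.comp_apply]
    show e (QuotientGroup.mk z) = 1 ↔ _
    rw [e.map_eq_one_iff, QuotientGroup.eq_one_iff]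

end genericD8

section inn
variable {ι : Type} [Fintype ι] [DecidableEq ι] {F : Type*} [Field F] [Fintype F]
  {Q : QuadraticForm F (ι → F)} {i : ℕ} {α β : Fin i → ι}

open Cfsg.Agent.Lib.Helper5.SpinorHyp Cfsg.Agent.Lib.Helper5.SpinorDiag

/-- an isometry inducing an inner automorphism lies in `Ω` (when `-1 ∈ Ω`) -/
theorem mem_Omega_of_conjO_mem_inn (hQ : (polarBilin Q).Nondegenerate) (h : IsHypFamily Q α β)
    (hi : 3 ≤ i) (h5 : 5 ≤ Fintype.card ι) (hneg : negOne Q ∈ Omega F ⇑Q)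
    (c : ↥(isometryGroup F ⇑Q)) (hc : conjO Q c ∈ Inn (POmega F ⇑Q)) : c ∈ Omega F ⇑Q := by
  rw [inn_eq] at hc
  obtain ⟨ω, hω, hωc⟩ := hc
  have hker : ω⁻¹ * c ∈ (conjO Q).ker := by
    rw [MonoidHom.mem_ker, map_mul, map_inv, hωc, inv_mul_cancel]
  rcases ker_conjO_le hQ h hi h5 _ hker with h1 | h1
  · have : c = ω := by
      rw [← mul_one ω, ← h1, mul_inv_cancel_left]
    rw [this]
    exact hω
  · have : c = ω * negOne Q := by
      rw [← h1, mul_inv_cancel_left]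
    rw [this]
    exact Subgroup.mul_mem _ hω hneg

theorem inn_le_psoAut (h2 : (2 : F) ≠ 0) (hQ : (polarBilin Q).Nondegenerate) :
    Inn (POmega F ⇑Q) ≤ psoAut F ⇑Q := by
  rw [inn_eq, psoAut_eq]
  exact Subgroup.map_mono (Omega_le_soSub h2 hQ)

theorem psoAut_le_pgoAut : psoAut F ⇑Q ≤ pgoAut F ⇑Q := by
  rw [psoAut_eq', pgoAut_eq]
  exact Subgroup.map_le_range _ _

/-- when `-1 ∉ Ω` the image of `SO` is the inner automorphism group -/
theorem psoAut_eq_inn (h2 : (2 : F) ≠ 0) (hQ : (polarBilin Q).Nondegenerate)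
    (h : IsHypFamily Q α β) (hi : 3 ≤ i) (h5 : 5 ≤ Fintype.card ι)
    (heven : Even (Fintype.card ι)) (hneg : negOne Q ∉ Omega F ⇑Q) :
    psoAut F ⇑Q = Inn (POmega F ⇑Q) := by
  apply le_antisymm
  · exact Subgroup.relIndex_eq_one.1 ((relIndex_inn_psoAut' h2 hQ h hi h5 heven).2 hneg)
  · exact inn_le_psoAut h2 hQ

theorem reflection_mul_self' (v : ι → F) (hv : Q v ≠ 0) :
    reflection Q v hv * reflection Q v hv = 1 := by
  apply Subtype.ext
  apply Units.ext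
  exact reflection_mul_self Q v hv

theorem relIndex_pso_pgo (h2 : (2 : F) ≠ 0) (hQ : (polarBilin Q).Nondegenerate)
    (h : IsHypFamily Q α β) (hi : 3 ≤ i) (h5 : 5 ≤ Fintype.card ι) (w₀ : ι → F) (hw₀ : Q w₀ = 1)
    (m : ℕ) (hcard : Fintype.card ι = 2 * m)
    (hns : ∃ g₁ : ↥(Geo.quadSimilarityGroup (F := F) ⇑Q), ¬ IsSquare (mult Q w₀ (g₁ : GL ι F))) :
    (psoAut F ⇑Q).relIndex (pgoAut F ⇑Q) = 4 := by
  obtain ⟨φ₄, hφ₄s, hφ₄k⟩ := exists_pgo_mod_pso h2 hQ h hi h5 w₀ hw₀ m hcard hns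
  show ((psoAut F ⇑Q).subgroupOf (pgoAut F ⇑Q)).index = 4
  rw [← hφ₄k, Subgroup.index_ker, MonoidHom.range_eq_top.2 hφ₄s,
    Nat.card_congr (Subgroup.topEquiv (G := Multiplicative (ZMod 2 × ZMod 2))).toEquiv,
    Nat.card_eq_fintype_card]
  rfl

theorem relIndex_inn_pgo (h2 : (2 : F) ≠ 0) (hQ : (polarBilin Q).Nondegenerate)
    (h : IsHypFamily Q α β) (hi : 3 ≤ i) (h5 : 5 ≤ Fintype.card ι) (w₀ : ι → F) (hw₀ : Q w₀ = 1)
    (m : ℕ) (hcard : Fintype.card ι = 2 * m)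
    (hns : ∃ g₁ : ↥(Geo.quadSimilarityGroup (F := F) ⇑Q), ¬ IsSquare (mult Q w₀ (g₁ : GL ι F)))
    (hneg : negOne Q ∈ Omega F ⇑Q) :
    (Inn (POmega F ⇑Q)).relIndex (pgoAut F ⇑Q) = 8 := by
  have heven : Even (Fintype.card ι) := ⟨m, by rw [hcard]; ring⟩
  rw [← Subgroup.relIndex_mul_relIndex _ _ _ (inn_le_psoAut h2 hQ) psoAut_le_pgoAut,
    (relIndex_inn_psoAut' h2 hQ h hi h5 heven).1 hneg,
    relIndex_pso_pgo h2 hQ h hi h5 w₀ hw₀ m hcard hns]

/-- **`PGO`-image modulo `Inn` is dihedral of order 8 when `-1 ∈ Ω`** -/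
theorem exists_pgo_mod_inn_dihedral (h2 : (2 : F) ≠ 0) (hQ : (polarBilin Q).Nondegenerate)
    (h : IsHypFamily Q α β) (hi : 3 ≤ i) (h5 : 5 ≤ Fintype.card ι) (w₀ : ι → F) (hw₀ : Q w₀ = 1)
    (m : ℕ) (hcard : Fintype.card ι = 2 * m)
    (hns : ∃ g₁ : ↥(Geo.quadSimilarityGroup (F := F) ⇑Q), ¬ IsSquare (mult Q w₀ (g₁ : GL ι F)))
    (hneg : negOne Q ∈ Omega F ⇑Q) :
    ∃ φ : ↥(pgoAut F ⇑Q) →* DihedralGroup 4, Function.Surjective φ ∧
      φ.ker = (Inn (POmega F ⇑Q)).subgroupOf (pgoAut F ⇑Q) := by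
  have hI8 := relIndex_inn_pgo h2 hQ h hi h5 w₀ hw₀ m hcard hns hneg
  rw [pgoAut_eq] at hI8 ⊢
  obtain ⟨g₁, hg₁⟩ := hns
  have hw₀' : Q w₀ ≠ 0 := by
    rw [hw₀]
    exact one_ne_zero
  obtain ⟨σ, hσ⟩ : ∃ σ : ↥(isometryGroup F ⇑Q), σ = reflection Q w₀ hw₀' := ⟨_, rfl⟩
  have hσσ : σ * σ = 1 := by
    rw [hσ]
    exact reflection_mul_self' w₀ hw₀'
  have hrep : IsRep Q σ [w₀] := by
    rw [hσ]
    exact isRep_reflection Q w₀ hw₀'
  apply exists_dihedral_of_range (conjGO Q) (Inn (POmega F ⇑Q)) hI8 (inclO Q σ) g₁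
  · rw [← map_mul, hσσ, map_one, map_one]
    exact Subgroup.one_mem _
  · intro h3
    have h5' : inclO Q σ * g₁ * (inclO Q σ)⁻¹ * g₁⁻¹ = inclO Q (σ * (simConjO Q g₁ σ)⁻¹) := by
      apply Subtype.ext
      show ((σ : ↥(isometryGroup F ⇑Q)) : GL ι F) * (g₁ : GL ι F) *
        ((σ : ↥(isometryGroup F ⇑Q)) : GL ι F)⁻¹ * (g₁ : GL ι F)⁻¹ =
        ((σ : ↥(isometryGroup F ⇑Q)) : GL ι F) *
          ((g₁ : GL ι F) * ((σ : ↥(isometryGroup F ⇑Q)) : GL ι F) * (g₁ : GL ι F)⁻¹)⁻¹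
      group
    rw [h5'] at h3
    have h6 : conjGO Q (inclO Q (σ * (simConjO Q g₁ σ)⁻¹)) =
        conjO Q (σ * (simConjO Q g₁ σ)⁻¹) := by
      rw [← conjGO_comp_inclO]
      rfl
    rw [h6] at h3
    have h7 := mem_Omega_of_conjO_mem_inn hQ h hi h5 hneg _ h3
    rw [comm_mem_Omega_iff h2 hQ (by omega) hw₀ g₁ σ [w₀] hrep] at h7
    apply hg₁
    rw [List.length_singleton, pow_one] at h7
    exact h7

/-- **`PGO`-image modulo `Inn` is elementary abelian of order 4 when `-1 ∉ Ω`** -/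
theorem exists_pgo_mod_inn_klein (h2 : (2 : F) ≠ 0) (hQ : (polarBilin Q).Nondegenerate)
    (h : IsHypFamily Q α β) (hi : 3 ≤ i) (h5 : 5 ≤ Fintype.card ι) (w₀ : ι → F) (hw₀ : Q w₀ = 1)
    (m : ℕ) (hcard : Fintype.card ι = 2 * m)
    (hns : ∃ g₁ : ↥(Geo.quadSimilarityGroup (F := F) ⇑Q), ¬ IsSquare (mult Q w₀ (g₁ : GL ι F)))
    (hneg : negOne Q ∉ Omega F ⇑Q) :
    ∃ φ : ↥(pgoAut F ⇑Q) →* Multiplicative (ZMod 2 × ZMod 2), Function.Surjective φ ∧
      φ.ker = (Inn (POmega F ⇑Q)).subgroupOf (pgoAut F ⇑Q) := by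
  have heven : Even (Fintype.card ι) := ⟨m, by rw [hcard]; ring⟩
  rw [← psoAut_eq_inn h2 hQ h hi h5 heven hneg]
  exact exists_pgo_mod_pso h2 hQ h hi h5 w₀ hw₀ m hcard hns

end inn

end Cfsg.Agent.Lib.Helper5.OAut
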