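import Mathlib

set_option autoImplicit false

/-! Recognising quotients of order 2 and 4. -/

namespace Cfsg.Agent.Lib.Helper5.OAut

section abstract4
variable {E : Type*} [Group E]

theorem orderOf_cases4 (hcard : Nat.card E = 4) (x : E) :
    orderOf x = 1 ∨ orderOf x = 2 ∨ orderOf x = 4 := by
  have hd : orderOf x ∣ 4 := hcard ▸ orderOf_dvd_natCard x
  have hmem : orderOf x ∈ Nat.divisors 4 := Nat.mem_divisors.2 ⟨hd, by norm_num⟩
  have h4 : Nat.divisors 4 = {1, 2, 4} := by decide
  rw [h4] at hmem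
  simpa using hmem

/-- in a group of order four generated by `x`, an involution is `x ^ 2` -/
theorem eq_sq_of_orderOf_four (hcard : Nat.card E = 4) (x : E) (hx : orderOf x = 4) (a : E)
    (ha : a ≠ 1) (ha2 : a * a = 1) : a = x ^ 2 := by
  have hfin : Finite E := Nat.finite_of_card_ne_zero (by rw [hcard]; norm_num)
  have htop : Subgroup.zpowers x = ⊤ := by
    apply Subgroup.eq_top_of_card_eq
    rw [Nat.card_zpowers, hx, hcard]
  have hmem : a ∈ Subgroup.zpowers x := by
    rw [htop]
    exact Subgroup.mem_top a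
  have hx4 : x ^ 4 = 1 := by
    rw [← hx]
    exact pow_orderOf_eq_one x
  obtain ⟨k, hk⟩ := (mem_powers_iff_mem_zpowers (x := x) (y := a)).2 hmem
  have hk' : x ^ (k % 4) = a := by
    rw [← pow_eq_pow_mod _ hx4]
    exact hk
  have hlt : k % 4 < 4 := Nat.mod_lt _ (by norm_num)
  have hsq : x ^ (k % 4 + k % 4) = 1 := by
    rw [pow_add, hk']
    exact ha2
  have hdvd : 4 ∣ k % 4 + k % 4 := by
    have := orderOf_dvd_of_pow_eq_one hsq
    rw [hx] at this
    exact this
  have h02 : k % 4 = 0 ∨ k % 4 = 2 := by omega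
  rcases h02 with h0 | h2
  · exfalso
    apply ha
    rw [← hk', h0, pow_zero]
  · rw [← hk', h2]

/-- a group of order four with two distinct involutions is a Klein four group -/
theorem isKleinFour_of (hcard : Nat.card E = 4) (a b : E) (ha : a ≠ 1) (hb : b ≠ 1)
    (hab : a ≠ b) (ha2 : a * a = 1) (hb2 : b * b = 1) : IsKleinFour E := by
  have hall : ∀ x : E, x ^ 2 = 1 := by
    intro x
    rcases orderOf_cases4 hcard x with h1 | h2 | h4
    · rw [orderOf_eq_one_iff.1 h1, one_pow]
    · rw [← h2]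
      exact pow_orderOf_eq_one x
    · exfalso
      apply hab
      rw [eq_sq_of_orderOf_four hcard x h4 a ha ha2, eq_sq_of_orderOf_four hcard x h4 b hb hb2]
  refine ⟨hcard, ?_⟩
  have hd : Monoid.exponent E ∣ 2 := Monoid.exponent_dvd_of_forall_pow_eq_one hall
  rcases (Nat.prime_two.eq_one_or_self_of_dvd _ hd) with h1 | h2
  · exfalso
    rw [Monoid.exp_eq_one_iff] at h1
    exact ha (Subsingleton.elim a 1)
  · exact h2

end abstract4

section quot
variable {A B : Type*} [Group A] [Group B]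

/-- a homomorphism from a subgroup with prescribed kernel from an isomorphism of the quotient -/
theorem exists_hom_of_quotient_equiv (P N : Subgroup A) [N.Normal]
    (e : (↥P ⧸ N.subgroupOf P) ≃* B) :
    ∃ φ : ↥P →* B, Function.Surjective φ ∧ φ.ker = N.subgroupOf P := by
  refine ⟨e.toMonoidHom.comp (QuotientGroup.mk' _), ?_, ?_⟩
  · exact e.surjective.comp (QuotientGroup.mk'_surjective _)
  · ext z
    rw [MonoidHom.mem_ker, MonoidHom.comp_apply]
    show e (QuotientGroup.mk z) = 1 ↔ _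
    rw [e.map_eq_one_iff, QuotientGroup.eq_one_iff]

/-- a quotient of order two -/
theorem exists_hom_two (P N : Subgroup A) [N.Normal] (hidx : N.relIndex P = 2) :
    ∃ φ : ↥P →* Multiplicative (ZMod 2), Function.Surjective φ ∧ φ.ker = N.subgroupOf P := by
  have hcardE : Nat.card (↥P ⧸ N.subgroupOf P) = 2 := hidx
  have : Fact (Nat.Prime 2) := ⟨Nat.prime_two⟩
  have hcyc : IsCyclic (↥P ⧸ N.subgroupOf P) := isCyclic_of_prime_card hcardE
  exact exists_hom_of_quotient_equiv P N (mulEquivOfCyclicCardEq (by rw [hcardE]; simp))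

/-- a cyclic quotient of order four -/
theorem exists_hom_four_cyclic (P N : Subgroup A) [N.Normal] (hidx : N.relIndex P = 4)
    (x : A) (hxP : x ∈ P) (hx : x * x ∉ N) :
    ∃ φ : ↥P →* Multiplicative (ZMod 4), Function.Surjective φ ∧ φ.ker = N.subgroupOf P := by
  have hcardE : Nat.card (↥P ⧸ N.subgroupOf P) = 4 := hidx
  have hfin : Finite (↥P ⧸ N.subgroupOf P) :=
    Nat.finite_of_card_ne_zero (by rw [hcardE]; norm_num)
  have hord : orderOf (QuotientGroup.mk ⟨x, hxP⟩ : ↥P ⧸ N.subgroupOf P) = 4 := by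
    rcases orderOf_cases4 hcardE (QuotientGroup.mk ⟨x, hxP⟩ : ↥P ⧸ N.subgroupOf P) with
      h1 | h2 | h4
    · exfalso
      apply hx
      rw [orderOf_eq_one_iff, QuotientGroup.eq_one_iff, Subgroup.mem_subgroupOf] at h1
      exact N.mul_mem h1 h1
    · exfalso
      apply hx
      have h3 := pow_orderOf_eq_one (QuotientGroup.mk ⟨x, hxP⟩ : ↥P ⧸ N.subgroupOf P)
      rw [h2, pow_two, ← QuotientGroup.mk_mul, QuotientGroup.eq_one_iff,
        Subgroup.mem_subgroupOf] at h3
      exact h3
    · exact h4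
  have hcyc : IsCyclic (↥P ⧸ N.subgroupOf P) :=
    isCyclic_of_orderOf_eq_card _ (by rw [hord, hcardE])
  exact exists_hom_of_quotient_equiv P N (mulEquivOfCyclicCardEq (by rw [hcardE]; simp))

/-- a Klein four quotient -/
theorem exists_hom_four_klein (P N : Subgroup A) [N.Normal] (hidx : N.relIndex P = 4)
    (x y : A) (hxP : x ∈ P) (hyP : y ∈ P) (hx : x ∉ N) (hy : y ∉ N) (hxy : x⁻¹ * y ∉ N)
    (hx2 : x * x ∈ N) (hy2 : y * y ∈ N) :
    ∃ φ : ↥P →* Multiplicative (ZMod 2 × ZMod 2),
      Function.Surjective φ ∧ φ.ker = N.subgroupOf P := by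
  have hcardE : Nat.card (↥P ⧸ N.subgroupOf P) = 4 := hidx
  have hK : IsKleinFour (↥P ⧸ N.subgroupOf P) := by
    apply isKleinFour_of hcardE (QuotientGroup.mk ⟨x, hxP⟩) (QuotientGroup.mk ⟨y, hyP⟩)
    · intro h
      apply hx
      rw [QuotientGroup.eq_one_iff, Subgroup.mem_subgroupOf] at h
      exact h
    · intro h
      apply hy
      rw [QuotientGroup.eq_one_iff, Subgroup.mem_subgroupOf] at h
      exact h
    · intro h
      apply hxy
      rw [QuotientGroup.eq, Subgroup.mem_subgroupOf] at h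
      exact h
    · rw [← QuotientGroup.mk_mul, QuotientGroup.eq_one_iff, Subgroup.mem_subgroupOf]
      exact hx2
    · rw [← QuotientGroup.mk_mul, QuotientGroup.eq_one_iff, Subgroup.mem_subgroupOf]
      exact hy2
  obtain ⟨e⟩ := IsKleinFour.nonempty_mulEquiv (G₁ := ↥P ⧸ N.subgroupOf P)
    (G₂ := Multiplicative (ZMod 2 × ZMod 2))
  exact exists_hom_of_quotient_equiv P N e

end quot

end Cfsg.Agent.Lib.Helper5.OAut
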