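import Mathlib
import Cfsg.Prelude.Def_LieTypeDatum
import Cfsg.Agent.Lib.Helper5.OAut.PgoInn
import Cfsg.Agent.Lib.Helper5.OAut.SmallQuot

set_option autoImplicit false

/-! The image in `Aut(PΩ)` of the similarities with `det = μ^m`, modulo inner automorphisms. -/

namespace Cfsg.Agent.Lib.Helper5.OAut

open Cfsg Matrix QuadraticMap Cfsg.Agent.Lib.Helper5.SpinorNorm Cfsg.Agent.Lib.Helper5.Refl

section generic
variable {ι : Type} [Fintype ι] [DecidableEq ι] {F : Type*} [Field F] [Fintype F]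
  {Q : QuadraticForm F (ι → F)} {i : ℕ} {α β : Fin i → ι}

open Cfsg.Agent.Lib.Helper5.SpinorHyp Cfsg.Agent.Lib.Helper5.SpinorDiag

/-- the similarities with determinant ratio one -/
noncomputable def goZero (h2 : (2 : F) ≠ 0) (hQ : (polarBilin Q).Nondegenerate) (w₀ : ι → F)
    (hw₀ : Q w₀ = 1) (m : ℕ) (hcard : Fintype.card ι = 2 * m) :
    Subgroup ↥(Geo.quadSimilarityGroup (F := F) ⇑Q) :=
  ((MonoidHom.snd ℤˣ ℤˣ).comp (chi h2 hQ w₀ hw₀ m hcard)).ker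

theorem mem_goZero_iff (h2 : (2 : F) ≠ 0) (hQ : (polarBilin Q).Nondegenerate) (w₀ : ι → F)
    (hw₀ : Q w₀ = 1) (m : ℕ) (hcard : Fintype.card ι = 2 * m)
    (g : ↥(Geo.quadSimilarityGroup (F := F) ⇑Q)) :
    g ∈ goZero h2 hQ w₀ hw₀ m hcard ↔ detRatio (Q := Q) w₀ m (g : GL ι F) = 1 := by
  unfold goZero
  rw [MonoidHom.mem_ker, MonoidHom.comp_apply, chi_apply, MonoidHom.coe_snd, signOf_eq_one_iff]

theorem index_goZero (h2 : (2 : F) ≠ 0) (hQ : (polarBilin Q).Nondegenerate) (w₀ : ι → F)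
    (hw₀ : Q w₀ = 1) (m : ℕ) (hcard : Fintype.card ι = 2 * m)
    (hns : ∃ g₁ : ↥(Geo.quadSimilarityGroup (F := F) ⇑Q), ¬ IsSquare (mult Q w₀ (g₁ : GL ι F))) :
    (goZero h2 hQ w₀ hw₀ m hcard).index = 2 := by
  unfold goZero
  have hsurj : Function.Surjective ((MonoidHom.snd ℤˣ ℤˣ).comp (chi h2 hQ w₀ hw₀ m hcard)) :=
    Prod.snd_surjective.comp (chi_surjective h2 hQ w₀ hw₀ m hcard hns)
  rw [Subgroup.index_ker, MonoidHom.range_eq_top.2 hsurj,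
    Nat.card_congr (Subgroup.topEquiv (G := ℤˣ)).toEquiv, Nat.card_eq_fintype_card,
    Fintype.card_units_int]

theorem ker_chi_le_goZero (h2 : (2 : F) ≠ 0) (hQ : (polarBilin Q).Nondegenerate) (w₀ : ι → F)
    (hw₀ : Q w₀ = 1) (m : ℕ) (hcard : Fintype.card ι = 2 * m) :
    (chi h2 hQ w₀ hw₀ m hcard).ker ≤ goZero h2 hQ w₀ hw₀ m hcard := by
  intro g hg
  unfold goZero
  rw [MonoidHom.mem_ker, MonoidHom.comp_apply, (MonoidHom.mem_ker).1 hg]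
  rfl

theorem ker_conjGO_le_goZero (h2 : (2 : F) ≠ 0) (hQ : (polarBilin Q).Nondegenerate)
    (h : IsHypFamily Q α β) (hi : 3 ≤ i) (h5 : 5 ≤ Fintype.card ι) (w₀ : ι → F)
    (hw₀ : Q w₀ = 1) (m : ℕ) (hcard : Fintype.card ι = 2 * m) :
    (conjGO Q).ker ≤ goZero h2 hQ w₀ hw₀ m hcard := by
  refine le_trans ?_ (ker_chi_le_goZero h2 hQ w₀ hw₀ m hcard)
  rw [ker_chi h2 hQ h hi h5 w₀ hw₀ m hcard]
  exact le_sup_right

theorem soSub_map_le_goZero (h2 : (2 : F) ≠ 0) (hQ : (polarBilin Q).Nondegenerate)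
    (h : IsHypFamily Q α β) (hi : 3 ≤ i) (h5 : 5 ≤ Fintype.card ι) (w₀ : ι → F)
    (hw₀ : Q w₀ = 1) (m : ℕ) (hcard : Fintype.card ι = 2 * m) :
    (soSub Q).map (inclO Q) ≤ goZero h2 hQ w₀ hw₀ m hcard := by
  refine le_trans ?_ (ker_chi_le_goZero h2 hQ w₀ hw₀ m hcard)
  rw [ker_chi h2 hQ h hi h5 w₀ hw₀ m hcard]
  exact le_sup_left

/-- the image of `goZero` in the automorphism group -/
noncomputable def inndiagAut (h2 : (2 : F) ≠ 0) (hQ : (polarBilin Q).Nondegenerate) (w₀ : ι → F)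
    (hw₀ : Q w₀ = 1) (m : ℕ) (hcard : Fintype.card ι = 2 * m) :
    Subgroup (MulAut (POmega F ⇑Q)) :=
  (goZero h2 hQ w₀ hw₀ m hcard).map (conjGO Q)

theorem psoAut_le_inndiagAut (h2 : (2 : F) ≠ 0) (hQ : (polarBilin Q).Nondegenerate)
    (h : IsHypFamily Q α β) (hi : 3 ≤ i) (h5 : 5 ≤ Fintype.card ι) (w₀ : ι → F)
    (hw₀ : Q w₀ = 1) (m : ℕ) (hcard : Fintype.card ι = 2 * m) :
    psoAut F ⇑Q ≤ inndiagAut h2 hQ w₀ hw₀ m hcard := by
  rw [psoAut_eq']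
  exact Subgroup.map_mono (soSub_map_le_goZero h2 hQ h hi h5 w₀ hw₀ m hcard)

theorem inndiagAut_le_pgoAut (h2 : (2 : F) ≠ 0) (hQ : (polarBilin Q).Nondegenerate) (w₀ : ι → F)
    (hw₀ : Q w₀ = 1) (m : ℕ) (hcard : Fintype.card ι = 2 * m) :
    inndiagAut h2 hQ w₀ hw₀ m hcard ≤ pgoAut F ⇑Q := by
  rw [pgoAut_eq]
  exact Subgroup.map_le_range _ _

theorem relIndex_inndiagAut_pgoAut (h2 : (2 : F) ≠ 0) (hQ : (polarBilin Q).Nondegenerate)
    (h : IsHypFamily Q α β) (hi : 3 ≤ i) (h5 : 5 ≤ Fintype.card ι) (w₀ : ι → F)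
    (hw₀ : Q w₀ = 1) (m : ℕ) (hcard : Fintype.card ι = 2 * m)
    (hns : ∃ g₁ : ↥(Geo.quadSimilarityGroup (F := F) ⇑Q), ¬ IsSquare (mult Q w₀ (g₁ : GL ι F))) :
    (inndiagAut h2 hQ w₀ hw₀ m hcard).relIndex (pgoAut F ⇑Q) = 2 := by
  unfold inndiagAut
  rw [pgoAut_eq, MonoidHom.range_eq_map, Subgroup.relIndex_map_map, top_sup_eq,
    Subgroup.relIndex_top_right,
    sup_eq_left.2 (ker_conjGO_le_goZero h2 hQ h hi h5 w₀ hw₀ m hcard)]
  exact index_goZero h2 hQ w₀ hw₀ m hcard hns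

theorem inn_le_inndiagAut (h2 : (2 : F) ≠ 0) (hQ : (polarBilin Q).Nondegenerate)
    (h : IsHypFamily Q α β) (hi : 3 ≤ i) (h5 : 5 ≤ Fintype.card ι) (w₀ : ι → F)
    (hw₀ : Q w₀ = 1) (m : ℕ) (hcard : Fintype.card ι = 2 * m) :
    Inn (POmega F ⇑Q) ≤ inndiagAut h2 hQ w₀ hw₀ m hcard :=
  le_trans (inn_le_psoAut h2 hQ) (psoAut_le_inndiagAut h2 hQ h hi h5 w₀ hw₀ m hcard)

theorem relIndex_inn_inndiagAut (h2 : (2 : F) ≠ 0) (hQ : (polarBilin Q).Nondegenerate)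
    (h : IsHypFamily Q α β) (hi : 3 ≤ i) (h5 : 5 ≤ Fintype.card ι) (w₀ : ι → F)
    (hw₀ : Q w₀ = 1) (m : ℕ) (hcard : Fintype.card ι = 2 * m)
    (hns : ∃ g₁ : ↥(Geo.quadSimilarityGroup (F := F) ⇑Q), ¬ IsSquare (mult Q w₀ (g₁ : GL ι F))) :
    (negOne Q ∈ Omega F ⇑Q →
      (Inn (POmega F ⇑Q)).relIndex (inndiagAut h2 hQ w₀ hw₀ m hcard) = 4) ∧
    (negOne Q ∉ Omega F ⇑Q →
      (Inn (POmega F ⇑Q)).relIndex (inndiagAut h2 hQ w₀ hw₀ m hcard) = 2) := by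
  have heven : Even (Fintype.card ι) := ⟨m, by rw [hcard]; ring⟩
  have hmul := Subgroup.relIndex_mul_relIndex _ _ _
    (inn_le_inndiagAut h2 hQ h hi h5 w₀ hw₀ m hcard)
    (inndiagAut_le_pgoAut h2 hQ w₀ hw₀ m hcard)
  rw [relIndex_inndiagAut_pgoAut h2 hQ h hi h5 w₀ hw₀ m hcard hns] at hmul
  constructor
  · intro hneg
    rw [relIndex_inn_pgo h2 hQ h hi h5 w₀ hw₀ m hcard hns hneg] at hmul
    omega
  · intro hneg
    rw [← psoAut_eq_inn h2 hQ h hi h5 heven hneg,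
      relIndex_pso_pgo h2 hQ h hi h5 w₀ hw₀ m hcard hns] at hmul
    rw [← psoAut_eq_inn h2 hQ h hi h5 heven hneg]
    omega

/-- similarities inducing inner automorphisms have square multiplier -/
theorem isSquare_mult_of_conjGO_mem_inn (h2 : (2 : F) ≠ 0) (hQ : (polarBilin Q).Nondegenerate)
    (h : IsHypFamily Q α β) (hi : 3 ≤ i) (h5 : 5 ≤ Fintype.card ι) (w₀ : ι → F)
    (hw₀ : Q w₀ = 1) (m : ℕ) (hcard : Fintype.card ι = 2 * m)
    (g : ↥(Geo.quadSimilarityGroup (F := F) ⇑Q)) (hg : conjGO Q g ∈ Inn (POmega F ⇑Q)) :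
    IsSquare (mult Q w₀ (g : GL ι F)) := by
  have h1 : conjGO Q g ∈ psoAut F ⇑Q := inn_le_psoAut h2 hQ hg
  rw [psoAut_eq'] at h1
  obtain ⟨z, hz, hzg⟩ := h1
  have hker : z⁻¹ * g ∈ (conjGO Q).ker := by
    rw [MonoidHom.mem_ker, map_mul, map_inv, hzg, inv_mul_cancel]
  have hmem : g ∈ (chi h2 hQ w₀ hw₀ m hcard).ker := by
    rw [ker_chi h2 hQ h hi h5 w₀ hw₀ m hcard]
    have : g = z * (z⁻¹ * g) := by rw [mul_inv_cancel_left]
    rw [this]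
    exact Subgroup.mul_mem_sup hz hker
  rw [MonoidHom.mem_ker, chi_apply, Prod.mk_eq_one] at hmem
  exact sgn_eq_one_iff.1 hmem.1

/-- **the case `-1 ∉ Ω`**: the quotient has order two -/
theorem exists_inndiag_mod_inn_two (h2 : (2 : F) ≠ 0) (hQ : (polarBilin Q).Nondegenerate)
    (h : IsHypFamily Q α β) (hi : 3 ≤ i) (h5 : 5 ≤ Fintype.card ι) (w₀ : ι → F)
    (hw₀ : Q w₀ = 1) (m : ℕ) (hcard : Fintype.card ι = 2 * m)
    (hns : ∃ g₁ : ↥(Geo.quadSimilarityGroup (F := F) ⇑Q), ¬ IsSquare (mult Q w₀ (g₁ : GL ι F)))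
    (hneg : negOne Q ∉ Omega F ⇑Q) :
    ∃ φ : ↥(inndiagAut h2 hQ w₀ hw₀ m hcard) →* Multiplicative (ZMod 2),
      Function.Surjective φ ∧
      φ.ker = (Inn (POmega F ⇑Q)).subgroupOf (inndiagAut h2 hQ w₀ hw₀ m hcard) :=
  exists_hom_two _ _ ((relIndex_inn_inndiagAut h2 hQ h hi h5 w₀ hw₀ m hcard hns).2 hneg)

/-- **the case `-1 ∈ Ω`**: the quotient has order four; it is cyclic or a four-group
according to the parity of the number of reflections in an isometry `σ` which inverts a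
similarity `δ` of non-square multiplier modulo scalars. -/
theorem exists_inndiag_mod_inn_four (h2 : (2 : F) ≠ 0) (hQ : (polarBilin Q).Nondegenerate)
    (h : IsHypFamily Q α β) (hi : 3 ≤ i) (h5 : 5 ≤ Fintype.card ι) (w₀ : ι → F)
    (hw₀ : Q w₀ = 1) (m : ℕ) (hcard : Fintype.card ι = 2 * m)
    (hneg : negOne Q ∈ Omega F ⇑Q)
    (δ : ↥(Geo.quadSimilarityGroup (F := F) ⇑Q)) (hδ0 : δ ∈ goZero h2 hQ w₀ hw₀ m hcard)
    (hδ : ¬ IsSquare (mult Q w₀ (δ : GL ι F)))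
    (σ : ↥(isometryGroup F ⇑Q)) (vs : List (ι → F)) (hrep : IsRep Q σ vs)
    (zs : ↥(Geo.quadSimilarityGroup (F := F) ⇑Q)) (hzs : zs ∈ (conjGO Q).ker)
    (hrel : inclO Q σ * δ * (inclO Q σ)⁻¹ * δ⁻¹ = zs * δ⁻¹ * δ⁻¹) :
    (Odd vs.length →
      ∃ φ : ↥(inndiagAut h2 hQ w₀ hw₀ m hcard) →* Multiplicative (ZMod 4),
        Function.Surjective φ ∧
        φ.ker = (Inn (POmega F ⇑Q)).subgroupOf (inndiagAut h2 hQ w₀ hw₀ m hcard)) ∧
    (Even vs.length →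
      ∃ φ : ↥(inndiagAut h2 hQ w₀ hw₀ m hcard) →* Multiplicative (ZMod 2 × ZMod 2),
        Function.Surjective φ ∧
        φ.ker = (Inn (POmega F ⇑Q)).subgroupOf (inndiagAut h2 hQ w₀ hw₀ m hcard)) := by
  have hns : ∃ g₁ : ↥(Geo.quadSimilarityGroup (F := F) ⇑Q),
      ¬ IsSquare (mult Q w₀ (g₁ : GL ι F)) := ⟨δ, hδ⟩
  have hidx := (relIndex_inn_inndiagAut h2 hQ h hi h5 w₀ hw₀ m hcard hns).1 hneg
  have hxP : conjGO Q δ ∈ inndiagAut h2 hQ w₀ hw₀ m hcard := ⟨δ, hδ0, rfl⟩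
  -- the key equivalence
  have hc : inclO Q σ * δ * (inclO Q σ)⁻¹ * δ⁻¹ = inclO Q (σ * (simConjO Q δ σ)⁻¹) := by
    apply Subtype.ext
    show ((σ : ↥(isometryGroup F ⇑Q)) : GL ι F) * (δ : GL ι F) *
      ((σ : ↥(isometryGroup F ⇑Q)) : GL ι F)⁻¹ * (δ : GL ι F)⁻¹ =
      ((σ : ↥(isometryGroup F ⇑Q)) : GL ι F) *
        ((δ : GL ι F) * ((σ : ↥(isometryGroup F ⇑Q)) : GL ι F) * (δ : GL ι F)⁻¹)⁻¹
    group
  have hsq : conjGO Q δ * conjGO Q δ ∈ Inn (POmega F ⇑Q) ↔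
      IsSquare (mult Q w₀ (δ : GL ι F) ^ vs.length) := by
    rw [← comm_mem_Omega_iff h2 hQ (by omega) hw₀ δ σ vs hrep]
    have h6 : conjO Q (σ * (simConjO Q δ σ)⁻¹) = (conjGO Q δ * conjGO Q δ)⁻¹ := by
      rw [← conjGO_comp_inclO]
      show conjGO Q (inclO Q (σ * (simConjO Q δ σ)⁻¹)) = _
      rw [← hc, hrel, map_mul, map_mul, (MonoidHom.mem_ker).1 hzs, one_mul, map_inv, _root_.mul_inv_rev]
    constructor
    · intro hmem
      apply mem_Omega_of_conjO_mem_inn hQ h hi h5 hneg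
      rw [h6]
      exact Subgroup.inv_mem _ hmem
    · intro hmem
      have h7 : conjO Q (σ * (simConjO Q δ σ)⁻¹) ∈ Inn (POmega F ⇑Q) := by
        rw [inn_eq]
        exact ⟨_, hmem, rfl⟩
      rw [h6] at h7
      exact (Subgroup.inv_mem_iff _).1 h7
  constructor
  · intro hodd
    apply exists_hom_four_cyclic _ _ hidx (conjGO Q δ) hxP
    rw [hsq]
    obtain ⟨k, hk⟩ := hodd
    intro hsquare
    apply hδ
    obtain ⟨a, ha⟩ := hsquare
    have hν0 := mult_ne_zero hw₀ δ.2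
    refine ⟨a / mult Q w₀ (δ : GL ι F) ^ k, ?_⟩
    rw [hk] at ha
    field_simp
    linear_combination ha
  · intro heven
    -- an element of `SO` outside `Ω`
    obtain ⟨z, hzS, hzΩ⟩ : ∃ z, z ∈ soSub Q ∧ z ∉ Omega F ⇑Q := by
      by_contra hcon
      push Not at hcon
      have h1 : (Omega F ⇑Q).relIndex (soSub Q) = 1 := Subgroup.relIndex_eq_one.2 hcon
      rw [relIndex_Omega_soSub h2 hQ (by omega)] at h1
      omega
    have hyP : conjGO Q (inclO Q z) ∈ inndiagAut h2 hQ w₀ hw₀ m hcard :=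
      ⟨inclO Q z, soSub_map_le_goZero h2 hQ h hi h5 w₀ hw₀ m hcard ⟨z, hzS, rfl⟩, rfl⟩
    have hyO : conjGO Q (inclO Q z) = conjO Q z := by
      rw [← conjGO_comp_inclO]
      rfl
    apply exists_hom_four_klein _ _ hidx (conjGO Q δ) (conjGO Q (inclO Q z)) hxP hyP
    · intro hmem
      exact hδ (isSquare_mult_of_conjGO_mem_inn h2 hQ h hi h5 w₀ hw₀ m hcard δ hmem)
    · intro hmem
      rw [hyO] at hmem
      exact hzΩ (mem_Omega_of_conjO_mem_inn hQ h hi h5 hneg z hmem)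
    · intro hmem
      rw [← map_inv, ← map_mul] at hmem
      have h8 := isSquare_mult_of_conjGO_mem_inn h2 hQ h hi h5 w₀ hw₀ m hcard _ hmem
      apply hδ
      have hinv := (Geo.quadSimilarityGroup (F := F) ⇑Q).inv_mem δ.2
      have h9 : mult Q w₀ ((δ⁻¹ * inclO Q z : ↥(Geo.quadSimilarityGroup (F := F) ⇑Q)) : GL ι F) =
          mult Q w₀ ((δ : GL ι F)⁻¹) * mult Q w₀ ((z : ↥(isometryGroup F ⇑Q)) : GL ι F) :=
        mult_mul hw₀ hinv
      rw [mult_of_isometry hw₀ z.2, mul_one] at h9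
      rw [h9] at h8
      have h10 : mult Q w₀ ((δ : GL ι F) * (δ : GL ι F)⁻¹) =
          mult Q w₀ (δ : GL ι F) * mult Q w₀ ((δ : GL ι F)⁻¹) := mult_mul hw₀ δ.2
      rw [mul_inv_cancel] at h10
      have h11 : mult Q w₀ (1 : GL ι F) = 1 := mult_of_isometry hw₀ (Subgroup.one_mem _)
      rw [h11] at h10
      obtain ⟨a, ha⟩ := h8
      have hν0 := mult_ne_zero hw₀ δ.2
      have ha0 : a ≠ 0 := by
        rintro rfl
        rw [mul_zero] at ha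
        rw [ha, mul_zero] at h10
        exact one_ne_zero h10
      refine ⟨a⁻¹, ?_⟩
      rw [ha] at h10
      rw [← mul_inv]
      exact eq_inv_of_mul_eq_one_left h10.symm
    · rw [hsq]
      obtain ⟨k, hk⟩ := heven
      rw [hk, pow_add]
      exact ⟨_, rfl⟩
    · rw [hyO, ← map_mul, inn_eq]
      refine ⟨z * z, ?_, rfl⟩
      have hker := ker_theta Q h2 hQ (by omega : 2 ≤ Fintype.card ι)
      show z * z ∈ commutator ↥(isometryGroup F ⇑Q)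
      rw [← hker, MonoidHom.mem_ker, map_mul]
      have : ∀ u : ℤˣ × ℤˣ, u * u = 1 := by decide
      exact this _

end generic

end Cfsg.Agent.Lib.Helper5.OAut
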