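import Mathlib
import Cfsg.Prelude.Def_LieTypeDatum
import Cfsg.Agent.Lib.Helper5.MaxTS

set_option autoImplicit false

/-! Every totally singular subspace of a hyperbolic space lies in one of half the dimension. -/

namespace Cfsg.Agent.Lib.Helper5.OAut

open QuadraticMap Module Cfsg Cfsg.Agent.Lib.Helper5.MaxTS

section witt
variable {F V : Type*} [Field F] [AddCommGroup V] [Module F V] [FiniteDimensional F V]
  (Q : QuadraticForm F V) (hQ : (polarBilin Q).Nondegenerate) (m : ℕ)
  (hV : finrank F V = 2 * m)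

include hQ hV in
/-- moving a maximal totally singular subspace closer to a totally singular one -/
theorem exists_closer (U X : Submodule F V) (hU : IsMaxTS Q m U) (hX : ∀ x ∈ X, Q x = 0)
    (hne : ¬ X ≤ U) : ∃ U', IsMaxTS Q m U' ∧ finrank F ↥(U ⊓ X) + 1 ≤ finrank F ↥(U' ⊓ X) := by
  obtain ⟨w, hwW, hwU⟩ := Set.not_subset.mp hne
  set H := U ⊓ orth Q (Submodule.span F {w}) with hHdef
  have hHe : H = orth Q (U ⊔ Submodule.span F {w}) := by
    rw [orth_sup, orth_eq_of_max Q hQ m hV U hU]
  have hUw := PlusGeom.finrank_sup_span U w hwU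
  have hHfin : finrank F H + 1 = m := by
    have h2 := finrank_orth Q hQ (U ⊔ Submodule.span F {w})
    have h4 : finrank F ↥(U ⊔ Submodule.span F {w}) ≤ finrank F V := Submodule.finrank_le _
    rw [← hHe] at h2
    rw [hU.1] at hUw
    omega
  have hHts : ∀ h ∈ H, Q h = 0 := fun h hh => hU.2 h hh.1
  have hHw : ∀ h ∈ H, polar Q h w = 0 := by
    intro h hh
    have := hh.2
    rw [SetLike.mem_coe, mem_orth_span_singleton] at this
    rw [polar_comm]; exact this
  have hwH : w ∉ H := fun h => hwU h.1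
  set U' := H ⊔ Submodule.span F {w} with hU'def
  have hU'max : IsMaxTS Q m U' := by
    refine ⟨?_, PlusGeom.ts_sup_span Q H hHts w (hX w hwW) hHw⟩
    rw [PlusGeom.finrank_sup_span H w hwH, hHfin]
  have hwU' : w ∈ U' := Submodule.mem_sup_right (Submodule.mem_span_singleton_self w)
  refine ⟨U', hU'max, ?_⟩
  have hwUW : w ∉ U ⊓ X := fun h => hwU h.1
  rw [← PlusGeom.finrank_sup_span (U ⊓ X) w hwUW]
  apply Submodule.finrank_mono
  refine sup_le (le_inf ?_ inf_le_right) ?_
  · refine le_trans ?_ (le_sup_left : H ≤ U')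
    refine le_inf inf_le_left ?_
    intro v hv
    rw [mem_orth_span_singleton]
    exact PlusGeom.polar_eq_zero_of_ts Q X hX hwW hv.2
  · rw [Submodule.span_singleton_le_iff_mem]
    exact ⟨hwU', hwW⟩

include hQ hV in
theorem exists_isMaxTS_ge_aux : ∀ (d : ℕ) (U X : Submodule F V), IsMaxTS Q m U →
    (∀ x ∈ X, Q x = 0) → finrank F X - finrank F ↥(U ⊓ X) = d →
    ∃ M, IsMaxTS Q m M ∧ X ≤ M := by
  intro d
  induction d using Nat.strong_induction_on with
  | _ d ih =>
    intro U X hU hX hd
    by_cases hle : X ≤ U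
    · exact ⟨U, hU, hle⟩
    · obtain ⟨U', hU', hlt⟩ := exists_closer Q hQ m hV U X hU hX hle
      have h1 : finrank F ↥(U' ⊓ X) ≤ finrank F X := Submodule.finrank_mono inf_le_right
      exact ih (finrank F X - finrank F ↥(U' ⊓ X)) (by omega) U' X hU' hX rfl

include hQ hV in
/-- **Witt extension**: every totally singular subspace lies in a maximal one of dimension `m` -/
theorem exists_isMaxTS_ge (U X : Submodule F V) (hU : IsMaxTS Q m U) (hX : ∀ x ∈ X, Q x = 0) :
    ∃ M, IsMaxTS Q m M ∧ X ≤ M :=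
  exists_isMaxTS_ge_aux Q hQ m hV _ U X hU hX rfl

end witt

section prelude
variable {ι : Type} [Fintype ι] [DecidableEq ι] {F : Type*} [Field F]
  (Q : QuadraticForm F (ι → F)) (hQ : (polarBilin Q).Nondegenerate) (m : ℕ)
  (hV : finrank F (ι → F) = 2 * m)

include hQ hV in
/-- the inclusion-maximal totally singular subspaces are those of dimension `m` -/
theorem isMaxTotallySingular_iff (U₀ : Submodule F (ι → F)) (hU₀ : IsMaxTS Q m U₀)
    (U : Submodule F (ι → F)) : IsMaxTotallySingular ⇑Q U ↔ IsMaxTS Q m U := by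
  constructor
  · rintro ⟨hts, hmax⟩
    obtain ⟨M, hM, hUM⟩ := exists_isMaxTS_ge Q hQ m hV U₀ U hU₀ hts
    have := hmax M hM.2 hUM
    rw [← this]
    exact hM
  · intro hU
    refine ⟨hU.2, ?_⟩
    intro W hW hUW
    symm
    apply Submodule.eq_of_le_of_finrank_eq hUW
    have h1 := finrank_le_of_ts Q hQ m hV W hW
    have h2 := Submodule.finrank_mono hUW
    rw [hU.1] at h2 ⊢
    omega

end prelude

end Cfsg.Agent.Lib.Helper5.OAut
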