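import Mathlib
import Cfsg.Prelude.Def_LieTypeDatum
import Cfsg.Agent.Lib.Helper5.ClassParity
import Cfsg.Agent.Lib.Helper5.OAut.SimMain
import Cfsg.Agent.Lib.Helper5.OAut.WittExt

set_option autoImplicit false

/-! Similarities and the two classes of maximal totally singular subspaces. -/

namespace Cfsg.Agent.Lib.Helper5.OAut

open QuadraticMap Module Matrix Cfsg Cfsg.Agent.Lib.Helper5.MaxTS
  Cfsg.Agent.Lib.Helper5.SpinorNorm

section img
variable {ι : Type} [Fintype ι] [DecidableEq ι] {F : Type*} [Field F]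

theorem mem_imageSubmodule (g : Matrix ι ι F) (U : Submodule F (ι → F)) (x : ι → F) :
    x ∈ imageSubmodule g U ↔ ∃ u ∈ U, g *ᵥ u = x := by
  unfold imageSubmodule
  rw [Submodule.mem_map]
  rfl

theorem toLin_injective_GL (g : GL ι F) :
    Function.Injective (Matrix.toLin' (g : Matrix ι ι F)) := by
  intro x y hxy
  have h1 : ((g⁻¹ : GL ι F) : Matrix ι ι F) *ᵥ ((g : Matrix ι ι F) *ᵥ x) =
      ((g⁻¹ : GL ι F) : Matrix ι ι F) *ᵥ ((g : Matrix ι ι F) *ᵥ y) := by
    have : (g : Matrix ι ι F) *ᵥ x = (g : Matrix ι ι F) *ᵥ y := hxy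
    rw [this]
  rw [mulVec_mulVec, mulVec_mulVec, ← Units.val_mul, inv_mul_cancel, Units.val_one, one_mulVec,
    one_mulVec] at h1
  exact h1

theorem imageSubmodule_mul (a b : Matrix ι ι F) (U : Submodule F (ι → F)) :
    imageSubmodule (a * b) U = imageSubmodule a (imageSubmodule b U) := by
  unfold imageSubmodule
  rw [Matrix.toLin'_mul, Submodule.map_comp]

theorem finrank_imageSubmodule (g : GL ι F) (U : Submodule F (ι → F)) :
    finrank F (imageSubmodule (g : Matrix ι ι F) U) = finrank F U :=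
  (Submodule.equivMapOfInjective _ (toLin_injective_GL g) U).finrank_eq.symm

theorem imageSubmodule_inf (g : GL ι F) (U W : Submodule F (ι → F)) :
    imageSubmodule (g : Matrix ι ι F) (U ⊓ W) =
      imageSubmodule (g : Matrix ι ι F) U ⊓ imageSubmodule (g : Matrix ι ι F) W :=
  Submodule.map_inf _ (toLin_injective_GL g)

theorem imageSubmodule_one (U : Submodule F (ι → F)) :
    imageSubmodule (1 : Matrix ι ι F) U = U := by
  unfold imageSubmodule
  rw [Matrix.toLin'_one]
  exact Submodule.map_id U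

variable (Q : QuadraticForm F (ι → F))

theorem imageSubmodule_isMaxTS (m : ℕ) (g : GL ι F)
    (hg : g ∈ Geo.quadSimilarityGroup (F := F) ⇑Q) (U : Submodule F (ι → F))
    (hU : IsMaxTS Q m U) : IsMaxTS Q m (imageSubmodule (g : Matrix ι ι F) U) := by
  refine ⟨by rw [finrank_imageSubmodule, hU.1], ?_⟩
  intro x hx
  obtain ⟨u, hu, rfl⟩ := (mem_imageSubmodule _ U x).1 hx
  obtain ⟨c, hc⟩ := hg
  rw [hc u, hU.2 u hu, mul_zero]

/-- the distance between a maximal totally singular subspace and its image -/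
noncomputable def sdist (m : ℕ) (U : Submodule F (ι → F)) (g : GL ι F) : ℕ :=
  m - finrank F ↥(U ⊓ imageSubmodule (g : Matrix ι ι F) U)

section parity
variable (hQ : (polarBilin Q).Nondegenerate) (m : ℕ) (hV : finrank F (ι → F) = 2 * m)
  (U : Submodule F (ι → F)) (hU : IsMaxTS Q m U)

include hQ hV hU in
theorem even_sdist_mul (a b : GL ι F) (ha : a ∈ Geo.quadSimilarityGroup (F := F) ⇑Q)
    (hb : b ∈ Geo.quadSimilarityGroup (F := F) ⇑Q) :
    Even (sdist m U a + sdist m U b + sdist m U (a * b)) := by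
  have hab := (Geo.quadSimilarityGroup (F := F) ⇑Q).mul_mem ha hb
  have h := even_sum Q hQ m hV U (imageSubmodule (a : Matrix ι ι F) U)
    (imageSubmodule ((a * b : GL ι F) : Matrix ι ι F) U) hU
    (imageSubmodule_isMaxTS Q m a ha U hU) (imageSubmodule_isMaxTS Q m (a * b) hab U hU)
  have h1 : imageSubmodule ((a * b : GL ι F) : Matrix ι ι F) U =
      imageSubmodule (a : Matrix ι ι F) (imageSubmodule (b : Matrix ι ι F) U) := by
    rw [Units.val_mul, imageSubmodule_mul]
  rw [h1, ← imageSubmodule_inf, finrank_imageSubmodule, ← h1] at h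
  exact h

include hQ hV hU in
theorem cast_sdist_mul (a b : GL ι F) (ha : a ∈ Geo.quadSimilarityGroup (F := F) ⇑Q)
    (hb : b ∈ Geo.quadSimilarityGroup (F := F) ⇑Q) :
    ((sdist m U (a * b) : ℕ) : ZMod 2) = (sdist m U a : ZMod 2) + (sdist m U b : ZMod 2) := by
  have h := ZMod.natCast_eq_zero_iff_even.mpr (even_sdist_mul Q hQ m hV U hU a b ha hb)
  push_cast at h
  have h2 : ((sdist m U (a * b) : ℕ) : ZMod 2) =
      -((sdist m U a : ZMod 2) + (sdist m U b : ZMod 2)) := eq_neg_of_add_eq_zero_right h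
  rw [h2, ZMod.neg_eq_self_mod_two]

/-- the parity homomorphism on similarities -/
noncomputable def sparHom : ↥(Geo.quadSimilarityGroup (F := F) ⇑Q) →* Multiplicative (ZMod 2) :=
  MonoidHom.mk' (fun a => Multiplicative.ofAdd ((sdist m U (a : GL ι F) : ℕ) : ZMod 2)) (by
    intro a b
    rw [← ofAdd_add]
    exact congrArg _ (cast_sdist_mul Q hQ m hV U hU a b a.2 b.2))

theorem sparHom_apply (a : ↥(Geo.quadSimilarityGroup (F := F) ⇑Q)) :
    sparHom Q hQ m hV U hU a = Multiplicative.ofAdd ((sdist m U (a : GL ι F) : ℕ) : ZMod 2) := rfl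

theorem sparHom_eq_one_iff (a : ↥(Geo.quadSimilarityGroup (F := F) ⇑Q)) :
    sparHom Q hQ m hV U hU a = 1 ↔ Even (sdist m U (a : GL ι F)) := by
  rw [sparHom_apply, ← ZMod.natCast_eq_zero_iff_even]
  rfl

include hQ hV hU in
/-- the parity does not depend on the chosen subspace -/
theorem even_sdist_indep (W : Submodule F (ι → F)) (hW : IsMaxTS Q m W) (g : GL ι F)
    (hg : g ∈ Geo.quadSimilarityGroup (F := F) ⇑Q) :
    Even (sdist m U g) ↔ Even (sdist m W g) := by
  have hgU := imageSubmodule_isMaxTS Q m g hg U hU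
  have hgW := imageSubmodule_isMaxTS Q m g hg W hW
  have h1 := even_sum Q hQ m hV U (imageSubmodule (g : Matrix ι ι F) U)
    (imageSubmodule (g : Matrix ι ι F) W) hU hgU hgW
  have h2 := even_sum Q hQ m hV U W (imageSubmodule (g : Matrix ι ι F) W) hU hW hgW
  rw [← imageSubmodule_inf, finrank_imageSubmodule] at h1
  unfold sdist
  rw [Nat.even_iff] at h1 h2 ⊢
  rw [Nat.even_iff]
  omega

end parity

section isom
variable [Fintype F] (hQ : (polarBilin Q).Nondegenerate) (m : ℕ)
  (hV : finrank F (ι → F) = 2 * m) (U : Submodule F (ι → F)) (hU : IsMaxTS Q m U)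

include hQ hV hU in
/-- an isometry preserves the classes iff its determinant is one -/
theorem even_sdist_isometry_iff (h2 : (2 : F) ≠ 0) (g : ↥(isometryGroup F ⇑Q)) :
    Even (sdist m U (g : GL ι F)) ↔ ((g : GL ι F) : Matrix ι ι F).det = 1 := by
  obtain ⟨vs, hvs⟩ := exists_rep Q h2 hQ g
  have h1 := Cfsg.Agent.Lib.Helper5.ClassParity.even_dist_iff Q hQ m hV U hU g vs hvs
  have h3 : Even (sdist m U (g : GL ι F)) ↔ Even vs.length := h1
  rw [h3, hvs.2, rprod_det Q vs hvs.1]
  constructor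
  · intro he
    exact he.neg_one_pow
  · intro he
    by_contra hodd
    rw [Nat.not_even_iff_odd] at hodd
    rw [hodd.neg_one_pow] at he
    apply h2
    linear_combination -he

end isom

end img

end Cfsg.Agent.Lib.Helper5.OAut
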