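import Mathlib
import Cfsg.Prelude.Def_LieTypeDatum
import Cfsg.Agent.Lib.Helper5.OAut.SimParity

set_option autoImplicit false

/-! A similarity preserves the two classes of maximal totally singular subspaces iff its
determinant is the `m`-th power of its multiplier. -/

namespace Cfsg.Agent.Lib.Helper5.OAut

open QuadraticMap Module Matrix Cfsg Cfsg.Agent.Lib.Helper5.MaxTS
  Cfsg.Agent.Lib.Helper5.SpinorNorm

section crit
variable {ι : Type} [Fintype ι] [DecidableEq ι] {F : Type*} [Field F]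
  (Q : QuadraticForm F (ι → F))

section one
variable (hQ : (polarBilin Q).Nondegenerate) (m : ℕ) (hV : finrank F (ι → F) = 2 * m)
  (U₀ : Submodule F (ι → F)) (hU₀ : IsMaxTS Q m U₀)

include hQ hV hU₀ in
/-- class preservation can be tested on a single subspace -/
theorem preservesSingularClasses_iff (g : GL ι F)
    (hg : g ∈ Geo.quadSimilarityGroup (F := F) ⇑Q) :
    PreservesSingularClasses ⇑Q (g : Matrix ι ι F) ↔ Even (sdist m U₀ g) := by
  constructor
  · intro h
    have h1 := h U₀ ((isMaxTotallySingular_iff Q hQ m hV U₀ hU₀ U₀).2 hU₀)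
    unfold SameParityClass at h1
    rw [hU₀.1] at h1
    exact h1
  · intro h U hU
    have hU' := (isMaxTotallySingular_iff Q hQ m hV U₀ hU₀ U).1 hU
    unfold SameParityClass
    rw [hU'.1]
    exact (even_sdist_indep Q hQ m hV U₀ hU₀ U hU' g hg).1 h

end one

variable [Fintype F]

/-- a similarity of multiplier one is an isometry -/
theorem mem_isometryGroup_of_mult {w₀ : ι → F} (hw₀ : Q w₀ = 1) {g : GL ι F}
    (hg : g ∈ Geo.quadSimilarityGroup (F := F) ⇑Q) (h1 : mult Q w₀ g = 1) :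
    g ∈ isometryGroup F ⇑Q := by
  rw [Cfsg.Agent.Lib.Helper5.OrthCard.mem_isometryGroup_iff]
  intro v
  rw [mult_spec hw₀ hg, h1, one_mul]

/-- **criterion**: given one similarity of the same multiplier which preserves the classes and
has determinant ratio one, class preservation is detected by the determinant ratio. -/
theorem psc_iff_detRatio (h2 : (2 : F) ≠ 0) (hQ : (polarBilin Q).Nondegenerate) (m : ℕ)
    (hcard : Fintype.card ι = 2 * m) (U₀ : Submodule F (ι → F)) (hU₀ : IsMaxTS Q m U₀)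
    {w₀ : ι → F} (hw₀ : Q w₀ = 1) (g : GL ι F) (hg : g ∈ Geo.quadSimilarityGroup (F := F) ⇑Q)
    (s : GL ι F) (hs : s ∈ Geo.quadSimilarityGroup (F := F) ⇑Q)
    (hsm : mult Q w₀ s = mult Q w₀ g) (hsd : detRatio (Q := Q) w₀ m s = 1)
    (hsU : Even (sdist m U₀ s)) :
    PreservesSingularClasses ⇑Q (g : Matrix ι ι F) ↔ detRatio (Q := Q) w₀ m g = 1 := by
  have hV : finrank F (ι → F) = 2 * m := by
    rw [Module.finrank_fintype_fun_eq_card, hcard]
  rw [preservesSingularClasses_iff Q hQ m hV U₀ hU₀ g hg]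
  have hsinv := (Geo.quadSimilarityGroup (F := F) ⇑Q).inv_mem hs
  have hh : s⁻¹ * g ∈ Geo.quadSimilarityGroup (F := F) ⇑Q :=
    (Geo.quadSimilarityGroup (F := F) ⇑Q).mul_mem hsinv hg
  have hs0 := mult_ne_zero hw₀ hs
  have hmult : mult Q w₀ (s⁻¹ * g) = 1 := by
    have h1 : mult Q w₀ (s * (s⁻¹ * g)) = mult Q w₀ s * mult Q w₀ (s⁻¹ * g) := mult_mul hw₀ hs
    rw [mul_inv_cancel_left, ← hsm] at h1
    have h3 : mult Q w₀ s * 1 = mult Q w₀ s * mult Q w₀ (s⁻¹ * g) := by
      rw [mul_one]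
      exact h1
    exact (mul_left_cancel₀ hs0 h3).symm
  have hO : s⁻¹ * g ∈ isometryGroup F ⇑Q := mem_isometryGroup_of_mult Q hw₀ hh hmult
  have hev := even_sdist_mul Q hQ m hV U₀ hU₀ s (s⁻¹ * g) hs hh
  rw [mul_inv_cancel_left] at hev
  have hiso := even_sdist_isometry_iff Q hQ m hV U₀ hU₀ h2 ⟨s⁻¹ * g, hO⟩
  have hdr : detRatio (Q := Q) w₀ m (s * (s⁻¹ * g)) =
      detRatio (Q := Q) w₀ m s * detRatio (Q := Q) w₀ m (s⁻¹ * g) := detRatio_mul hw₀ hs
  rw [mul_inv_cancel_left, hsd, one_mul] at hdr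
  have hdr2 : detRatio (Q := Q) w₀ m (s⁻¹ * g) = ((s⁻¹ * g : GL ι F) : Matrix ι ι F).det := by
    unfold detRatio
    rw [hmult, inv_one, one_pow, mul_one]
  rw [hdr, hdr2]
  have hiso' : Even (sdist m U₀ (s⁻¹ * g)) ↔ ((s⁻¹ * g : GL ι F) : Matrix ι ι F).det = 1 := hiso
  rw [← hiso']
  rw [Nat.even_iff] at hev hsU ⊢
  rw [Nat.even_iff]
  omega

end crit

end Cfsg.Agent.Lib.Helper5.OAut
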