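import Mathlib

set_option autoImplicit false

namespace Cfsg.Agent.Lib.Helper5.OAut

/-- powers of an odd number modulo `4` -/
theorem pow_mod_four_eq_one_iff (q m : ℕ) (hq : Odd q) :
    q ^ m % 4 = 1 ↔ ¬ (Odd m ∧ q % 4 = 3) := by
  have hq' : q % 4 = 1 ∨ q % 4 = 3 := by
    have := Nat.odd_iff.1 hq
    omega
  rw [Nat.pow_mod]
  rcases hq' with h | h
  · rw [h, one_pow]
    constructor
    · intro _ hc
      omega
    · intro _
      rfl
  · rw [h]
    rcases Nat.even_or_odd m with hm | hm
    · obtain ⟨k, rfl⟩ := hm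
      have : 3 ^ (k + k) % 4 = 1 := by
        rw [← two_mul, pow_mul, Nat.pow_mod]
        norm_num
      rw [this]
      constructor
      · intro _ hc
        exact (Nat.not_even_iff_odd.2 hc.1) ⟨k, rfl⟩
      · intro _
        rfl
    · obtain ⟨k, rfl⟩ := hm
      have : 3 ^ (2 * k + 1) % 4 = 3 := by
        rw [pow_succ, pow_mul, Nat.mul_mod, Nat.pow_mod]
        norm_num
      rw [this]
      constructor
      · intro hc
        omega
      · intro hc
        exact absurd ⟨⟨k, rfl⟩, rfl⟩ hc

/-- powers of an odd number modulo `4` -/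
theorem pow_mod_four_eq_three_iff (q m : ℕ) (hq : Odd q) :
    q ^ m % 4 = 3 ↔ (Odd m ∧ q % 4 = 3) := by
  have h1 := pow_mod_four_eq_one_iff q m hq
  have hodd : Odd (q ^ m) := hq.pow
  have := Nat.odd_iff.1 hodd
  constructor
  · intro h3
    by_contra hc
    have := h1.2 hc
    omega
  · intro hc
    by_contra h3
    have h1' : q ^ m % 4 = 1 := by omega
    exact (h1.1 h1') hc

end Cfsg.Agent.Lib.Helper5.OAut
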