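import Mathlib
import Cfsg.Prelude.Def_LieTypeDatum
import Cfsg.Agent.Lib.Helper5.OAut.SimMain
import Cfsg.Agent.Lib.Helper5.QuadStd
import Cfsg.Agent.Lib.Helper5.OrthPlane

set_option autoImplicit false

/-!
# Similarities of the standard forms with prescribed multiplier
-/

namespace Cfsg.Agent.Lib.Helper5.OAut

open Cfsg Matrix QuadraticMap

section plus
variable {F : Type*} [Field F]

/-- a similarity of the hyperbolic form with multiplier `ν` -/
theorem exists_sim_plus (m : ℕ) (ν : F) (hν : ν ≠ 0) :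
    ∃ g : GL (Fin m ⊕ Fin m) F, ∀ v, plusForm m F ((g : Matrix (Fin m ⊕ Fin m) (Fin m ⊕ Fin m) F) *ᵥ v) =
      ν * plusForm m F v := by
  obtain ⟨d, hd⟩ : ∃ d : Fin m ⊕ Fin m → F, d = Sum.elim (fun _ => ν) (fun _ => 1) := ⟨_, rfl⟩
  obtain ⟨d', hd'⟩ : ∃ d' : Fin m ⊕ Fin m → F, d' = Sum.elim (fun _ => ν⁻¹) (fun _ => 1) :=
    ⟨_, rfl⟩
  have h1 : Matrix.diagonal d * Matrix.diagonal d' = 1 := by
    rw [Matrix.diagonal_mul_diagonal, ← Matrix.diagonal_one]
    congr 1
    funext k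
    rcases k with k | k
    · rw [hd, hd']
      exact mul_inv_cancel₀ hν
    · rw [hd, hd']
      exact mul_one 1
  have h2 : Matrix.diagonal d' * Matrix.diagonal d = 1 := by
    rw [Matrix.diagonal_mul_diagonal, ← Matrix.diagonal_one]
    congr 1
    funext k
    rcases k with k | k
    · rw [hd, hd']
      exact inv_mul_cancel₀ hν
    · rw [hd, hd']
      exact mul_one 1
  refine ⟨⟨Matrix.diagonal d, Matrix.diagonal d', h1, h2⟩, fun v => ?_⟩
  show plusForm m F (Matrix.diagonal d *ᵥ v) = ν * plusForm m F v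
  rw [plusForm_apply, plusForm_apply]
  unfold Cfsg.quadFormPlus
  rw [Finset.mul_sum]
  apply Finset.sum_congr rfl
  intro k _
  rw [Matrix.mulVec_diagonal, Matrix.mulVec_diagonal, hd]
  simp only [Sum.elim_inl, Sum.elim_inr]
  ring

end plus

section minus
variable {F : Type*} [Field F]

open Cfsg.Agent.Lib.Helper5.OrthCard Cfsg.Agent.Lib.Helper5.OrthPlane

/-- a similarity of the minus type form with multiplier `ν = s² + a s u + b u²` -/
theorem exists_sim_minus (m : ℕ) (a b s u : F) (hν : s * s + a * (s * u) + b * (u * u) ≠ 0) :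
    ∃ g : GL ((Fin m ⊕ Fin m) ⊕ Fin 2) F, ∀ v,
      genForm (binForm a b) m
        ((g : Matrix ((Fin m ⊕ Fin m) ⊕ Fin 2) ((Fin m ⊕ Fin m) ⊕ Fin 2) F) *ᵥ v) =
      (s * s + a * (s * u) + b * (u * u)) * genForm (binForm a b) m v := by
  obtain ⟨ν, hνdef⟩ : ∃ ν : F, ν = s * s + a * (s * u) + b * (u * u) := ⟨_, rfl⟩
  rw [← hνdef] at hν ⊢
  obtain ⟨d, hd⟩ : ∃ d : Fin m ⊕ Fin m → F, d = Sum.elim (fun _ => ν) (fun _ => 1) := ⟨_, rfl⟩
  obtain ⟨P, hP⟩ : ∃ P : Matrix (Fin 2) (Fin 2) F, P = !![s, -(b * u); u, s + a * u] := ⟨_, rfl⟩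
  obtain ⟨M, hM⟩ : ∃ M : Matrix ((Fin m ⊕ Fin m) ⊕ Fin 2) ((Fin m ⊕ Fin m) ⊕ Fin 2) F,
      M = Matrix.fromBlocks (Matrix.diagonal d) 0 0 P := ⟨_, rfl⟩
  have hdet : M.det ≠ 0 := by
    rw [hM, Matrix.det_fromBlocks_zero₂₁, Matrix.det_diagonal, Fintype.prod_sum_type, hP,
      Matrix.det_fin_two_of, hd]
    simp only [Sum.elim_inl, Sum.elim_inr, Finset.prod_const, Finset.card_univ, Fintype.card_fin,
      one_pow, mul_one]
    refine mul_ne_zero (pow_ne_zero _ hν) ?_
    have : s * (s + a * u) - -(b * u) * u = ν := by rw [hνdef]; ring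
    rw [this]
    exact hν
  refine ⟨Matrix.GeneralLinearGroup.mkOfDetNeZero M hdet, fun v => ?_⟩
  show genForm (binForm a b) m (M *ᵥ v) = ν * genForm (binForm a b) m v
  rw [genForm_apply, genForm_apply, hM, Matrix.fromBlocks_mulVec]
  simp only [Sum.elim_inl, Sum.elim_inr, Matrix.zero_mulVec, add_zero, zero_add]
  rw [mul_add, Finset.mul_sum]
  congr 1
  · apply Finset.sum_congr rfl
    intro k _
    rw [Matrix.mulVec_diagonal, Matrix.mulVec_diagonal, hd]
    simp only [Sum.elim_inl, Sum.elim_inr, Function.comp_apply]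
    ring
  · rw [binForm_apply, binForm_apply, hP]
    simp only [Matrix.mulVec, Matrix.of_apply, Matrix.cons_val', Matrix.cons_val_zero,
      Matrix.cons_val_one, dotProduct, Fin.sum_univ_two, Function.comp_apply,
      Matrix.cons_val_fin_one]
    rw [hνdef]
    ring

end minus

end Cfsg.Agent.Lib.Helper5.OAut
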