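import Mathlib
import Cfsg.Prelude.Def_LieTypeDatum

set_option autoImplicit false

/-! Similarities of a quadratic form remain similarities after extending the field. -/

namespace Cfsg.Agent.Lib.Helper5.OAut

open Cfsg Matrix QuadraticMap

section basechange
variable {ι : Type} [Fintype ι] [DecidableEq ι] {F K : Type*} [Field F] [Field K] [Algebra F K]
  (QF : QuadraticForm F (ι → F)) (QK : QuadraticForm K (ι → K))

/-- `QK` is `QF` read over the larger field -/
def IsBaseChange : Prop :=
  ∀ x : ι → F, QK (fun i => algebraMap F K (x i)) = algebraMap F K (QF x)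

variable {QF QK}

theorem polar_baseChange (h : IsBaseChange QF QK) (x y : ι → F) :
    polar QK (fun i => algebraMap F K (x i)) (fun i => algebraMap F K (y i)) =
      algebraMap F K (polar QF x y) := by
  unfold polar
  have h1 : (fun i => algebraMap F K (x i)) + (fun i => algebraMap F K (y i)) =
      fun i => algebraMap F K ((x + y) i) := by
    funext i
    rw [Pi.add_apply, Pi.add_apply, map_add]
  rw [h1, h, h, h, map_sub, map_sub]

theorem gram_baseChange (h : IsBaseChange QF QK) :
    LinearMap.toMatrix₂' K (polarBilin QK) =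
      (LinearMap.toMatrix₂' F (polarBilin QF)).map (algebraMap F K) := by
  ext i j
  rw [LinearMap.toMatrix₂'_apply, Matrix.map_apply, LinearMap.toMatrix₂'_apply,
    polarBilin_apply_apply, polarBilin_apply_apply, ← polar_baseChange h]
  congr 1
  · funext k
    rw [Pi.single_apply, Pi.single_apply]
    split_ifs
    · rw [map_one]
    · rw [map_zero]
  · funext k
    rw [Pi.single_apply, Pi.single_apply]
    split_ifs
    · rw [map_one]
    · rw [map_zero]

theorem polar_sim' (g : Matrix ι ι F) (c : F) (hg : ∀ v, QF (g *ᵥ v) = c * QF v) (x y : ι → F) :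
    polar ⇑QF (g *ᵥ x) (g *ᵥ y) = c * polar ⇑QF x y := by
  unfold polar
  rw [← Matrix.mulVec_add, hg, hg, hg]
  ring

theorem gram_sim (g : Matrix ι ι F) (c : F) (hg : ∀ v, QF (g *ᵥ v) = c * QF v) :
    c • LinearMap.toMatrix₂' F (polarBilin QF) =
      gᵀ * LinearMap.toMatrix₂' F (polarBilin QF) * g := by
  have hcomp : (polarBilin QF).compl₁₂ (Matrix.toLin' g) (Matrix.toLin' g) =
      c • polarBilin QF := by
    apply LinearMap.ext
    intro x
    apply LinearMap.ext
    intro y
    rw [LinearMap.compl₁₂_apply, Matrix.toLin'_apply, Matrix.toLin'_apply, polarBilin_apply_apply,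
      polar_sim' g c hg, LinearMap.smul_apply, LinearMap.smul_apply, polarBilin_apply_apply,
      smul_eq_mul]
  have h1 := LinearMap.toMatrix₂'_compl₁₂ (polarBilin QF) (Matrix.toLin' g) (Matrix.toLin' g)
  rw [hcomp, LinearMap.toMatrix'_toLin', map_smul] at h1
  exact h1

theorem quad_eq_gram (h2 : (2 : K) ≠ 0) (v : ι → K) :
    QK v = 2⁻¹ * (v ⬝ᵥ (LinearMap.toMatrix₂' K (polarBilin QK) *ᵥ v)) := by
  rw [← Matrix.toLinearMap₂'_apply', Matrix.toLinearMap₂'_toMatrix', polarBilin_apply_apply,
    QuadraticMap.polar_self, nsmul_eq_mul, Nat.cast_ofNat]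
  field_simp

/-- **base change of similarities** -/
theorem sim_baseChange (h2 : (2 : K) ≠ 0) (h : IsBaseChange QF QK) (g : Matrix ι ι F) (c : F)
    (hg : ∀ v, QF (g *ᵥ v) = c * QF v) (v : ι → K) :
    QK (g.map (algebraMap F K) *ᵥ v) = algebraMap F K c * QK v := by
  have hF := gram_sim g c hg
  have hK : algebraMap F K c • LinearMap.toMatrix₂' K (polarBilin QK) =
      (g.map (algebraMap F K))ᵀ * LinearMap.toMatrix₂' K (polarBilin QK) *
        g.map (algebraMap F K) := by
    rw [gram_baseChange h, ← Matrix.transpose_map, ← Matrix.map_mul, ← Matrix.map_mul, ← hF]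
    ext i j
    rw [Matrix.smul_apply, Matrix.map_apply, Matrix.map_apply, Matrix.smul_apply, smul_eq_mul,
      smul_eq_mul, map_mul]
  rw [quad_eq_gram h2, quad_eq_gram h2 v]
  have h3 : (g.map (algebraMap F K) *ᵥ v) ⬝ᵥ
      (LinearMap.toMatrix₂' K (polarBilin QK) *ᵥ (g.map (algebraMap F K) *ᵥ v)) =
      v ⬝ᵥ (((g.map (algebraMap F K))ᵀ * LinearMap.toMatrix₂' K (polarBilin QK) *
        g.map (algebraMap F K)) *ᵥ v) := by
    rw [← Matrix.mulVec_mulVec, ← Matrix.mulVec_mulVec, Matrix.dotProduct_mulVec v,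
      Matrix.vecMul_transpose]
  rw [h3, ← hK, Matrix.smul_mulVec, dotProduct_smul, smul_eq_mul]
  ring

end basechange

end Cfsg.Agent.Lib.Helper5.OAut
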