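import Mathlib
import Cfsg.Prelude.Def_LieTypeDatum
import Cfsg.Agent.Lib.Helper5.OAut.BaseChange
import Cfsg.Agent.Lib.Helper5.OmegaTrans
import Cfsg.Agent.Lib.Helper5.MaxTS

set_option autoImplicit false

/-! Isometries squaring to `±1`: determinant and eigenvectors. -/

namespace Cfsg.Agent.Lib.Helper5.OAut

open Cfsg Matrix QuadraticMap Module Cfsg.Agent.Lib.Helper5.MaxTS

section involcase
variable {ι : Type} [Fintype ι] [DecidableEq ι] {F : Type*} [Field F]
  {Q : QuadraticForm F (ι → F)}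

/-- an isometry squaring to `-1` has determinant one -/
theorem det_eq_one_of_sq_neg_one (h2 : (2 : F) ≠ 0) (hQ : (polarBilin Q).Nondegenerate)
    (M : Matrix ι ι F) (hM : ∀ v, Q (M *ᵥ v) = Q v) (hMM : M * M = -1) : M.det = 1 := by
  have hJdet : (LinearMap.toMatrix₂' F (polarBilin Q)).det ≠ 0 := by
    rw [← Matrix.nondegenerate_iff_det_ne_zero]
    exact LinearMap.Nondegenerate.toMatrix₂' hQ
  generalize hJ : LinearMap.toMatrix₂' F (polarBilin Q) = J at hJdet
  have h1 : J = Mᵀ * J * M := by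
    have := gram_sim (QF := Q) M 1 (by intro v; rw [hM, one_mul])
    rw [one_smul, hJ] at this
    exact this
  have h3 : Mᵀ * J = -(J * M) := by
    have : Mᵀ * J * (M * M) = J * M := by
      rw [← Matrix.mul_assoc, ← h1]
    rw [hMM, Matrix.mul_neg, Matrix.mul_one] at this
    rw [← this, neg_neg]
  have h4 : (1 + M)ᵀ * J = J * (1 - M) := by
    rw [Matrix.transpose_add, Matrix.transpose_one, Matrix.add_mul, Matrix.one_mul, h3,
      Matrix.mul_sub, Matrix.mul_one, sub_eq_add_neg]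
  have h5 : (1 + M).det = (1 - M).det := by
    have := congrArg Matrix.det h4
    rw [Matrix.det_mul, Matrix.det_mul, Matrix.det_transpose, mul_comm] at this
    exact mul_left_cancel₀ hJdet this
  have h6 : M * (1 - M) = 1 + M := by
    rw [Matrix.mul_sub, Matrix.mul_one, hMM, sub_neg_eq_add, add_comm]
  have h7 : (1 + M) * (1 - M) = (2 : F) • (1 : Matrix ι ι F) := by
    rw [Matrix.add_mul, Matrix.one_mul, h6, two_smul]
    abel
  have h8 : (1 - M).det ≠ 0 := by
    intro h0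
    have := congrArg Matrix.det h7
    rw [Matrix.det_mul, h0, mul_zero, Matrix.det_smul, Matrix.det_one, mul_one] at this
    exact pow_ne_zero _ h2 this.symm
  have h9 := congrArg Matrix.det h6
  rw [Matrix.det_mul, h5] at h9
  exact mul_right_cancel₀ h8 (by rw [h9, one_mul])

/-- eigenvectors of a matrix -/
def eigSub (M : Matrix ι ι F) (ε : F) : Submodule F (ι → F) where
  carrier := {v | M *ᵥ v = ε • v}
  add_mem' := by
    intro a b ha hb
    simp only [Set.mem_ofPred_eq] at *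
    rw [mulVec_add, ha, hb, smul_add]
  zero_mem' := by simp
  smul_mem' := by
    intro c v hv
    simp only [Set.mem_ofPred_eq] at *
    rw [mulVec_smul, hv, smul_comm]

theorem mem_eigSub (M : Matrix ι ι F) (ε : F) (v : ι → F) :
    v ∈ eigSub M ε ↔ M *ᵥ v = ε • v := Iff.rfl

theorem polar_eig (h2 : (2 : F) ≠ 0) (M : Matrix ι ι F) (hM : ∀ v, Q (M *ᵥ v) = Q v)
    {ε ε' : F} (hε : ε * ε' = -1) {a b : ι → F} (ha : a ∈ eigSub M ε) (hb : b ∈ eigSub M ε') :
    polar ⇑Q a b = 0 := by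
  have h1 := polar_sim' (QF := Q) M 1 (by intro v; rw [hM, one_mul]) a b
  rw [(mem_eigSub M ε a).1 ha, (mem_eigSub M ε' b).1 hb, polar_smul_left, polar_smul_right,
    smul_eq_mul, smul_eq_mul, ← mul_assoc, hε, one_mul] at h1
  have h3 : (2 : F) * polar ⇑Q a b = 0 := by linear_combination -h1
  exact (mul_eq_zero.1 h3).resolve_left h2

theorem eig_decomp (h2 : (2 : F) ≠ 0) (M : Matrix ι ι F) (hMM : M * M = 1) (v : ι → F) :
    ∃ x ∈ eigSub M 1, ∃ y ∈ eigSub M (-1), v = x + y := by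
  have hMMv : M *ᵥ (M *ᵥ v) = v := by
    rw [mulVec_mulVec, hMM, one_mulVec]
  refine ⟨(2 : F)⁻¹ • (v + M *ᵥ v), ?_, (2 : F)⁻¹ • (v - M *ᵥ v), ?_, ?_⟩
  · rw [mem_eigSub, mulVec_smul, mulVec_add, hMMv, one_smul, add_comm]
  · rw [mem_eigSub, mulVec_smul, mulVec_sub, hMMv, neg_one_smul, ← smul_neg, neg_sub]
  · rw [← smul_add, add_add_sub_cancel, ← two_smul F v, smul_smul, inv_mul_cancel₀ h2, one_smul]

theorem eig_nondeg (h2 : (2 : F) ≠ 0) (hQ : (polarBilin Q).Nondegenerate) (M : Matrix ι ι F)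
    (hM : ∀ v, Q (M *ᵥ v) = Q v) (hMM : M * M = 1) (ε : F) (hε : ε = 1 ∨ ε = -1) :
    eigSub M ε ⊓ orth Q (eigSub M ε) = ⊥ := by
  rw [eq_bot_iff]
  rintro v ⟨hv1, hv2⟩
  rw [SetLike.mem_coe, mem_orth] at hv2
  rw [Submodule.mem_bot]
  apply hQ.1 v
  intro z
  show polar ⇑Q v z = 0
  obtain ⟨x, hx, y, hy, rfl⟩ := eig_decomp h2 M hMM z
  rw [polar_add_right]
  rcases hε with rfl | rfl
  · rw [polar_comm ⇑Q v x, hv2 x hx, polar_eig h2 M hM (by ring) hv1 hy, add_zero]
  · rw [polar_comm ⇑Q v y, hv2 y hy, polar_eig h2 M hM (by ring) hv1 hx, add_zero]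

/-- a nonzero nondegenerate subspace contains a nonsingular vector -/
theorem exists_nonsingular_in (X : Submodule F (ι → F)) (hX : X ⊓ orth Q X = ⊥) (hne : X ≠ ⊥) :
    ∃ x ∈ X, Q x ≠ 0 := by
  by_contra hall
  push Not at hall
  apply hne
  rw [eq_bot_iff, ← hX]
  intro x hx
  refine ⟨hx, ?_⟩
  rw [SetLike.mem_coe, mem_orth]
  intro w hw
  unfold polar
  rw [hall _ (X.add_mem hw hx), hall w hw, hall x hx]
  ring

variable [Fintype F]

/-- **eigenvectors of an involutory isometry of determinant `-1`** -/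
theorem exists_eigen_pair (h2 : (2 : F) ≠ 0) (hQ : (polarBilin Q).Nondegenerate)
    (hcard : 4 ≤ Fintype.card ι) (heven : Even (Fintype.card ι)) (M : Matrix ι ι F)
    (hM : ∀ v, Q (M *ᵥ v) = Q v) (hMM : M * M = 1) (hdet : M.det ≠ 1) (ν : F) (hν : ν ≠ 0) :
    ∃ (a b : ι → F) (s t : F), s ≠ 0 ∧ t ≠ 0 ∧ M *ᵥ a = s • a ∧ M *ᵥ b = t • b ∧
      polar ⇑Q a b = 0 ∧ Q a * Q b = ν := by
  have hne1 : eigSub M 1 ≠ ⊥ := by
    intro h0
    apply hdet
    have : M = -1 := by
      rw [Matrix.ext_iff_mulVec]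
      intro v
      obtain ⟨x, hx, y, hy, rfl⟩ := eig_decomp h2 M hMM v
      rw [h0, Submodule.mem_bot] at hx
      rw [hx, zero_add, (mem_eigSub M (-1) y).1 hy, neg_one_smul, Matrix.neg_mulVec, one_mulVec]
    rw [this, Matrix.det_neg, Matrix.det_one, mul_one]
    exact heven.neg_one_pow
  have hne2 : eigSub M (-1) ≠ ⊥ := by
    intro h0
    apply hdet
    have : M = 1 := by
      rw [Matrix.ext_iff_mulVec]
      intro v
      obtain ⟨x, hx, y, hy, rfl⟩ := eig_decomp h2 M hMM v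
      rw [h0, Submodule.mem_bot] at hy
      rw [hy, add_zero, (mem_eigSub M 1 x).1 hx, one_smul, one_mulVec]
    rw [this, Matrix.det_one]
  have hsup : eigSub M 1 ⊔ eigSub M (-1) = ⊤ := by
    rw [eq_top_iff]
    intro v _
    obtain ⟨x, hx, y, hy, rfl⟩ := eig_decomp h2 M hMM v
    exact Submodule.add_mem_sup hx hy
  have hfin : Fintype.card ι ≤ finrank F (eigSub M 1) + finrank F (eigSub M (-1)) := by
    have h1 := Submodule.finrank_add_le_finrank_add_finrank (eigSub M 1) (eigSub M (-1))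
    rw [hsup, finrank_top, Module.finrank_fintype_fun_eq_card] at h1
    exact h1
  have hnd1 := eig_nondeg h2 hQ M hM hMM 1 (Or.inl rfl)
  have hnd2 := eig_nondeg h2 hQ M hM hMM (-1) (Or.inr rfl)
  by_cases hbig : 2 ≤ finrank F (eigSub M 1)
  · obtain ⟨a, ha, hQa⟩ := exists_nonsingular_in (eigSub M (-1)) hnd2 hne2
    obtain ⟨b, hb, hQb⟩ := Cfsg.Agent.Lib.Helper5.OmegaTrans.exists_quad_eq_in Q (eigSub M 1) hnd1
      hbig (ν * (Q a)⁻¹) (mul_ne_zero hν (inv_ne_zero hQa))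
    refine ⟨a, b, -1, 1, by simp, one_ne_zero, (mem_eigSub M (-1) a).1 ha,
      (mem_eigSub M 1 b).1 hb, polar_eig h2 M hM (by ring) ha hb, ?_⟩
    rw [hQb]
    field_simp
  · have hbig2 : 2 ≤ finrank F (eigSub M (-1)) := by omega
    obtain ⟨a, ha, hQa⟩ := exists_nonsingular_in (eigSub M 1) hnd1 hne1
    obtain ⟨b, hb, hQb⟩ := Cfsg.Agent.Lib.Helper5.OmegaTrans.exists_quad_eq_in Q (eigSub M (-1))
      hnd2 hbig2 (ν * (Q a)⁻¹) (mul_ne_zero hν (inv_ne_zero hQa))
    refine ⟨a, b, 1, -1, one_ne_zero, by simp, (mem_eigSub M 1 a).1 ha,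
      (mem_eigSub M (-1) b).1 hb, polar_eig h2 M hM (by ring) ha hb, ?_⟩
    rw [hQb]
    field_simp

end involcase

end Cfsg.Agent.Lib.Helper5.OAut
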