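import Mathlib
import Cfsg.Prelude.Def_LieTypeDatum
import Cfsg.Agent.Lib.Helper5.OAut.Inndiag
import Cfsg.Agent.Lib.Helper5.OAut.PscCrit

set_option autoImplicit false

/-! The inner-diagonal group of `PΩ⁺`. -/

namespace Cfsg.Agent.Lib.Helper5.OAut

open Cfsg Matrix QuadraticMap Module Cfsg.Agent.Lib.Helper5.SpinorNorm
  Cfsg.Agent.Lib.Helper5.Refl Cfsg.Agent.Lib.Helper5.MaxTS

section gen
variable {ι : Type} [Fintype ι] [DecidableEq ι] {F : Type*} [Field F]

/-- the subgroup generated by the automorphisms induced by class-preserving similarities -/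
def inndiagGen (Q : (ι → F) → F) : Subgroup (MulAut (POmega F Q)) :=
  autSubgroupOf fun β => ∃ g : GL ι F, g ∈ Geo.quadSimilarityGroup (F := F) Q ∧
    PreservesSingularClasses Q (g : Matrix ι ι F) ∧
    IsInducedBySemilinearPOmega Q g (RingEquiv.refl F) β

theorem inndiagPOmegaPlus_eq_gen (m : ℕ) :
    inndiagPOmegaPlus m F = inndiagGen (quadFormPlus m F) := rfl

variable [Fintype F] {Q : QuadraticForm F (ι → F)}

/-- the inner-diagonal group is the image of the similarities with determinant ratio one -/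
theorem inndiagGen_eq (h2 : (2 : F) ≠ 0) (hQ : (polarBilin Q).Nondegenerate) (w₀ : ι → F)
    (hw₀ : Q w₀ = 1) (m : ℕ) (hcard : Fintype.card ι = 2 * m)
    (hcrit : ∀ g : GL ι F, g ∈ Geo.quadSimilarityGroup (F := F) ⇑Q →
      (PreservesSingularClasses ⇑Q (g : Matrix ι ι F) ↔ detRatio (Q := Q) w₀ m g = 1)) :
    inndiagGen ⇑Q = inndiagAut h2 hQ w₀ hw₀ m hcard := by
  unfold inndiagGen autSubgroupOf inndiagAut
  have hset : {β : MulAut (POmega F ⇑Q) | ∃ g : GL ι F,
      g ∈ Geo.quadSimilarityGroup (F := F) ⇑Q ∧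
      PreservesSingularClasses ⇑Q (g : Matrix ι ι F) ∧
      IsInducedBySemilinearPOmega ⇑Q g (RingEquiv.refl F) β} =
      (((goZero h2 hQ w₀ hw₀ m hcard).map (conjGO Q) : Subgroup (MulAut (POmega F ⇑Q))) :
        Set (MulAut (POmega F ⇑Q))) := by
    ext β
    constructor
    · rintro ⟨g, hg, hpsc, hind⟩
      refine ⟨⟨g, hg⟩, ?_, ?_⟩
      · rw [SetLike.mem_coe, mem_goZero_iff]
        exact (hcrit g hg).1 hpsc
      · ext x
        induction x using QuotientGroup.induction_on with
        | H s =>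
          rw [conjGO_mk]
          symm
          apply hind
          rw [map_refl]
          rfl
    · rintro ⟨g, hg0, rfl⟩
      rw [SetLike.mem_coe, mem_goZero_iff] at hg0
      refine ⟨(g : GL ι F), g.2, (hcrit g g.2).2 hg0, ?_⟩
      intro s s' hs
      rw [conjGO_mk]
      congr 1
      apply Subtype.ext
      apply Subtype.ext
      apply Units.ext
      rw [hs, map_refl]
      rfl
  rw [hset, Subgroup.closure_eq]

end gen

section plusstd
variable {F : Type*} [Field F] (m : ℕ)

theorem mem_stdL_iff (v : Fin m ⊕ Fin m → F) :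
    v ∈ stdL (F := F) m ↔ ∀ i, v (Sum.inr i) = 0 := by
  constructor
  · exact fun hv i => stdL_inr m v hv i
  · intro hv
    let L' : Submodule F (Fin m ⊕ Fin m → F) :=
      { carrier := {v | ∀ i, v (Sum.inr i) = 0}
        add_mem' := by
          intro a b ha hb i
          rw [Pi.add_apply, ha i, hb i, add_zero]
        zero_mem' := fun i => rfl
        smul_mem' := by
          intro c a ha i
          rw [Pi.smul_apply, ha i, smul_zero] }
    have hle : stdL (F := F) m ≤ L' := fun u hu i => stdL_inr m u hu i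
    have hts : ∀ w ∈ L', plusForm m F w = 0 := by
      intro w hw
      rw [plusForm_apply, Cfsg.quadFormPlus]
      apply Finset.sum_eq_zero
      intro i _
      rw [hw i, mul_zero]
    have h1 := finrank_le_of_ts (plusForm m F) (PlusGeom.plus_nondegenerate (F := F) m) m
      (finrank_plus (F := F) m) L' hts
    have h2 : stdL (F := F) m = L' := by
      apply Submodule.eq_of_le_of_finrank_le hle
      rw [(stdL_max (F := F) m).1]
      exact h1
    rw [h2]
    exact hv

theorem mem_stdR_iff (v : Fin m ⊕ Fin m → F) :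
    v ∈ stdR (F := F) m ↔ ∀ i, v (Sum.inl i) = 0 := by
  constructor
  · exact fun hv i => stdR_inl m v hv i
  · intro hv
    let L' : Submodule F (Fin m ⊕ Fin m → F) :=
      { carrier := {v | ∀ i, v (Sum.inl i) = 0}
        add_mem' := by
          intro a b ha hb i
          rw [Pi.add_apply, ha i, hb i, add_zero]
        zero_mem' := fun i => rfl
        smul_mem' := by
          intro c a ha i
          rw [Pi.smul_apply, ha i, smul_zero] }
    have hle : stdR (F := F) m ≤ L' := fun u hu i => stdR_inl m u hu i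
    have hts : ∀ w ∈ L', plusForm m F w = 0 := by
      intro w hw
      rw [plusForm_apply, Cfsg.quadFormPlus]
      apply Finset.sum_eq_zero
      intro i _
      rw [hw i, zero_mul]
    have h1 := finrank_le_of_ts (plusForm m F) (PlusGeom.plus_nondegenerate (F := F) m) m
      (finrank_plus (F := F) m) L' hts
    have h2 : stdR (F := F) m = L' := by
      apply Submodule.eq_of_le_of_finrank_le hle
      rw [(stdR_max (F := F) m).1]
      exact h1
    rw [h2]
    exact hv

theorem stdL_inf_stdR : stdL (F := F) m ⊓ stdR m = ⊥ := by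
  rw [eq_bot_iff]
  intro v hv
  rw [Submodule.mem_bot]
  funext k
  rcases k with k | k
  · exact stdR_inl m v hv.2 k
  · exact stdL_inr m v hv.1 k

/-- the matrix `diag(ν, 1)` -/
noncomputable def deltaMat (ν : F) : Matrix (Fin m ⊕ Fin m) (Fin m ⊕ Fin m) F :=
  fromBlocks (ν • (1 : Matrix (Fin m) (Fin m) F)) 0 0 1

theorem deltaMat_mulVec (ν : F) (v : Fin m ⊕ Fin m → F) :
    deltaMat m ν *ᵥ v = Sum.elim (ν • (v ∘ Sum.inl)) (v ∘ Sum.inr) := by
  unfold deltaMat
  rw [fromBlocks_mulVec, smul_mulVec, one_mulVec, zero_mulVec, zero_mulVec, one_mulVec, add_zero,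
    zero_add]

theorem deltaMat_mul (ν μ : F) : deltaMat m ν * deltaMat m μ = deltaMat m (ν * μ) := by
  unfold deltaMat
  rw [fromBlocks_multiply]
  simp [smul_smul, mul_comm]

theorem deltaMat_one : deltaMat m (1 : F) = 1 := by
  unfold deltaMat
  rw [one_smul, fromBlocks_one]

/-- the similarity `diag(ν, 1)` -/
noncomputable def deltaGL (ν : F) (hν : ν ≠ 0) : GL (Fin m ⊕ Fin m) F :=
  ⟨deltaMat m ν, deltaMat m ν⁻¹, by rw [deltaMat_mul, mul_inv_cancel₀ hν, deltaMat_one],
    by rw [deltaMat_mul, inv_mul_cancel₀ hν, deltaMat_one]⟩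

theorem deltaGL_sim (ν : F) (hν : ν ≠ 0) (v : Fin m ⊕ Fin m → F) :
    plusForm m F ((deltaGL m ν hν : Matrix (Fin m ⊕ Fin m) (Fin m ⊕ Fin m) F) *ᵥ v) =
      ν * plusForm m F v := by
  show plusForm m F (deltaMat m ν *ᵥ v) = ν * plusForm m F v
  rw [deltaMat_mulVec, plusForm_apply, plusForm_apply]
  unfold Cfsg.quadFormPlus
  rw [Finset.mul_sum]
  apply Finset.sum_congr rfl
  intro k _
  simp only [Sum.elim_inl, Sum.elim_inr, Pi.smul_apply, Function.comp_apply, smul_eq_mul]
  ring

theorem deltaGL_mem (ν : F) (hν : ν ≠ 0) :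
    deltaGL m ν hν ∈ Geo.quadSimilarityGroup (F := F) ⇑(plusForm m F) :=
  ⟨Units.mk0 ν hν, deltaGL_sim m ν hν⟩

theorem deltaGL_det (ν : F) (hν : ν ≠ 0) :
    (deltaGL m ν hν : Matrix (Fin m ⊕ Fin m) (Fin m ⊕ Fin m) F).det = ν ^ m := by
  show (deltaMat m ν).det = ν ^ m
  unfold deltaMat
  rw [det_fromBlocks_zero₂₁, det_smul, det_one, mul_one, mul_one, Fintype.card_fin]

theorem deltaGL_stdL (ν : F) (hν : ν ≠ 0) :
    imageSubmodule (deltaGL m ν hν : Matrix (Fin m ⊕ Fin m) (Fin m ⊕ Fin m) F) (stdL m) =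
      stdL m := by
  apply Submodule.eq_of_le_of_finrank_eq
  · intro x hx
    obtain ⟨u, hu, rfl⟩ := (mem_imageSubmodule _ _ x).1 hx
    rw [mem_stdL_iff] at hu ⊢
    intro i
    show (deltaMat m ν *ᵥ u) (Sum.inr i) = 0
    rw [deltaMat_mulVec]
    exact hu i
  · rw [finrank_imageSubmodule]

/-- the swap of the two standard maximal totally singular subspaces -/
noncomputable def swapMat : Matrix (Fin m ⊕ Fin m) (Fin m ⊕ Fin m) F :=
  fromBlocks 0 1 1 0

theorem swapMat_mulVec (v : Fin m ⊕ Fin m → F) :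
    swapMat m *ᵥ v = Sum.elim (v ∘ Sum.inr) (v ∘ Sum.inl) := by
  unfold swapMat
  rw [fromBlocks_mulVec, zero_mulVec, zero_mulVec, one_mulVec, one_mulVec, add_zero, zero_add]

theorem swapMat_mul_self : swapMat (F := F) m * swapMat m = 1 := by
  unfold swapMat
  rw [fromBlocks_multiply]
  simp [fromBlocks_one]

/-- the swap as an invertible matrix -/
noncomputable def swapGL : GL (Fin m ⊕ Fin m) F :=
  ⟨swapMat m, swapMat m, swapMat_mul_self m, swapMat_mul_self m⟩

theorem swapGL_mem : swapGL (F := F) m ∈ isometryGroup F ⇑(plusForm m F) := by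
  rw [Cfsg.Agent.Lib.Helper5.OrthCard.mem_isometryGroup_iff]
  intro v
  show plusForm m F (swapMat m *ᵥ v) = plusForm m F v
  rw [swapMat_mulVec, plusForm_apply, plusForm_apply]
  unfold Cfsg.quadFormPlus
  apply Finset.sum_congr rfl
  intro k _
  simp only [Sum.elim_inl, Sum.elim_inr, Function.comp_apply]
  ring

theorem swapGL_stdL :
    imageSubmodule (swapGL (F := F) m : Matrix (Fin m ⊕ Fin m) (Fin m ⊕ Fin m) F) (stdL m) =
      stdR m := by
  apply Submodule.eq_of_le_of_finrank_eq
  · intro x hx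
    obtain ⟨u, hu, rfl⟩ := (mem_imageSubmodule _ _ x).1 hx
    rw [mem_stdL_iff] at hu
    rw [mem_stdR_iff]
    intro i
    show (swapMat m *ᵥ u) (Sum.inl i) = 0
    rw [swapMat_mulVec]
    exact hu i
  · rw [finrank_imageSubmodule, (stdL_max (F := F) m).1, (stdR_max (F := F) m).1]

theorem swap_delta (ν : F) (hν : ν ≠ 0) :
    swapMat m * deltaMat m ν =
      (ν • (1 : Matrix (Fin m ⊕ Fin m) (Fin m ⊕ Fin m) F)) * deltaMat m ν⁻¹ * swapMat m := by
  unfold swapMat deltaMat
  rw [Matrix.smul_mul, Matrix.one_mul, fromBlocks_smul, fromBlocks_multiply, fromBlocks_multiply]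
  simp [smul_smul, mul_inv_cancel₀ hν]

end plusstd

end Cfsg.Agent.Lib.Helper5.OAut
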