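import Mathlib
import Cfsg.Prelude.Def_LieTypeDatum
import Cfsg.Agent.Lib.Helper5.OAut.InndiagPlus
import Cfsg.Agent.S2613

set_option autoImplicit false

/-! `Inndiag(PΩ⁺) / Inn(PΩ⁺)`. -/

namespace Cfsg.Agent.Lib.Helper5.OAut

open Cfsg Matrix QuadraticMap Module Cfsg.Agent.Lib.Helper5.SpinorNorm
  Cfsg.Agent.Lib.Helper5.Refl Cfsg.Agent.Lib.Helper5.MaxTS
  Cfsg.Agent.Lib.Helper5.SpinorDiag

section plusmain
variable {F : Type*} [Field F] [Fintype F] (m : ℕ)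

theorem deltaGL_mult {w₀ : Fin m ⊕ Fin m → F} (hw₀ : plusForm m F w₀ = 1) (ν : F) (hν : ν ≠ 0) :
    mult (plusForm m F) w₀ (deltaGL m ν hν) = ν := by
  unfold mult
  rw [deltaGL_sim, hw₀, mul_one]

theorem deltaGL_detRatio {w₀ : Fin m ⊕ Fin m → F} (hw₀ : plusForm m F w₀ = 1) (ν : F)
    (hν : ν ≠ 0) : detRatio (Q := plusForm m F) w₀ m (deltaGL m ν hν) = 1 := by
  unfold detRatio
  rw [deltaGL_mult m hw₀, deltaGL_det, ← mul_pow, mul_inv_cancel₀ hν, one_pow]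

theorem deltaGL_sdist (ν : F) (hν : ν ≠ 0) : Even (sdist m (stdL m) (deltaGL m ν hν)) := by
  unfold sdist
  rw [deltaGL_stdL, inf_idem, (stdL_max (F := F) m).1, Nat.sub_self]
  exact ⟨0, rfl⟩

/-- the class-preserving similarities of the hyperbolic form -/
theorem plus_crit (h2 : (2 : F) ≠ 0) {w₀ : Fin m ⊕ Fin m → F} (hw₀ : plusForm m F w₀ = 1)
    (hcard : Fintype.card (Fin m ⊕ Fin m) = 2 * m) (g : GL (Fin m ⊕ Fin m) F)
    (hg : g ∈ Geo.quadSimilarityGroup (F := F) ⇑(plusForm m F)) :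
    PreservesSingularClasses ⇑(plusForm m F) (g : Matrix (Fin m ⊕ Fin m) (Fin m ⊕ Fin m) F) ↔
      detRatio (Q := plusForm m F) w₀ m g = 1 := by
  have hν := mult_ne_zero hw₀ hg
  exact psc_iff_detRatio (plusForm m F) h2 (PlusGeom.plus_nondegenerate (F := F) m) m hcard
    (stdL m) (stdL_max m) hw₀ g hg (deltaGL m _ hν) (deltaGL_mem m _ hν)
    (deltaGL_mult m hw₀ _ hν) (deltaGL_detRatio m hw₀ _ hν) (deltaGL_sdist m _ hν)

set_option maxHeartbeats 4000000 in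
/-- **`Inndiag(PΩ⁺_{2m}(q)) / Inn`** for `q` odd and `m ≥ 3` -/
theorem exists_inndiag_plus (h2 : (2 : F) ≠ 0) (hm : 3 ≤ m) :
    (negOne (plusForm m F) ∉ Omega F ⇑(plusForm m F) →
      ∃ φ : ↥(inndiagGen ⇑(plusForm m F)) →* Multiplicative (ZMod 2), Function.Surjective φ ∧
        φ.ker = (Inn (POmega F ⇑(plusForm m F))).subgroupOf (inndiagGen ⇑(plusForm m F))) ∧
    (negOne (plusForm m F) ∈ Omega F ⇑(plusForm m F) → Odd m →
      ∃ φ : ↥(inndiagGen ⇑(plusForm m F)) →* Multiplicative (ZMod 4), Function.Surjective φ ∧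
        φ.ker = (Inn (POmega F ⇑(plusForm m F))).subgroupOf (inndiagGen ⇑(plusForm m F))) ∧
    (negOne (plusForm m F) ∈ Omega F ⇑(plusForm m F) → Even m →
      ∃ φ : ↥(inndiagGen ⇑(plusForm m F)) →* Multiplicative (ZMod 2 × ZMod 2),
        Function.Surjective φ ∧
        φ.ker = (Inn (POmega F ⇑(plusForm m F))).subgroupOf (inndiagGen ⇑(plusForm m F))) := by
  have hQ := PlusGeom.plus_nondegenerate (F := F) m
  have hfam := Cfsg.Agent.S2613.plus_hypFamily (F := F) (le_refl m)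
  have hcard : Fintype.card (Fin m ⊕ Fin m) = 2 * m := by
    rw [Fintype.card_sum, Fintype.card_fin]
    ring
  have h5 : 5 ≤ Fintype.card (Fin m ⊕ Fin m) := by
    rw [hcard]
    omega
  obtain ⟨w₀, hw₀⟩ := exists_quad_eq (plusForm m F) hQ (by rw [hcard]; omega) 1 one_ne_zero
  obtain ⟨ν, hν0, hν⟩ := exists_nonsquare (F := F) h2
  rw [inndiagGen_eq h2 hQ w₀ hw₀ m hcard (plus_crit m h2 hw₀ hcard)]
  obtain ⟨δ, hδdef⟩ : ∃ δ : ↥(Geo.quadSimilarityGroup (F := F) ⇑(plusForm m F)),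
      (δ : GL (Fin m ⊕ Fin m) F) = deltaGL m ν hν0 := ⟨⟨_, deltaGL_mem m ν hν0⟩, rfl⟩
  have hδm : mult (plusForm m F) w₀ (δ : GL (Fin m ⊕ Fin m) F) = ν := by
    rw [hδdef]
    exact deltaGL_mult m hw₀ ν hν0
  have hδ : ¬ IsSquare (mult (plusForm m F) w₀ (δ : GL (Fin m ⊕ Fin m) F)) := by
    rw [hδm]
    exact hν
  have hns : ∃ g₁ : ↥(Geo.quadSimilarityGroup (F := F) ⇑(plusForm m F)),
      ¬ IsSquare (mult (plusForm m F) w₀ (g₁ : GL (Fin m ⊕ Fin m) F)) := ⟨δ, hδ⟩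
  have hδ0 : δ ∈ goZero h2 hQ w₀ hw₀ m hcard := by
    rw [mem_goZero_iff, hδdef]
    exact deltaGL_detRatio m hw₀ ν hν0
  refine ⟨fun hneg => exists_inndiag_mod_inn_two h2 hQ hfam hm h5 w₀ hw₀ m hcard hns hneg, ?_⟩
  -- the swap
  obtain ⟨σ, hσdef⟩ : ∃ σ : ↥(isometryGroup F ⇑(plusForm m F)),
      (σ : GL (Fin m ⊕ Fin m) F) = swapGL m := ⟨⟨_, swapGL_mem m⟩, rfl⟩
  obtain ⟨vs, hvs⟩ := exists_rep (plusForm m F) h2 hQ σ
  have hpar : Even m ↔ Even vs.length := by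
    have h1 := Cfsg.Agent.Lib.Helper5.ClassParity.even_dist_iff (plusForm m F) hQ m
      (finrank_plus (F := F) m) (stdL m) (stdL_max m) σ vs hvs
    have h3 : Cfsg.Agent.Lib.Helper5.OrthParity.img (plusForm m F) σ (stdL m) = stdR m := by
      show imageSubmodule ((σ : GL (Fin m ⊕ Fin m) F) :
        Matrix (Fin m ⊕ Fin m) (Fin m ⊕ Fin m) F) (stdL m) = stdR m
      rw [hσdef]
      exact swapGL_stdL m
    rw [h3, stdL_inf_stdR, finrank_bot, Nat.sub_zero] at h1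
    exact h1
  obtain ⟨zs, hzsdef⟩ : ∃ zs : ↥(Geo.quadSimilarityGroup (F := F) ⇑(plusForm m F)),
      (zs : GL (Fin m ⊕ Fin m) F) = scalarGL (Fin m ⊕ Fin m) ν hν0 :=
    ⟨⟨_, scalarGL_mem ν hν0⟩, rfl⟩
  have hzs : zs ∈ (conjGO (plusForm m F)).ker :=
    mem_ker_conjGO_of_scalar zs ν (by rw [hzsdef]; rfl)
  have hJD : swapGL (F := F) m * deltaGL m ν hν0 =
      scalarGL (Fin m ⊕ Fin m) ν hν0 * (deltaGL m ν hν0)⁻¹ * swapGL m := by
    apply Units.ext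
    exact swap_delta m ν hν0
  have hrel : inclO (plusForm m F) σ * δ * (inclO (plusForm m F) σ)⁻¹ * δ⁻¹ =
      zs * δ⁻¹ * δ⁻¹ := by
    apply Subtype.ext
    show ((σ : ↥(isometryGroup F ⇑(plusForm m F))) : GL (Fin m ⊕ Fin m) F) *
      (δ : GL (Fin m ⊕ Fin m) F) *
      ((σ : ↥(isometryGroup F ⇑(plusForm m F))) : GL (Fin m ⊕ Fin m) F)⁻¹ *
      (δ : GL (Fin m ⊕ Fin m) F)⁻¹ =
      (zs : GL (Fin m ⊕ Fin m) F) * (δ : GL (Fin m ⊕ Fin m) F)⁻¹ *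
      (δ : GL (Fin m ⊕ Fin m) F)⁻¹
    rw [hσdef, hδdef, hzsdef, hJD]
    group
  constructor
  · intro hneg hodd
    refine (exists_inndiag_mod_inn_four h2 hQ hfam hm h5 w₀ hw₀ m hcard hneg δ hδ0 hδ σ vs hvs
      zs hzs hrel).1 ?_
    rw [← Nat.not_even_iff_odd, ← hpar, Nat.not_even_iff_odd]
    exact hodd
  · intro hneg heven
    exact (exists_inndiag_mod_inn_four h2 hQ hfam hm h5 w₀ hw₀ m hcard hneg δ hδ0 hδ σ vs hvs
      zs hzs hrel).2 (hpar.1 heven)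

end plusmain

end Cfsg.Agent.Lib.Helper5.OAut
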