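import Mathlib
import Cfsg.Prelude.Def_LieTypeDatum
import Cfsg.Agent.Lib.Helper5.OAut.BaseChange
import Cfsg.Agent.Lib.Helper5.SpinorNorm
import Cfsg.Agent.Lib.Helper5.Refl

set_option autoImplicit false

/-! Similarities with non-square multiplier and scalar square: a nonsingular vector orthogonal
to its image. -/

namespace Cfsg.Agent.Lib.Helper5.OAut

open Cfsg Matrix QuadraticMap Cfsg.Agent.Lib.Helper5.SpinorNorm Cfsg.Agent.Lib.Helper5.Refl

section nonsq
variable {ι : Type} [Fintype ι] [DecidableEq ι] {F : Type*} [Field F] [Fintype F]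
  {Q : QuadraticForm F (ι → F)}

/-- two quadrics in at least five variables over a finite field meet nontrivially
(Chevalley–Warning) -/
theorem exists_common_zero (A₁ A₂ : Matrix ι ι F) (h : 4 < Fintype.card ι) :
    ∃ x : ι → F, x ≠ 0 ∧ x ⬝ᵥ A₁ *ᵥ x = 0 ∧ x ⬝ᵥ A₂ *ᵥ x = 0 := by
  classical
  obtain ⟨p, hp⟩ := CharP.exists F
  have := hp
  have hprime : p.Prime := CharP.char_is_prime F p
  have hdeg : ∀ A : Matrix ι ι F, (∑ i, ∑ j, MvPolynomial.C (A i j) * MvPolynomial.X i *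
      MvPolynomial.X j : MvPolynomial ι F).totalDegree ≤ 2 := by
    intro A
    apply MvPolynomial.totalDegree_finsetSum_le
    intro i _
    apply MvPolynomial.totalDegree_finsetSum_le
    intro j _
    refine le_trans (MvPolynomial.totalDegree_mul _ _) ?_
    refine le_trans (Nat.add_le_add_right (MvPolynomial.totalDegree_mul _ _) _) ?_
    rw [MvPolynomial.totalDegree_C, MvPolynomial.totalDegree_X, MvPolynomial.totalDegree_X]
  have heval : ∀ (A : Matrix ι ι F) (x : ι → F), MvPolynomial.eval x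
      (∑ i, ∑ j, MvPolynomial.C (A i j) * MvPolynomial.X i * MvPolynomial.X j) =
      x ⬝ᵥ A *ᵥ x := by
    intro A x
    simp only [map_sum, map_mul, MvPolynomial.eval_C, MvPolynomial.eval_X, dotProduct, mulVec,
      Finset.mul_sum]
    apply Finset.sum_congr rfl
    intro i _
    apply Finset.sum_congr rfl
    intro j _
    ring
  have hdvd := char_dvd_card_solutions_of_add_lt p
    (f₁ := ∑ i, ∑ j, MvPolynomial.C (A₁ i j) * MvPolynomial.X i * MvPolynomial.X j)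
    (f₂ := ∑ i, ∑ j, MvPolynomial.C (A₂ i j) * MvPolynomial.X i * MvPolynomial.X j)
    (lt_of_le_of_lt (Nat.add_le_add (hdeg A₁) (hdeg A₂)) h)
  have hpos : 0 < Fintype.card {x : ι → F // MvPolynomial.eval x
      (∑ i, ∑ j, MvPolynomial.C (A₁ i j) * MvPolynomial.X i * MvPolynomial.X j) = 0 ∧
      MvPolynomial.eval x
      (∑ i, ∑ j, MvPolynomial.C (A₂ i j) * MvPolynomial.X i * MvPolynomial.X j) = 0} := by
    rw [Fintype.card_pos_iff]
    refine ⟨⟨0, ?_, ?_⟩⟩
    · rw [heval, mulVec_zero, dotProduct_zero]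
    · rw [heval, mulVec_zero, dotProduct_zero]
  have h1lt := lt_of_lt_of_le hprime.one_lt (Nat.le_of_dvd hpos hdvd)
  obtain ⟨⟨x, hx⟩, ⟨y, hy⟩, hxy⟩ := Fintype.exists_pair_of_one_lt_card h1lt
  rw [heval, heval] at hx hy
  by_cases hx0 : x = 0
  · refine ⟨y, ?_, hy⟩
    intro hy0
    apply hxy
    apply Subtype.ext
    show x = y
    rw [hx0, hy0]
  · exact ⟨x, hx0, hx⟩

omit [Fintype F] in
theorem polar_eq_gram (x y : ι → F) :
    polar ⇑Q x y = x ⬝ᵥ (LinearMap.toMatrix₂' F (polarBilin Q) *ᵥ y) := by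
  rw [← Matrix.toLinearMap₂'_apply', Matrix.toLinearMap₂'_toMatrix', polarBilin_apply_apply]

set_option maxHeartbeats 1000000 in
/-- **a nonsingular vector orthogonal to its image** -/
theorem exists_orth_image (h2 : (2 : F) ≠ 0) (hQ : (polarBilin Q).Nondegenerate)
    (hcard : 4 < Fintype.card ι) (G : Matrix ι ι F) (μ : F) (hμ : ¬ IsSquare μ)
    (hG : ∀ v, Q (G *ᵥ v) = μ * Q v) (lam : F) (hGG : G * G = lam • (1 : Matrix ι ι F))
    (hlam : lam = μ ∨ lam = -μ) :
    ∃ w, Q w ≠ 0 ∧ polar ⇑Q w (G *ᵥ w) = 0 := by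
  have hμ0 : μ ≠ 0 := by
    rintro rfl
    exact hμ ⟨0, by ring⟩
  have hGGv : ∀ v, G *ᵥ (G *ᵥ v) = lam • v := by
    intro v
    rw [mulVec_mulVec, hGG, smul_mulVec, one_mulVec]
  have hps := polar_sim' (QF := Q) G μ hG
  rcases hlam with hl | hl
  · -- the self-adjoint case
    rw [hl] at hGGv
    have hself : ∀ u v, polar ⇑Q (G *ᵥ u) v = polar ⇑Q u (G *ᵥ v) := by
      intro u v
      have h1 := hps (G *ᵥ u) v
      rw [hGGv, polar_smul_left, smul_eq_mul] at h1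
      exact (mul_left_cancel₀ hμ0 h1).symm
    obtain ⟨u, hu0, hu1, hu2⟩ := exists_common_zero (LinearMap.toMatrix₂' F (polarBilin Q))
      (LinearMap.toMatrix₂' F (polarBilin Q) * G) hcard
    have hQu : Q u = 0 := by
      rw [quad_eq_gram h2 u, hu1, mul_zero]
    have hpu : polar ⇑Q u (G *ᵥ u) = 0 := by
      rw [polar_eq_gram, mulVec_mulVec]
      exact hu2
    obtain ⟨v₀, hv₀⟩ : ∃ v₀, polar ⇑Q u v₀ ≠ 0 := by
      by_contra hall
      push Not at hall
      exact hu0 (hQ.1 u hall)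
    obtain ⟨s, hs⟩ : ∃ s, s = polar ⇑Q u v₀ := ⟨_, rfl⟩
    obtain ⟨t, ht⟩ : ∃ t, t = polar ⇑Q u (G *ᵥ v₀) := ⟨_, rfl⟩
    have hs0 : s ≠ 0 := by rw [hs]; exact hv₀
    have hD : μ * s ^ 2 - t ^ 2 ≠ 0 := by
      intro h0
      apply hμ
      refine ⟨t / s, ?_⟩
      field_simp
      linear_combination h0
    obtain ⟨e, he⟩ : ∃ e, e = 1 - Q v₀ := ⟨_, rfl⟩
    obtain ⟨f, hf⟩ : ∃ f, 2 * f = -(polar ⇑Q v₀ (G *ᵥ v₀)) :=
      ⟨-(polar ⇑Q v₀ (G *ᵥ v₀)) / 2, by field_simp⟩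
    obtain ⟨a, ha⟩ : ∃ a, a = (e * μ * s - f * t) / (μ * s ^ 2 - t ^ 2) := ⟨_, rfl⟩
    obtain ⟨b, hb⟩ : ∃ b, b = (f * s - e * t) / (μ * s ^ 2 - t ^ 2) := ⟨_, rfl⟩
    have hab1 : a * s + b * t = e := by
      rw [ha, hb]
      field_simp
      ring
    have hab2 : a * t + b * μ * s = f := by
      rw [ha, hb]
      field_simp
      ring
    -- the atoms
    have e1 : polar ⇑Q v₀ u = s := by rw [polar_comm, hs]
    have e2 : polar ⇑Q v₀ (G *ᵥ u) = t := by rw [polar_comm, hself, ht]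
    have e3 : polar ⇑Q (G *ᵥ u) u = 0 := by rw [polar_comm, hpu]
    have e4 : polar ⇑Q u u = 0 := by rw [polar_self, hQu, smul_zero]
    have e5 : polar ⇑Q (G *ᵥ u) (G *ᵥ u) = 0 := by rw [hps, e4, mul_zero]
    have e6 : polar ⇑Q (G *ᵥ u) (G *ᵥ v₀) = μ * s := by rw [hps, hs]
    have e7 : Q (G *ᵥ u) = 0 := by rw [hG, hQu, mul_zero]
    refine ⟨v₀ + a • u + b • (G *ᵥ u), ?_, ?_⟩
    · have : Q (v₀ + a • u + b • (G *ᵥ u)) = 1 := by
        rw [quad_add_smul, quad_add_smul, polar_add_left, polar_smul_left, smul_eq_mul, e1, e2,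
          hpu, hQu, e7]
        linear_combination hab1 + he
      rw [this]
      exact one_ne_zero
    · rw [mulVec_add, mulVec_add, mulVec_smul, mulVec_smul, hGGv]
      simp only [polar_add_left, polar_add_right, polar_smul_left, polar_smul_right, smul_eq_mul]
      rw [e1, e2, e3, e4, e5, e6, hpu, ← ht]
      linear_combination 2 * hab2 + hf
  · -- the skew case
    rw [hl] at hGGv
    obtain ⟨w, hw⟩ := exists_quad_eq Q hQ (by omega) 1 one_ne_zero
    refine ⟨w, by rw [hw]; exact one_ne_zero, ?_⟩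
    have h1 := hps w (G *ᵥ w)
    rw [hGGv, polar_smul_right, smul_eq_mul, polar_comm ⇑Q (G *ᵥ w) w] at h1
    have h3 : (2 * μ) * polar ⇑Q w (G *ᵥ w) = 0 := by linear_combination -h1
    exact (mul_eq_zero.1 h3).resolve_left (mul_ne_zero h2 hμ0)

end nonsq

end Cfsg.Agent.Lib.Helper5.OAut
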