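import Mathlib
import Cfsg.Prelude.Def_LieTypeDatum

set_option autoImplicit false

/-! Counting the classes into which a class splits: `splitClassCount H K x = |H : K · C_H(x)|`. -/

namespace Cfsg.Agent.Lib.Helper5.OAut

open Cfsg

section splitcount
variable {X : Type*} [Group X]

/-- the subgroup `K · C_H(x)` -/
def stabSub (H K : Subgroup X) (x : X) : Subgroup X := K ⊔ (Subgroup.centralizer {x} ⊓ H)

theorem stabSub_le (H K : Subgroup X) (hKH : K ≤ H) (x : X) : stabSub H K x ≤ H :=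
  sup_le hKH inf_le_right

theorem le_stabSub (H K : Subgroup X) (x : X) : K ≤ stabSub H K x := le_sup_left

theorem mem_stabSub_iff (H K : Subgroup X) [K.Normal] (x y : X) :
    y ∈ stabSub H K x ↔ ∃ k ∈ K, ∃ c ∈ H, c * x = x * c ∧ k * c = y := by
  unfold stabSub
  rw [Subgroup.mem_sup_of_normal_left]
  constructor
  · rintro ⟨k, hk, c, ⟨hc1, hc2⟩, rfl⟩
    refine ⟨k, hk, c, hc2, ?_, rfl⟩
    exact ((Subgroup.mem_centralizer_singleton_iff).1 hc1)
  · rintro ⟨k, hk, c, hc, hcx, rfl⟩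
    exact ⟨k, hk, c, ⟨(Subgroup.mem_centralizer_singleton_iff).2 hcx, hc⟩, rfl⟩

theorem isConjUnder_equivalence (H K : Subgroup X) (x : X) :
    Equivalence (fun y z : {y : X // IsConjUnder H x y} => IsConjUnder K y.1 z.1) := by
  refine ⟨?_, ?_, ?_⟩
  · intro y
    exact ⟨1, K.one_mem, by simp⟩
  · rintro y z ⟨k, hk, hz⟩
    refine ⟨k⁻¹, K.inv_mem hk, ?_⟩
    rw [hz]
    group
  · rintro y z w ⟨k, hk, hz⟩ ⟨l, hl, hw⟩
    refine ⟨l * k, K.mul_mem hl hk, ?_⟩
    rw [hw, hz]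
    group

/-- **the splitting count is an index** -/
theorem splitClassCount_eq (H K : Subgroup X) [hKn : K.Normal] (hKH : K ≤ H) (x : X) :
    splitClassCount H K x = (stabSub H K x).relIndex H := by
  unfold splitClassCount Subgroup.relIndex Subgroup.index
  symm
  have hf : ∀ a b : ↥H, (QuotientGroup.leftRel ((stabSub H K x).subgroupOf H)) a b →
      (Quot.mk (fun y z : {y : X // IsConjUnder H x y} => IsConjUnder K y.1 z.1)
        ⟨(a : X) * x * (a : X)⁻¹, ⟨a, a.2, rfl⟩⟩ : Quot _) =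
      Quot.mk _ ⟨(b : X) * x * (b : X)⁻¹, ⟨b, b.2, rfl⟩⟩ := by
    intro a b hab
    rw [QuotientGroup.leftRel_apply, Subgroup.mem_subgroupOf, mem_stabSub_iff] at hab
    obtain ⟨k, hk, c, hc, hcx, hkc⟩ := hab
    apply Quot.sound
    refine ⟨(a : X) * k * (a : X)⁻¹, hKn.conj_mem k hk a, ?_⟩
    show (b : X) * x * (b : X)⁻¹ = _
    have hb : (b : X) = (a : X) * (k * c) := by
      rw [hkc, Subgroup.coe_mul, Subgroup.coe_inv, mul_inv_cancel_left]
    have hcx' : c * x * c⁻¹ = x := by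
      rw [hcx, mul_inv_cancel_right]
    rw [hb]
    calc (a : X) * (k * c) * x * ((a : X) * (k * c))⁻¹
        = (a : X) * k * (c * x * c⁻¹) * k⁻¹ * (a : X)⁻¹ := by group
      _ = (a : X) * k * (a : X)⁻¹ * ((a : X) * x * (a : X)⁻¹) * ((a : X) * k * (a : X)⁻¹)⁻¹ := by
          rw [hcx']
          group
  apply Nat.card_congr
  refine Equiv.ofBijective (Quotient.lift _ hf) ⟨?_, ?_⟩
  · intro p q
    induction p using Quotient.inductionOn with
    | h a =>
    induction q using Quotient.inductionOn with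
    | h b =>
    intro hpq
    rw [Quotient.lift_mk, Quotient.lift_mk] at hpq
    have h1 := (isConjUnder_equivalence H K x).eqvGen_iff.1 (Quot.eqvGen_exact hpq)
    obtain ⟨k, hk, hkx⟩ := h1
    apply Quotient.sound
    show (QuotientGroup.leftRel ((stabSub H K x).subgroupOf H)) a b
    rw [QuotientGroup.leftRel_apply, Subgroup.mem_subgroupOf, mem_stabSub_iff]
    have hkx' : (b : X) * x * (b : X)⁻¹ = k * ((a : X) * x * (a : X)⁻¹) * k⁻¹ := hkx
    refine ⟨(a : X)⁻¹ * k * (a : X), hKn.conj_mem' k hk a, (a : X)⁻¹ * k⁻¹ * (b : X), ?_, ?_, ?_⟩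
    · exact H.mul_mem (H.mul_mem (H.inv_mem a.2) (H.inv_mem (hKH hk))) b.2
    · have h3 : x = (a : X)⁻¹ * k⁻¹ * ((b : X) * x * (b : X)⁻¹) * k * (a : X) := by
        rw [hkx']
        group
      calc (a : X)⁻¹ * k⁻¹ * (b : X) * x
          = (a : X)⁻¹ * k⁻¹ * ((b : X) * x * (b : X)⁻¹) * k * (a : X) *
            ((a : X)⁻¹ * k⁻¹ * (b : X)) := by group
        _ = x * ((a : X)⁻¹ * k⁻¹ * (b : X)) := by rw [← h3]
    · rw [Subgroup.coe_mul, Subgroup.coe_inv]
      group
  · intro q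
    induction q using Quot.inductionOn with
    | h y =>
    obtain ⟨y, h, hh, rfl⟩ := y
    exact ⟨Quotient.mk _ ⟨h, hh⟩, rfl⟩

theorem splitClassCount_of_relIndex_two (H K : Subgroup X) [K.Normal] (hKH : K ≤ H) (x : X)
    (h2 : K.relIndex H = 2) : splitClassCount H K x = 1 ∨ splitClassCount H K x = 2 := by
  rw [splitClassCount_eq H K hKH x]
  have hmul := Subgroup.relIndex_mul_relIndex K (stabSub H K x) H (le_stabSub H K x)
    (stabSub_le H K hKH x)
  rw [h2] at hmul
  have hdvd : (stabSub H K x).relIndex H ∣ 2 := ⟨_, by rw [← hmul, mul_comm]⟩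
  exact (Nat.dvd_prime Nat.prime_two).1 hdvd

theorem splitClassCount_eq_two (H K : Subgroup X) [hKn : K.Normal] (hKH : K ≤ H) (x : X)
    (h4 : K.relIndex H = 4) (c : X) (hcH : c ∈ H) (hcK : c ∉ K) (hcx : c * x = x * c)
    (h : X) (hh : h ∈ H) (hhx : h * x * h⁻¹ * x⁻¹ ∉ K) : splitClassCount H K x = 2 := by
  rw [splitClassCount_eq H K hKH x]
  have hmul := Subgroup.relIndex_mul_relIndex K (stabSub H K x) H (le_stabSub H K x)
    (stabSub_le H K hKH x)
  rw [h4] at hmul
  have ha : K.relIndex (stabSub H K x) ≠ 1 := by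
    intro h1
    rw [Subgroup.relIndex_eq_one] at h1
    apply hcK
    apply h1
    rw [mem_stabSub_iff]
    exact ⟨1, K.one_mem, c, hcH, hcx, one_mul c⟩
  have hb : (stabSub H K x).relIndex H ≠ 1 := by
    intro h1
    rw [Subgroup.relIndex_eq_one] at h1
    have h3 := h1 hh
    rw [mem_stabSub_iff] at h3
    obtain ⟨k, hk, c', hc', hcx', rfl⟩ := h3
    apply hhx
    have h5 : k * c' * x * (k * c')⁻¹ * x⁻¹ = k * (x * k⁻¹ * x⁻¹) := by
      have : c' * x * c'⁻¹ = x := by rw [hcx', mul_inv_cancel_right]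
      calc k * c' * x * (k * c')⁻¹ * x⁻¹ = k * (c' * x * c'⁻¹) * k⁻¹ * x⁻¹ := by group
        _ = k * (x * k⁻¹ * x⁻¹) := by rw [this]; group
    rw [h5]
    exact K.mul_mem hk (hKn.conj_mem _ (K.inv_mem hk) x)
  have hle : K.relIndex (stabSub H K x) ≤ 4 :=
    Nat.le_of_dvd (by norm_num) ⟨_, hmul.symm⟩
  generalize K.relIndex (stabSub H K x) = a at *
  generalize (stabSub H K x).relIndex H = b at *
  interval_cases a <;> omega

/-- the centre of the dihedral group of order eight -/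
theorem dihedral_center_cases : ∀ d : DihedralGroup 4, (∀ e : DihedralGroup 4, e * d = d * e) →
    d = 1 ∨ d = DihedralGroup.r 1 * DihedralGroup.r 1 := by
  decide

/-- an element outside an index-two subgroup does not centralise it modulo `K` when the whole
quotient is dihedral of order eight -/
theorem exists_comm_not_mem (P H K : Subgroup X) (hKH : K ≤ H)
    (hidx : H.relIndex P = 2) (φ : ↥P →* DihedralGroup 4) (hφ : Function.Surjective φ)
    (hker : φ.ker = K.subgroupOf P) (x : X) (hxP : x ∈ P) (hxH : x ∉ H) :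
    ∃ h ∈ H, h * x * h⁻¹ * x⁻¹ ∉ K := by
  by_contra hall
  push Not at hall
  have hidx' : (H.subgroupOf P).index = 2 := hidx
  obtain ⟨ξ, hξ⟩ : ∃ ξ : ↥P, (ξ : X) = x := ⟨⟨x, hxP⟩, rfl⟩
  have hξH : ξ ∉ H.subgroupOf P := by
    rw [Subgroup.mem_subgroupOf, hξ]
    exact hxH
  have hcommH : ∀ p : ↥P, p ∈ H.subgroupOf P → φ p * φ ξ = φ ξ * φ p := by
    intro p hp
    have h1 : p * ξ * p⁻¹ * ξ⁻¹ ∈ φ.ker := by
      rw [hker, Subgroup.mem_subgroupOf]
      have := hall (p : X) hp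
      rw [← hξ] at this
      exact this
    rw [MonoidHom.mem_ker, map_mul, map_mul, map_mul, map_inv, map_inv] at h1
    calc φ p * φ ξ = φ p * φ ξ * (φ p)⁻¹ * (φ ξ)⁻¹ * (φ ξ * φ p) := by group
      _ = φ ξ * φ p := by rw [h1, one_mul]
  have hcomm : ∀ p : ↥P, φ p * φ ξ = φ ξ * φ p := by
    intro p
    by_cases hp : p ∈ H.subgroupOf P
    · exact hcommH p hp
    · have h1 : ξ⁻¹ * p ∈ H.subgroupOf P := by
        rw [Subgroup.mul_mem_iff_of_index_two hidx', inv_mem_iff]
        exact ⟨fun h => absurd h hξH, fun h => absurd h hp⟩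
      have h2 := hcommH _ h1
      rw [map_mul, map_inv] at h2
      calc φ p * φ ξ = φ ξ * ((φ ξ)⁻¹ * φ p * φ ξ) := by group
        _ = φ ξ * (φ ξ * ((φ ξ)⁻¹ * φ p)) := by rw [h2]
        _ = φ ξ * φ p := by group
  have hcent : ∀ e : DihedralGroup 4, e * φ ξ = φ ξ * e := by
    intro e
    obtain ⟨p, rfl⟩ := hφ e
    exact hcomm p
  rcases dihedral_center_cases _ hcent with h1 | h1
  · apply hξH
    have : ξ ∈ φ.ker := h1
    rw [hker, Subgroup.mem_subgroupOf] at this
    rw [Subgroup.mem_subgroupOf]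
    exact hKH this
  · obtain ⟨y, hy⟩ := hφ (DihedralGroup.r 1)
    have hyy : y * y ∈ H.subgroupOf P := by
      rw [Subgroup.mul_mem_iff_of_index_two hidx']
    have h2 : ξ * (y * y)⁻¹ ∈ φ.ker := by
      rw [MonoidHom.mem_ker, map_mul, map_inv, map_mul, hy, h1, mul_inv_cancel]
    rw [hker, Subgroup.mem_subgroupOf] at h2
    apply hξH
    have h3 : ξ * (y * y)⁻¹ ∈ H.subgroupOf P := by
      rw [Subgroup.mem_subgroupOf]
      exact hKH h2
    have h4 := (H.subgroupOf P).mul_mem h3 hyy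
    rwa [inv_mul_cancel_right] at h4

end splitcount

end Cfsg.Agent.Lib.Helper5.OAut
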