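import Mathlib
import Cfsg.Prelude.Def_LieTypeDatum
import Cfsg.Agent.Lib.Helper5.OAut.PgoInn

set_option autoImplicit false

/-! A product of two commuting reflections of non-square spinor norm centralised by a
similarity. -/

namespace Cfsg.Agent.Lib.Helper5.OAut

open Cfsg Matrix QuadraticMap Cfsg.Agent.Lib.Helper5.SpinorNorm Cfsg.Agent.Lib.Helper5.Refl

section tworefl
variable {ι : Type} [Fintype ι] [DecidableEq ι] {F : Type*} [Field F]
  {Q : QuadraticForm F (ι → F)}

/-- reflections in orthogonal vectors commute -/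
theorem reflectionMatrix_comm (a b : ι → F) (hab : polar ⇑Q a b = 0) :
    reflectionMatrix ⇑Q a * reflectionMatrix ⇑Q b =
      reflectionMatrix ⇑Q b * reflectionMatrix ⇑Q a := by
  have hba : polar ⇑Q b a = 0 := by rw [polar_comm]; exact hab
  rw [Matrix.ext_iff_mulVec]
  intro x
  rw [← mulVec_mulVec, ← mulVec_mulVec, reflectionMatrix_mulVec Q b x, mulVec_sub, mulVec_smul,
    reflection_fix Q a b hab, reflectionMatrix_mulVec Q a x, mulVec_sub, mulVec_smul,
    reflection_fix Q b a hba, reflectionMatrix_mulVec Q b x]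
  abel

/-- moving a similarity past a reflection -/
theorem sim_mul_reflectionMatrix {w₀ : ι → F} (hw₀ : Q w₀ = 1) {g : GL ι F}
    (hg : g ∈ Geo.quadSimilarityGroup (F := F) ⇑Q) (v : ι → F) :
    (g : Matrix ι ι F) * reflectionMatrix ⇑Q v =
      reflectionMatrix ⇑Q ((g : Matrix ι ι F) *ᵥ v) * (g : Matrix ι ι F) := by
  rw [← reflectionMatrix_sim hw₀ hg v, Matrix.mul_assoc, ← Units.val_mul, inv_mul_cancel,
    Units.val_one, Matrix.mul_one]

variable [Fintype F]

/-- **the two-reflection element** -/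
theorem two_refl (h2 : (2 : F) ≠ 0) (hQ : (polarBilin Q).Nondegenerate)
    (hn : 2 ≤ Fintype.card ι) {w₀ : ι → F} (hw₀ : Q w₀ = 1) {g : GL ι F}
    (hg : g ∈ Geo.quadSimilarityGroup (F := F) ⇑Q) (a b : ι → F) (ha : Q a ≠ 0) (hb : Q b ≠ 0)
    (hab : polar ⇑Q a b = 0) (hns : ¬ IsSquare (Q a * Q b))
    (hcase : (∃ s t : F, s ≠ 0 ∧ t ≠ 0 ∧ (g : Matrix ι ι F) *ᵥ a = s • a ∧
        (g : Matrix ι ι F) *ᵥ b = t • b) ∨
      (∃ s t : F, s ≠ 0 ∧ t ≠ 0 ∧ (g : Matrix ι ι F) *ᵥ a = s • b ∧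
        (g : Matrix ι ι F) *ᵥ b = t • a)) :
    ∃ z : ↥(isometryGroup F ⇑Q), z ∈ soSub Q ∧ z ∉ Omega F ⇑Q ∧
      g * (z : GL ι F) = (z : GL ι F) * g := by
  refine ⟨reflection Q a ha * reflection Q b hb, ?_, ?_, ?_⟩
  · rw [mem_soSub_iff]
    show (reflectionMatrix ⇑Q a * reflectionMatrix ⇑Q b).det = 1
    rw [Matrix.det_mul, reflection_det Q a ha, reflection_det Q b hb]
    ring
  · intro hmem
    have hrep : IsRep Q (reflection Q a ha * reflection Q b hb) ([a] ++ [b]) :=
      isRep_mul Q (isRep_reflection Q a ha) (isRep_reflection Q b hb)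
    have hmem' : reflection Q a ha * reflection Q b hb ∈ commutator ↥(isometryGroup F ⇑Q) := hmem
    rw [mem_commutator_iff Q h2 hQ hn _ _ hrep] at hmem'
    apply hns
    have := hmem'.2
    simpa using this
  · apply Units.ext
    show (g : Matrix ι ι F) * (reflectionMatrix ⇑Q a * reflectionMatrix ⇑Q b) =
      (reflectionMatrix ⇑Q a * reflectionMatrix ⇑Q b) * (g : Matrix ι ι F)
    rw [← Matrix.mul_assoc, sim_mul_reflectionMatrix hw₀ hg a, Matrix.mul_assoc,
      sim_mul_reflectionMatrix hw₀ hg b, ← Matrix.mul_assoc]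
    congr 1
    rcases hcase with ⟨s, t, hs, ht, hga, hgb⟩ | ⟨s, t, hs, ht, hga, hgb⟩
    · rw [hga, hgb, reflectionMatrix_smul Q s hs a ha, reflectionMatrix_smul Q t ht b hb]
    · rw [hga, hgb, reflectionMatrix_smul Q s hs b hb, reflectionMatrix_smul Q t ht a ha]
      exact (reflectionMatrix_comm a b hab).symm

end tworefl

end Cfsg.Agent.Lib.Helper5.OAut
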