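import Mathlib
import Cfsg.Prelude.Def_LieTypeDatum
import Cfsg.Agent.Lib.Helper5.OAut.TwoRefl
import Cfsg.Agent.Lib.Helper5.OAut.InvolCase
import Cfsg.Agent.Lib.Helper5.OAut.NonsqCase
import Cfsg.Agent.Lib.Helper5.OAut.SplitCount
import Cfsg.Agent.Lib.Helper5.OAut.InndiagPlusMain

set_option autoImplicit false

/-! Involutory graph automorphisms of `PΩ⁺`: a special isometry outside `Ω` commuting with the
inducing similarity, and the splitting of the `Inndiag`-class. -/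

namespace Cfsg.Agent.Lib.Helper5.OAut

open Cfsg Matrix QuadraticMap Cfsg.Agent.Lib.Helper5.SpinorNorm Cfsg.Agent.Lib.Helper5.Refl
  Cfsg.Agent.Lib.Helper5.SpinorHyp Cfsg.Agent.Lib.Helper5.SpinorDiag Cfsg.Agent.Lib.Helper5.MaxTS

section graphinv
variable {ι : Type} [Fintype ι] [DecidableEq ι] {F : Type*} [Field F] [Fintype F]
  {Q : QuadraticForm F (ι → F)} {i : ℕ} {α β : Fin i → ι}

set_option maxHeartbeats 1000000 in
/-- **a special isometry outside `Ω` commuting with an involutory class-swapping similarity** -/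
theorem exists_commuting_so (h2 : (2 : F) ≠ 0) (hQ : (polarBilin Q).Nondegenerate)
    (h : IsHypFamily Q α β) (hi : 3 ≤ i) (h5 : 5 ≤ Fintype.card ι) {w₀ : ι → F}
    (hw₀ : Q w₀ = 1) (m : ℕ) (hcard : Fintype.card ι = 2 * m)
    (g : ↥(Geo.quadSimilarityGroup (F := F) ⇑Q))
    (hdr : detRatio (Q := Q) w₀ m (g : GL ι F) ≠ 1) (hgg : g * g ∈ (conjGO Q).ker) :
    ∃ z : ↥(isometryGroup F ⇑Q), z ∈ soSub Q ∧ z ∉ Omega F ⇑Q ∧
      (g : GL ι F) * (z : GL ι F) = (z : GL ι F) * (g : GL ι F) := by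
  obtain ⟨lam, hlam2, hlamM⟩ := scalar_of_mem_ker_conjGO hQ h hi h5 hw₀ (g * g) hgg
  obtain ⟨μ, hμdef⟩ : ∃ μ, μ = mult Q w₀ (g : GL ι F) := ⟨_, rfl⟩
  have hμ0 : μ ≠ 0 := by rw [hμdef]; exact mult_ne_zero hw₀ g.2
  have hG : ∀ v, Q (((g : GL ι F) : Matrix ι ι F) *ᵥ v) = μ * Q v := by
    intro v
    rw [hμdef]
    exact mult_spec hw₀ g.2 v
  have hGG : ((g : GL ι F) : Matrix ι ι F) * ((g : GL ι F) : Matrix ι ι F) =
      lam • (1 : Matrix ι ι F) := by
    rw [← hlamM]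
    rfl
  have hlam : lam = μ ∨ lam = -μ := by
    have h1 : mult Q w₀ ((g * g : ↥(Geo.quadSimilarityGroup (F := F) ⇑Q)) : GL ι F) = μ * μ := by
      rw [hμdef]
      exact mult_mul hw₀ g.2
    rw [h1] at hlam2
    exact mul_self_eq_mul_self_iff.1 hlam2
  have hlam0 : lam ≠ 0 := by
    rcases hlam with hl | hl
    · rw [hl]; exact hμ0
    · rw [hl]; exact neg_ne_zero.2 hμ0
  have hn2 : 2 ≤ Fintype.card ι := by omega
  obtain ⟨ν, hν0, hν⟩ := exists_nonsquare (F := F) h2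
  by_cases hsq : IsSquare μ
  · obtain ⟨c, hc⟩ := hsq
    have hc0 : c ≠ 0 := by
      rintro rfl
      apply hμ0
      rw [hc, mul_zero]
    obtain ⟨M, hMdef⟩ : ∃ M : Matrix ι ι F, M = c⁻¹ • ((g : GL ι F) : Matrix ι ι F) := ⟨_, rfl⟩
    have hGM : ((g : GL ι F) : Matrix ι ι F) = c • M := by
      rw [hMdef, smul_smul, mul_inv_cancel₀ hc0, one_smul]
    have hM : ∀ v, Q (M *ᵥ v) = Q v := by
      intro v
      rw [hMdef, smul_mulVec, QuadraticMap.map_smul, hG, hc, smul_eq_mul]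
      field_simp
    have hMM : M * M = (c⁻¹ * c⁻¹ * lam) • (1 : Matrix ι ι F) := by
      rw [hMdef, Matrix.smul_mul, Matrix.mul_smul, hGG, smul_smul, smul_smul]
    have hdetM : M.det = detRatio (Q := Q) w₀ m (g : GL ι F) := by
      unfold detRatio
      rw [hMdef, Matrix.det_smul, hcard, ← hμdef, hc, pow_mul, mul_comm]
      congr 1
      rw [pow_two, ← mul_inv]
    rcases hlam with hl | hl
    · have hMM1 : M * M = 1 := by
        rw [hMM, hl, hc]
        have : c⁻¹ * c⁻¹ * (c * c) = 1 := by field_simp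
        rw [this, one_smul]
      obtain ⟨a, b, s, t, hs, ht, hMa, hMb, hab, hQab⟩ := exists_eigen_pair h2 hQ (by omega)
        ⟨m, by rw [hcard]; ring⟩ M hM hMM1 (by rw [hdetM]; exact hdr) ν hν0
      have hQa : Q a ≠ 0 := by
        intro h0
        apply hν0
        rw [← hQab, h0, zero_mul]
      have hQb : Q b ≠ 0 := by
        intro h0
        apply hν0
        rw [← hQab, h0, mul_zero]
      apply two_refl h2 hQ hn2 hw₀ g.2 a b hQa hQb hab (by rw [hQab]; exact hν)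
      left
      refine ⟨c * s, c * t, mul_ne_zero hc0 hs, mul_ne_zero hc0 ht, ?_, ?_⟩
      · rw [hGM, smul_mulVec, hMa, smul_smul]
      · rw [hGM, smul_mulVec, hMb, smul_smul]
    · exfalso
      apply hdr
      rw [← hdetM]
      apply det_eq_one_of_sq_neg_one h2 hQ M hM
      rw [hMM, hl, hc]
      have : c⁻¹ * c⁻¹ * -(c * c) = -1 := by field_simp
      rw [this, neg_one_smul]
  · obtain ⟨w, hw, hwG⟩ := exists_orth_image h2 hQ (by omega) ((g : GL ι F) : Matrix ι ι F) μ hsq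
      hG lam hGG hlam
    have hQb : Q (((g : GL ι F) : Matrix ι ι F) *ᵥ w) ≠ 0 := by
      rw [hG]
      exact mul_ne_zero hμ0 hw
    apply two_refl h2 hQ hn2 hw₀ g.2 w (((g : GL ι F) : Matrix ι ι F) *ᵥ w) hw hQb hwG
    · rw [hG]
      rintro ⟨r, hr⟩
      apply hsq
      refine ⟨r / Q w, ?_⟩
      field_simp
      linear_combination hr
    · right
      refine ⟨1, lam, one_ne_zero, hlam0, by rw [one_smul], ?_⟩
      rw [mulVec_mulVec, hGG, smul_mulVec, one_mulVec]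

set_option maxHeartbeats 4000000 in
/-- **splitting of the inner-diagonal class of an involutory graph automorphism** -/
theorem graph_split_generic (h2 : (2 : F) ≠ 0) (hQ : (polarBilin Q).Nondegenerate)
    (h : IsHypFamily Q α β) (hi : 3 ≤ i) (h5 : 5 ≤ Fintype.card ι) (w₀ : ι → F)
    (hw₀ : Q w₀ = 1) (m : ℕ) (hcard : Fintype.card ι = 2 * m)
    (hns : ∃ g₁ : ↥(Geo.quadSimilarityGroup (F := F) ⇑Q), ¬ IsSquare (mult Q w₀ (g₁ : GL ι F)))
    (hcrit : ∀ g : GL ι F, g ∈ Geo.quadSimilarityGroup (F := F) ⇑Q →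
      (PreservesSingularClasses ⇑Q (g : Matrix ι ι F) ↔ detRatio (Q := Q) w₀ m g = 1))
    (γ : MulAut (POmega F ⇑Q))
    (hγ : ∃ g : GL ι F, g ∈ Geo.quadSimilarityGroup (F := F) ⇑Q ∧
      ¬ PreservesSingularClasses ⇑Q (g : Matrix ι ι F) ∧
      IsInducedBySemilinearPOmega ⇑Q g (RingEquiv.refl F) γ)
    (hγ2 : orderOf γ = 2) :
    (negOne Q ∉ Omega F ⇑Q →
      (splitClassCount (inndiagGen ⇑Q) (Inn (POmega F ⇑Q)) γ = 1 ∨
        splitClassCount (inndiagGen ⇑Q) (Inn (POmega F ⇑Q)) γ = 2)) ∧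
    (negOne Q ∈ Omega F ⇑Q →
      splitClassCount (inndiagGen ⇑Q) (Inn (POmega F ⇑Q)) γ = 2) := by
  rw [inndiagGen_eq h2 hQ w₀ hw₀ m hcard hcrit]
  have hKH := inn_le_inndiagAut h2 hQ h hi h5 w₀ hw₀ m hcard
  have hrel := relIndex_inn_inndiagAut h2 hQ h hi h5 w₀ hw₀ m hcard hns
  refine ⟨fun hneg => splitClassCount_of_relIndex_two _ _ hKH γ (hrel.2 hneg), ?_⟩
  intro hneg
  obtain ⟨g₀, hg₀, hpsc, hind⟩ := hγ
  obtain ⟨g, hgdef⟩ : ∃ g : ↥(Geo.quadSimilarityGroup (F := F) ⇑Q), (g : GL ι F) = g₀ :=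
    ⟨⟨g₀, hg₀⟩, rfl⟩
  have hγg : γ = conjGO Q g := by
    ext x
    induction x using QuotientGroup.induction_on with
    | H s =>
      rw [conjGO_mk]
      apply hind
      rw [map_refl, ← hgdef]
      rfl
  have hdr : detRatio (Q := Q) w₀ m (g : GL ι F) ≠ 1 := by
    rw [hgdef]
    intro h1
    exact hpsc ((hcrit g₀ hg₀).2 h1)
  have hgg : g * g ∈ (conjGO Q).ker := by
    rw [MonoidHom.mem_ker, map_mul, ← hγg, ← pow_two, ← hγ2]
    exact pow_orderOf_eq_one γ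
  obtain ⟨z, hzso, hzΩ, hzg⟩ := exists_commuting_so h2 hQ h hi h5 hw₀ m hcard g hdr hgg
  -- the element `c`
  have hcH : conjGO Q (inclO Q z) ∈ inndiagAut h2 hQ w₀ hw₀ m hcard :=
    Subgroup.mem_map_of_mem _
      (soSub_map_le_goZero h2 hQ h hi h5 w₀ hw₀ m hcard (Subgroup.mem_map_of_mem _ hzso))
  have hcz : conjGO Q (inclO Q z) = conjO Q z := by
    rw [← conjGO_comp_inclO]
    rfl
  have hcK : conjGO Q (inclO Q z) ∉ Inn (POmega F ⇑Q) := by
    intro hc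
    rw [hcz] at hc
    exact hzΩ (mem_Omega_of_conjO_mem_inn hQ h hi h5 hneg z hc)
  have hcx : conjGO Q (inclO Q z) * γ = γ * conjGO Q (inclO Q z) := by
    rw [hγg, ← map_mul, ← map_mul]
    congr 1
    apply Subtype.ext
    show ((z : ↥(isometryGroup F ⇑Q)) : GL ι F) * (g : GL ι F) =
      (g : GL ι F) * ((z : ↥(isometryGroup F ⇑Q)) : GL ι F)
    exact hzg.symm
  -- the element `h`
  obtain ⟨φ, hφ, hker⟩ := exists_pgo_mod_inn_dihedral h2 hQ h hi h5 w₀ hw₀ m hcard hns hneg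
  have hγP : γ ∈ pgoAut F ⇑Q := by
    rw [pgoAut_eq, hγg]
    exact ⟨g, rfl⟩
  have hγH : γ ∉ inndiagAut h2 hQ w₀ hw₀ m hcard := by
    rintro ⟨g', hg', hgg'⟩
    apply hdr
    rw [← mem_goZero_iff h2 hQ w₀ hw₀ m hcard]
    have hk : g'⁻¹ * g ∈ (conjGO Q).ker := by
      rw [MonoidHom.mem_ker, map_mul, map_inv, hgg', hγg, inv_mul_cancel]
    have h3 := Subgroup.mul_mem _ hg'
      (ker_conjGO_le_goZero h2 hQ h hi h5 w₀ hw₀ m hcard hk)
    rwa [mul_inv_cancel_left] at h3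
  obtain ⟨hh, hhH, hhx⟩ := exists_comm_not_mem (pgoAut F ⇑Q) (inndiagAut h2 hQ w₀ hw₀ m hcard)
    (Inn (POmega F ⇑Q)) hKH (relIndex_inndiagAut_pgoAut h2 hQ h hi h5 w₀ hw₀ m hcard hns)
    φ hφ hker γ hγP hγH
  exact splitClassCount_eq_two _ _ hKH γ (hrel.1 hneg) _ hcH hcK hcx hh hhH hhx

end graphinv

section graphplus
variable {F : Type*} [Field F] [Fintype F]

set_option maxHeartbeats 4000000 in
/-- the plus-type case, stated for an unbundled copy of the form -/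
theorem graph_split_plus (h2 : (2 : F) ≠ 0) {m : ℕ} (hm : 4 ≤ m)
    (q : (Fin m ⊕ Fin m → F) → F) (hq : ⇑(plusForm m F) = q) (γ : MulAut (POmega F q))
    (hγ : ∃ g : GL (Fin m ⊕ Fin m) F, g ∈ Geo.quadSimilarityGroup (F := F) q ∧
      ¬ PreservesSingularClasses q (g : Matrix (Fin m ⊕ Fin m) (Fin m ⊕ Fin m) F) ∧
      IsInducedBySemilinearPOmega q g (RingEquiv.refl F) γ)
    (hγ2 : orderOf γ = 2) :
    (negOne (plusForm m F) ∉ Omega F ⇑(plusForm m F) →
      (splitClassCount (inndiagGen q) (Inn (POmega F q)) γ = 1 ∨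
        splitClassCount (inndiagGen q) (Inn (POmega F q)) γ = 2)) ∧
    (negOne (plusForm m F) ∈ Omega F ⇑(plusForm m F) →
      splitClassCount (inndiagGen q) (Inn (POmega F q)) γ = 2) := by
  subst hq
  have hQ := PlusGeom.plus_nondegenerate (F := F) m
  have hfam := Cfsg.Agent.S2613.plus_hypFamily (F := F) (le_refl m)
  have hcard : Fintype.card (Fin m ⊕ Fin m) = 2 * m := by
    rw [Fintype.card_sum, Fintype.card_fin]
    ring
  have h5 : 5 ≤ Fintype.card (Fin m ⊕ Fin m) := by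
    rw [hcard]
    omega
  obtain ⟨w₀, hw₀⟩ := exists_quad_eq (plusForm m F) hQ (by rw [hcard]; omega) 1 one_ne_zero
  obtain ⟨ν, hν0, hν⟩ := exists_nonsquare (F := F) h2
  have hns : ∃ g₁ : ↥(Geo.quadSimilarityGroup (F := F) ⇑(plusForm m F)),
      ¬ IsSquare (mult (plusForm m F) w₀ (g₁ : GL (Fin m ⊕ Fin m) F)) := by
    refine ⟨⟨deltaGL m ν hν0, deltaGL_mem m ν hν0⟩, ?_⟩
    rw [deltaGL_mult m hw₀ ν hν0]
    exact hν
  exact graph_split_generic h2 hQ hfam (by omega) h5 w₀ hw₀ m hcard hns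
    (plus_crit m h2 hw₀ hcard) γ hγ hγ2

end graphplus

end Cfsg.Agent.Lib.Helper5.OAut
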