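import Mathlib
import Cfsg.Prelude.Def_LieTypeDatum
import Cfsg.Agent.Lib.Helper5.OAut.PscCrit
import Cfsg.Agent.Lib.Helper5.OAut.BaseChange
import Cfsg.Agent.Lib.Helper5.OrthPlane

set_option autoImplicit false

/-! The minus type form over a field where its binary part has a root. -/

namespace Cfsg.Agent.Lib.Helper5.OAut

open Cfsg Matrix QuadraticMap Module Cfsg.Agent.Lib.Helper5.OrthCard
  Cfsg.Agent.Lib.Helper5.OrthPlane Cfsg.Agent.Lib.Helper5.MaxTS

section scalar
variable {ι : Type} [Fintype ι] [DecidableEq ι] {F : Type*} [Field F]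

theorem imageSubmodule_scalar (c : F) (hc : c ≠ 0) (U : Submodule F (ι → F)) :
    imageSubmodule ((scalarGL ι c hc : GL ι F) : Matrix ι ι F) U = U := by
  apply Submodule.eq_of_le_of_finrank_eq
  · intro x hx
    obtain ⟨u, hu, rfl⟩ := (mem_imageSubmodule _ _ x).1 hx
    show (c • (1 : Matrix ι ι F)) *ᵥ u ∈ U
    rw [smul_mulVec, one_mulVec]
    exact U.smul_mem c hu
  · rw [finrank_imageSubmodule]

variable (Q : QuadraticForm F (ι → F))

theorem scalarGL_mult {w₀ : ι → F} (hw₀ : Q w₀ = 1) (c : F) (hc : c ≠ 0) :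
    mult Q w₀ (scalarGL ι c hc) = c * c := by
  unfold mult
  show Q ((c • (1 : Matrix ι ι F)) *ᵥ w₀) = c * c
  rw [smul_mulVec, one_mulVec, QuadraticMap.map_smul, hw₀, smul_eq_mul, mul_one]

theorem scalarGL_detRatio {w₀ : ι → F} (hw₀ : Q w₀ = 1) (c : F) (hc : c ≠ 0) (m : ℕ)
    (hcard : Fintype.card ι = 2 * m) : detRatio (Q := Q) w₀ m (scalarGL ι c hc) = 1 := by
  unfold detRatio
  rw [scalarGL_mult Q hw₀]
  show (c • (1 : Matrix ι ι F)).det * _ = 1
  rw [det_smul, det_one, mul_one, hcard, pow_mul, ← mul_pow, pow_two,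
    mul_inv_cancel₀ (mul_ne_zero hc hc), one_pow]

/-- the criterion when the multiplier is a square -/
theorem psc_iff_detRatio_of_isSquare [Fintype F] (h2 : (2 : F) ≠ 0)
    (hQ : (polarBilin Q).Nondegenerate) (m : ℕ) (hcard : Fintype.card ι = 2 * m)
    (U₀ : Submodule F (ι → F)) (hU₀ : IsMaxTS Q m U₀) {w₀ : ι → F} (hw₀ : Q w₀ = 1)
    (g : GL ι F) (hg : g ∈ Geo.quadSimilarityGroup (F := F) ⇑Q)
    (hsq : IsSquare (mult Q w₀ g)) :
    PreservesSingularClasses ⇑Q (g : Matrix ι ι F) ↔ detRatio (Q := Q) w₀ m g = 1 := by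
  obtain ⟨c, hc⟩ := hsq
  have hc0 : c ≠ 0 := by
    rintro rfl
    rw [mul_zero] at hc
    exact mult_ne_zero hw₀ hg hc
  apply psc_iff_detRatio Q h2 hQ m hcard U₀ hU₀ hw₀ g hg (scalarGL ι c hc0) (scalarGL_mem c hc0)
    (by rw [scalarGL_mult Q hw₀, hc]) (scalarGL_detRatio Q hw₀ c hc0 m hcard)
  unfold sdist
  rw [imageSubmodule_scalar, inf_idem, hU₀.1, Nat.sub_self]
  exact ⟨0, rfl⟩

end scalar

section ext
variable {K : Type*} [Field K] (a b ρ : K) (m : ℕ)

theorem binForm_nondegenerate' (hD : a * a - 4 * b ≠ 0) :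
    (polarBilin (binForm a b)).Nondegenerate := by
  have key : ∀ u : Fin 2 → K, (∀ v, polar (binForm a b) u v = 0) → u = 0 := by
    intro u hu
    have h0 := hu ![0, 1]
    have h1 := hu ![1, 0]
    rw [polar_binForm] at h0 h1
    simp only [Matrix.cons_val_zero, Matrix.cons_val_one] at h0 h1
    have e1 : (a * a - 4 * b) * u 1 = 0 := by linear_combination a * h1 - 2 * h0
    have e0 : (a * a - 4 * b) * u 0 = 0 := by linear_combination a * h0 - 2 * b * h1
    ext i
    fin_cases i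
    · exact (mul_eq_zero.mp e0).resolve_left hD
    · exact (mul_eq_zero.mp e1).resolve_left hD
  constructor
  · intro u hu
    exact key u (fun v => by simpa using hu v)
  · intro u hu
    apply key u
    intro v
    rw [polar_comm]
    simpa using hu v

/-- a maximal totally singular subspace of the minus type form when the binary part has the
root `ρ` -/
def rootTS : Submodule K ((Fin m ⊕ Fin m) ⊕ Fin 2 → K) where
  carrier := {v | (∀ i, v (Sum.inl (Sum.inr i)) = 0) ∧ v (Sum.inr 0) = ρ * v (Sum.inr 1)}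
  add_mem' := by
    rintro x y ⟨hx1, hx2⟩ ⟨hy1, hy2⟩
    refine ⟨fun i => ?_, ?_⟩
    · rw [Pi.add_apply, hx1 i, hy1 i, add_zero]
    · rw [Pi.add_apply, Pi.add_apply, hx2, hy2, mul_add]
  zero_mem' := ⟨fun _ => rfl, by simp⟩
  smul_mem' := by
    rintro c x ⟨hx1, hx2⟩
    refine ⟨fun i => ?_, ?_⟩
    · rw [Pi.smul_apply, hx1 i, smul_zero]
    · rw [Pi.smul_apply, Pi.smul_apply, hx2, smul_eq_mul, smul_eq_mul]
      ring

theorem mem_rootTS (v : (Fin m ⊕ Fin m) ⊕ Fin 2 → K) :
    v ∈ rootTS ρ m ↔ (∀ i, v (Sum.inl (Sum.inr i)) = 0) ∧ v (Sum.inr 0) = ρ * v (Sum.inr 1) :=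
  Iff.rfl

theorem rootTS_ts (hρ : ρ * ρ + a * ρ + b = 0) :
    ∀ v ∈ rootTS ρ m, genForm (binForm a b) m v = 0 := by
  rintro v ⟨h1, h2⟩
  rw [genForm_apply, binForm_apply, h2]
  have : ∑ i : Fin m, v (Sum.inl (Sum.inl i)) * v (Sum.inl (Sum.inr i)) = 0 := by
    apply Finset.sum_eq_zero
    intro i _
    rw [h1 i, mul_zero]
  rw [this, zero_add]
  linear_combination (v (Sum.inr 1) * v (Sum.inr 1)) * hρ

/-- a parametrisation of `rootTS` -/
def rootEmb : ((Fin m → K) × K) →ₗ[K] ((Fin m ⊕ Fin m) ⊕ Fin 2 → K) where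
  toFun p := Sum.elim (Sum.elim p.1 (fun _ => 0)) ![ρ * p.2, p.2]
  map_add' := by
    intro p q
    funext k
    rcases k with (k | k) | k
    · simp
    · simp
    · fin_cases k
      · simp [mul_add]
      · simp
  map_smul' := by
    intro c p
    funext k
    rcases k with (k | k) | k
    · simp
    · simp
    · fin_cases k
      · simp [mul_left_comm]
      · simp

theorem rootEmb_injective : Function.Injective (rootEmb ρ m) := by
  intro p q hpq
  have h1 : ∀ i, p.1 i = q.1 i := fun i => congrFun hpq (Sum.inl (Sum.inl i))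
  have h2 : p.2 = q.2 := congrFun hpq (Sum.inr 1)
  exact Prod.ext (funext h1) h2

theorem rootEmb_mem (p : (Fin m → K) × K) : rootEmb ρ m p ∈ rootTS ρ m := by
  refine ⟨fun i => rfl, ?_⟩
  show ρ * p.2 = ρ * p.2
  rfl

theorem finrank_minus_space :
    finrank K ((Fin m ⊕ Fin m) ⊕ Fin 2 → K) = 2 * (m + 1) := by
  rw [Module.finrank_fintype_fun_eq_card, Fintype.card_sum, Fintype.card_sum, Fintype.card_fin,
    Fintype.card_fin]
  ring

theorem rootTS_isMaxTS (hD : a * a - 4 * b ≠ 0) (hρ : ρ * ρ + a * ρ + b = 0) :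
    IsMaxTS (genForm (binForm a b) m) (m + 1) (rootTS ρ m) := by
  have hQ := genForm_nondegenerate (binForm a b) (binForm_nondegenerate' a b hD) m
  have hts := rootTS_ts a b ρ m hρ
  refine ⟨?_, hts⟩
  apply le_antisymm
  · exact finrank_le_of_ts (genForm (binForm a b) m) hQ (m + 1) (finrank_minus_space m) _ hts
  · have h1 : LinearMap.range (rootEmb ρ m) ≤ rootTS ρ m := by
      rintro _ ⟨p, rfl⟩
      exact rootEmb_mem ρ m p
    have h2 := Submodule.finrank_mono h1
    rw [LinearMap.finrank_range_of_inj (rootEmb_injective ρ m), Module.finrank_prod,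
      Module.finrank_fin_fun, Module.finrank_self] at h2
    exact h2

end ext

end Cfsg.Agent.Lib.Helper5.OAut
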