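import Mathlib
import Cfsg.Prelude.Def_LieTypeDatum
import Cfsg.Agent.Lib.Helper5.OAut.MinusExt
import Cfsg.Agent.S2615

set_option autoImplicit false

/-! Class preserving similarities of the minus type form. -/

namespace Cfsg.Agent.Lib.Helper5.OAut

open Cfsg Matrix QuadraticMap Module Cfsg.Agent.Lib.Helper5.OrthCard
  Cfsg.Agent.Lib.Helper5.OrthPlane Cfsg.Agent.Lib.Helper5.MaxTS Polynomial

section squares
variable {F K : Type*} [Field F] [Fintype F] [Field K] [Algebra F K]

/-- every element of a finite field of odd order is a square in a quadratic extension -/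
theorem isSquare_algebraMap_of_finrank_two [Fintype K] (hodd : Odd (Fintype.card F))
    (hK : finrank F K = 2) (x : F) : IsSquare (algebraMap F K x) := by
  by_cases hx : x = 0
  · rw [hx, map_zero]
    exact ⟨0, by rw [mul_zero]⟩
  have h2F : (2 : F) ≠ 0 := Cfsg.Agent.Lib.Helper5.two_ne_zero_of_odd_card hodd
  have h2K : (2 : K) ≠ 0 := by
    intro h
    apply h2F
    apply (algebraMap F K).injective
    rw [map_ofNat, h, map_zero]
  have hchar : ringChar K ≠ 2 := by
    intro h
    apply h2K
    have := ringChar.Nat.cast_ringChar (R := K)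
    rw [h] at this
    exact_mod_cast this
  have hxK : algebraMap F K x ≠ 0 := by
    intro h
    apply hx
    apply (algebraMap F K).injective
    rw [h, map_zero]
  rw [FiniteField.isSquare_iff hchar hxK]
  have hcard : Fintype.card K = Fintype.card F ^ 2 := by
    rw [← hK]
    exact Module.card_eq_pow_finrank
  obtain ⟨k, hk⟩ := hodd
  have harith : Fintype.card K / 2 = (Fintype.card F - 1) * (k + 1) := by
    rw [hcard, hk]
    have : (2 * k + 1) ^ 2 = 2 * (2 * k * (k + 1)) + 1 := by ring
    rw [this]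
    have h3 : (2 * (2 * k * (k + 1)) + 1) / 2 = 2 * k * (k + 1) := by omega
    rw [h3]
    have h4 : 2 * k + 1 - 1 = 2 * k := by omega
    rw [h4]
  rw [harith, pow_mul, ← map_pow, FiniteField.pow_card_sub_one_eq_one x hx, map_one, one_pow]

end squares

section crit
universe u
variable {F : Type u} [Field F] [Fintype F] (a b : F) (m : ℕ)

theorem isBaseChange_minus (K : Type*) [Field K] [Algebra F K] :
    IsBaseChange (genForm (binForm a b) m)
      (genForm (binForm (algebraMap F K a) (algebraMap F K b)) m) := by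
  intro x
  rw [genForm_apply, genForm_apply, binForm_apply, binForm_apply]
  simp only [map_add, map_sum, map_mul]

/-- over a quadratic extension the class preserving similarities coming from `F` are those of
determinant ratio one -/
theorem minus_ext_crit (hodd : Odd (Fintype.card F))
    (hab : ∀ z₁ z₂ : F, z₁ ^ 2 + a * z₁ * z₂ + b * z₂ ^ 2 = 0 → z₁ = 0 ∧ z₂ = 0)
    (K : Type*) [Field K] [Algebra F K] (hK : finrank F K = 2)
    {w₀ : (Fin m ⊕ Fin m) ⊕ Fin 2 → F} (hw₀ : genForm (binForm a b) m w₀ = 1)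
    (g : GL ((Fin m ⊕ Fin m) ⊕ Fin 2) F)
    (hg : g ∈ Geo.quadSimilarityGroup (F := F) ⇑(genForm (binForm a b) m)) :
    PreservesSingularClasses ⇑(genForm (binForm (algebraMap F K a) (algebraMap F K b)) m)
        ((g : Matrix ((Fin m ⊕ Fin m) ⊕ Fin 2) ((Fin m ⊕ Fin m) ⊕ Fin 2) F).map
          (algebraMap F K)) ↔
      detRatio (Q := genForm (binForm a b) m) w₀ (m + 1) g = 1 := by
  classical
  have hfd : Module.Finite F K := Module.finite_of_finrank_pos (by rw [hK]; norm_num)
  have hfinK : Finite K := Module.finite_of_finite F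
  have : Fintype K := Fintype.ofFinite K
  have h2F : (2 : F) ≠ 0 := Cfsg.Agent.Lib.Helper5.two_ne_zero_of_odd_card hodd
  have hinj := (algebraMap F K).injective
  have h2K : (2 : K) ≠ 0 := by
    intro h
    apply h2F
    apply hinj
    rw [map_ofNat, h, map_zero]
  have hDF : a * a - 4 * b ≠ 0 := by
    intro h
    have := (hab a (-2) (by linear_combination -h)).2
    apply h2F
    linear_combination -this
  have hDK : algebraMap F K a * algebraMap F K a - 4 * algebraMap F K b ≠ 0 := by
    intro h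
    apply hDF
    apply hinj
    rw [map_sub, map_mul, map_mul, map_ofNat, h, map_zero]
  -- a root of the binary form
  obtain ⟨d, hd⟩ := isSquare_algebraMap_of_finrank_two hodd hK (a * a - 4 * b)
  obtain ⟨ρ, hρ⟩ : ∃ ρ : K, ρ * ρ + algebraMap F K a * ρ + algebraMap F K b = 0 := by
    refine ⟨(-algebraMap F K a + d) / 2, ?_⟩
    rw [map_sub, map_mul, map_mul, map_ofNat] at hd
    field_simp
    linear_combination -hd
  have hQK := genForm_nondegenerate (binForm (algebraMap F K a) (algebraMap F K b))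
    (binForm_nondegenerate' _ _ hDK) m
  have hU₀ := rootTS_isMaxTS (algebraMap F K a) (algebraMap F K b) ρ m hDK hρ
  have hbc := isBaseChange_minus a b m K
  have hw₀K : genForm (binForm (algebraMap F K a) (algebraMap F K b)) m
      (fun i => algebraMap F K (w₀ i)) = 1 := by
    rw [hbc w₀, hw₀, map_one]
  have hcard : Fintype.card ((Fin m ⊕ Fin m) ⊕ Fin 2) = 2 * (m + 1) := by
    rw [Fintype.card_sum, Fintype.card_sum, Fintype.card_fin, Fintype.card_fin]
    ring
  obtain ⟨c, hc⟩ := hg
  have hmultF : mult (genForm (binForm a b) m) w₀ g = c := by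
    unfold mult
    rw [hc w₀, hw₀, mul_one]
  -- the extended matrix
  obtain ⟨gK, hgK⟩ : ∃ gK : GL ((Fin m ⊕ Fin m) ⊕ Fin 2) K,
      (gK : Matrix ((Fin m ⊕ Fin m) ⊕ Fin 2) ((Fin m ⊕ Fin m) ⊕ Fin 2) K) =
        (g : Matrix ((Fin m ⊕ Fin m) ⊕ Fin 2) ((Fin m ⊕ Fin m) ⊕ Fin 2) F).map
          (algebraMap F K) :=
    ⟨Matrix.GeneralLinearGroup.map (algebraMap F K) g, rfl⟩
  have hsimK : ∀ v, genForm (binForm (algebraMap F K a) (algebraMap F K b)) m
      ((gK : Matrix ((Fin m ⊕ Fin m) ⊕ Fin 2) ((Fin m ⊕ Fin m) ⊕ Fin 2) K) *ᵥ v) =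
      algebraMap F K c *
        genForm (binForm (algebraMap F K a) (algebraMap F K b)) m v := by
    intro v
    rw [hgK]
    exact sim_baseChange h2K hbc _ c hc v
  have hc0 : algebraMap F K (c : F) ≠ 0 := by
    intro h
    apply c.ne_zero
    apply hinj
    rw [h, map_zero]
  have hgKmem : gK ∈ Geo.quadSimilarityGroup (F := K)
      ⇑(genForm (binForm (algebraMap F K a) (algebraMap F K b)) m) :=
    ⟨Units.mk0 _ hc0, hsimK⟩
  have hmultK : mult (genForm (binForm (algebraMap F K a) (algebraMap F K b)) m)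
      (fun i => algebraMap F K (w₀ i)) gK = algebraMap F K c := by
    unfold mult
    rw [hsimK, hw₀K, mul_one]
  have hsq : IsSquare (mult (genForm (binForm (algebraMap F K a) (algebraMap F K b)) m)
      (fun i => algebraMap F K (w₀ i)) gK) := by
    rw [hmultK]
    exact isSquare_algebraMap_of_finrank_two hodd hK _
  have key := psc_iff_detRatio_of_isSquare
    (genForm (binForm (algebraMap F K a) (algebraMap F K b)) m) h2K hQK (m + 1) hcard
    (rootTS ρ m) hU₀ hw₀K gK hgKmem hsq
  rw [← hgK, key]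
  unfold detRatio
  rw [hmultK, hmultF, hgK, ← RingHom.mapMatrix_apply, ← RingHom.map_det, ← map_inv₀, ← map_pow,
    ← map_mul]
  constructor
  · intro h
    apply hinj
    rw [h, map_one]
  · intro h
    rw [h, map_one]

/-- the polynomial of the binary form -/
noncomputable def binPoly : F[X] := X ^ 2 + C a * X + C b

theorem binPoly_natDegree : (binPoly a b).natDegree = 2 := by
  unfold binPoly
  compute_degree!

theorem binPoly_irreducible
    (hab : ∀ z₁ z₂ : F, z₁ ^ 2 + a * z₁ * z₂ + b * z₂ ^ 2 = 0 → z₁ = 0 ∧ z₂ = 0) :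
    Irreducible (binPoly a b) := by
  apply irreducible_of_degree_le_three_of_not_isRoot
  · rw [binPoly_natDegree]
    decide
  · intro x hx
    unfold binPoly at hx
    rw [IsRoot.def, eval_add, eval_add, eval_pow, eval_X, eval_mul, eval_C, eval_X, eval_C] at hx
    have := (hab x 1 (by linear_combination hx)).2
    exact one_ne_zero this

/-- **the class preserving similarities of the minus type form** -/
theorem minus_crit (hodd : Odd (Fintype.card F))
    (hab : ∀ z₁ z₂ : F, z₁ ^ 2 + a * z₁ * z₂ + b * z₂ ^ 2 = 0 → z₁ = 0 ∧ z₂ = 0)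
    {w₀ : (Fin m ⊕ Fin m) ⊕ Fin 2 → F} (hw₀ : genForm (binForm a b) m w₀ = 1)
    (g : GL ((Fin m ⊕ Fin m) ⊕ Fin 2) F)
    (hg : g ∈ Geo.quadSimilarityGroup (F := F) ⇑(genForm (binForm a b) m)) :
    PreservesSingularClassesMinus m a b
        (g : Matrix ((Fin m ⊕ Fin m) ⊕ Fin 2) ((Fin m ⊕ Fin m) ⊕ Fin 2) F) ↔
      detRatio (Q := genForm (binForm a b) m) w₀ (m + 1) g = 1 := by
  constructor
  · rintro ⟨K, hKf, hKa, hK, hpsc⟩
    rw [← Cfsg.Agent.S2615.minus_eq] at hpsc
    exact (minus_ext_crit a b m hodd hab K hK hw₀ g hg).1 hpsc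
  · intro h
    have hirr : Fact (Irreducible (binPoly a b)) := ⟨binPoly_irreducible a b hab⟩
    have hne : binPoly a b ≠ 0 := hirr.1.ne_zero
    have hK : finrank F (AdjoinRoot (binPoly a b)) = 2 := by
      rw [(AdjoinRoot.powerBasis hne).finrank, AdjoinRoot.powerBasis_dim, binPoly_natDegree]
    refine ⟨AdjoinRoot (binPoly a b), inferInstance, inferInstance, hK, ?_⟩
    rw [← Cfsg.Agent.S2615.minus_eq]
    exact (minus_ext_crit a b m hodd hab (AdjoinRoot (binPoly a b)) hK hw₀ g hg).2 h

end crit

end Cfsg.Agent.Lib.Helper5.OAut
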