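import Mathlib
import Cfsg.Prelude.Def_LieTypeDatum
import Cfsg.Agent.Lib.Helper5.OAut.InndiagPlusMain
import Cfsg.Agent.Lib.Helper5.OAut.MinusCrit

set_option autoImplicit false

/-! Explicit similarities of the minus type form. -/

namespace Cfsg.Agent.Lib.Helper5.OAut

open Cfsg Matrix QuadraticMap Module Cfsg.Agent.Lib.Helper5.SpinorNorm
  Cfsg.Agent.Lib.Helper5.Refl Cfsg.Agent.Lib.Helper5.MaxTS
  Cfsg.Agent.Lib.Helper5.OrthCard Cfsg.Agent.Lib.Helper5.OrthPlane

section genP
variable {ι : Type} [Fintype ι] [DecidableEq ι] {F : Type*} [Field F]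

/-- the subgroup generated by the automorphisms induced by the similarities with property `P` -/
def inndiagGenP (Q : (ι → F) → F) (P : Matrix ι ι F → Prop) : Subgroup (MulAut (POmega F Q)) :=
  autSubgroupOf fun β => ∃ g : GL ι F, g ∈ Geo.quadSimilarityGroup (F := F) Q ∧
    P (g : Matrix ι ι F) ∧ IsInducedBySemilinearPOmega Q g (RingEquiv.refl F) β

theorem inndiagPOmegaMinus_eq_genP (m : ℕ) (a b : F) :
    inndiagPOmegaMinus m F a b =
      inndiagGenP (quadFormMinus m F a b) (PreservesSingularClassesMinus m a b) := rfl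

variable [Fintype F] {Q : QuadraticForm F (ι → F)}

theorem inndiagGenP_eq (P : Matrix ι ι F → Prop) (h2 : (2 : F) ≠ 0)
    (hQ : (polarBilin Q).Nondegenerate) (w₀ : ι → F)
    (hw₀ : Q w₀ = 1) (m : ℕ) (hcard : Fintype.card ι = 2 * m)
    (hcrit : ∀ g : GL ι F, g ∈ Geo.quadSimilarityGroup (F := F) ⇑Q →
      (P (g : Matrix ι ι F) ↔ detRatio (Q := Q) w₀ m g = 1)) :
    inndiagGenP ⇑Q P = inndiagAut h2 hQ w₀ hw₀ m hcard := by
  unfold inndiagGenP autSubgroupOf inndiagAut
  have hset : {β : MulAut (POmega F ⇑Q) | ∃ g : GL ι F,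
      g ∈ Geo.quadSimilarityGroup (F := F) ⇑Q ∧ P (g : Matrix ι ι F) ∧
      IsInducedBySemilinearPOmega ⇑Q g (RingEquiv.refl F) β} =
      (((goZero h2 hQ w₀ hw₀ m hcard).map (conjGO Q) : Subgroup (MulAut (POmega F ⇑Q))) :
        Set (MulAut (POmega F ⇑Q))) := by
    ext β
    constructor
    · rintro ⟨g, hg, hpsc, hind⟩
      refine ⟨⟨g, hg⟩, ?_, ?_⟩
      · rw [SetLike.mem_coe, mem_goZero_iff]
        exact (hcrit g hg).1 hpsc
      · ext x
        induction x using QuotientGroup.induction_on with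
        | H s =>
          rw [conjGO_mk]
          symm
          apply hind
          rw [map_refl]
          rfl
    · rintro ⟨g, hg0, rfl⟩
      rw [SetLike.mem_coe, mem_goZero_iff] at hg0
      refine ⟨(g : GL ι F), g.2, (hcrit g g.2).2 hg0, ?_⟩
      intro s s' hs
      rw [conjGO_mk]
      congr 1
      apply Subtype.ext
      apply Subtype.ext
      apply Units.ext
      rw [hs, map_refl]
      rfl
  rw [hset, Subgroup.closure_eq]

end genP

section swapdet
variable {F : Type*} [Field F] [Fintype F] (m : ℕ)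

theorem swapMat_det_of_even (h2 : (2 : F) ≠ 0) (hm : Even m) : (swapMat (F := F) m).det = 1 := by
  have hQ := PlusGeom.plus_nondegenerate (F := F) m
  have h1 := even_sdist_isometry_iff (plusForm m F) hQ m (finrank_plus (F := F) m) (stdL m)
    (stdL_max m) h2 ⟨swapGL m, swapGL_mem m⟩
  have h3 : sdist m (stdL (F := F) m) (swapGL m) = m := by
    unfold sdist
    rw [swapGL_stdL, stdL_inf_stdR, finrank_bot, Nat.sub_zero]
  have h4 : Even (sdist m (stdL (F := F) m) (swapGL m)) := by
    rw [h3]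
    exact hm
  exact h1.1 h4

end swapdet

section mats
variable {F : Type*} [Field F] (m : ℕ) (a b s u ν : F)

/-- `e_i ↦ f_i`, `f_i ↦ ν e_i` -/
noncomputable def antiMat : Matrix (Fin m ⊕ Fin m) (Fin m ⊕ Fin m) F :=
  fromBlocks 0 (ν • (1 : Matrix (Fin m) (Fin m) F)) 1 0

theorem antiMat_eq : antiMat m ν = deltaMat m ν * swapMat m := by
  unfold antiMat deltaMat swapMat
  rw [fromBlocks_multiply]
  simp

theorem antiMat_mulVec (v : Fin m ⊕ Fin m → F) :
    antiMat m ν *ᵥ v = Sum.elim (ν • (v ∘ Sum.inr)) (v ∘ Sum.inl) := by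
  unfold antiMat
  rw [fromBlocks_mulVec, smul_mulVec, one_mulVec, zero_mulVec, zero_mulVec, one_mulVec, add_zero,
    zero_add]

theorem antiMat_sq : antiMat m ν * antiMat m ν = ν • 1 := by
  unfold antiMat
  rw [fromBlocks_multiply, ← fromBlocks_one, fromBlocks_smul]
  simp

/-- multiplication by `s + u ω` on the binary part -/
def pMat : Matrix (Fin 2) (Fin 2) F := !![s, -(b * u); u, s + a * u]

/-- a reflection of the binary part -/
def rMat : Matrix (Fin 2) (Fin 2) F := !![-1, -a; 0, 1]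

theorem rMat_sq : rMat a * rMat a = 1 := by
  unfold rMat
  ext i j
  fin_cases i <;> fin_cases j <;> simp [Matrix.mul_apply, Fin.sum_univ_two]

theorem rp_sq : (rMat a * pMat a b s u) * (rMat a * pMat a b s u) =
    (s * s + a * (s * u) + b * (u * u)) • 1 := by
  unfold rMat pMat
  ext i j
  fin_cases i <;> fin_cases j <;> simp [Matrix.mul_apply, Fin.sum_univ_two] <;> ring

theorem pMat_det : (pMat a b s u).det = s * s + a * (s * u) + b * (u * u) := by
  unfold pMat
  rw [Matrix.det_fin_two_of]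
  ring

theorem rMat_det : (rMat a).det = -1 := by
  unfold rMat
  rw [Matrix.det_fin_two_of]
  ring

theorem binForm_pMat (z : Fin 2 → F) :
    binForm a b (pMat a b s u *ᵥ z) = (s * s + a * (s * u) + b * (u * u)) * binForm a b z := by
  rw [binForm_apply, binForm_apply]
  unfold pMat
  simp only [Matrix.mulVec, Matrix.of_apply, Matrix.cons_val', Matrix.cons_val_zero,
    Matrix.cons_val_one, dotProduct, Fin.sum_univ_two,
    Matrix.cons_val_fin_one]
  ring

theorem binForm_rMat (z : Fin 2 → F) : binForm a b (rMat a *ᵥ z) = binForm a b z := by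
  rw [binForm_apply, binForm_apply]
  unfold rMat
  simp only [Matrix.mulVec, Matrix.of_apply, Matrix.cons_val', Matrix.cons_val_zero,
    Matrix.cons_val_one, dotProduct, Fin.sum_univ_two,
    Matrix.cons_val_fin_one]
  ring

/-- the similarity -/
noncomputable def deltaMinusMat :
    Matrix ((Fin m ⊕ Fin m) ⊕ Fin 2) ((Fin m ⊕ Fin m) ⊕ Fin 2) F :=
  fromBlocks (antiMat m (s * s + a * (s * u) + b * (u * u))) 0 0 (pMat a b s u)

/-- the isometry -/
noncomputable def sigmaMinusMat :
    Matrix ((Fin m ⊕ Fin m) ⊕ Fin 2) ((Fin m ⊕ Fin m) ⊕ Fin 2) F :=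
  fromBlocks 1 0 0 (rMat a)

theorem sigmaMinusMat_sq : sigmaMinusMat m a * sigmaMinusMat m a = 1 := by
  unfold sigmaMinusMat
  rw [fromBlocks_multiply, ← fromBlocks_one]
  simp [rMat_sq]

theorem sigma_delta_sq :
    (sigmaMinusMat m a * deltaMinusMat m a b s u) * (sigmaMinusMat m a * deltaMinusMat m a b s u) =
      (s * s + a * (s * u) + b * (u * u)) • 1 := by
  unfold sigmaMinusMat deltaMinusMat
  have h1 : (1 : Matrix ((Fin m ⊕ Fin m) ⊕ Fin 2) ((Fin m ⊕ Fin m) ⊕ Fin 2) F) =
      fromBlocks 1 0 0 1 := fromBlocks_one.symm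
  rw [fromBlocks_multiply, fromBlocks_multiply, h1, fromBlocks_smul]
  simp only [Matrix.one_mul, Matrix.zero_mul, Matrix.mul_zero, add_zero, zero_add, smul_zero,
    rp_sq, antiMat_sq]

theorem deltaMinusMat_sim (v : (Fin m ⊕ Fin m) ⊕ Fin 2 → F) :
    genForm (binForm a b) m (deltaMinusMat m a b s u *ᵥ v) =
      (s * s + a * (s * u) + b * (u * u)) * genForm (binForm a b) m v := by
  rw [genForm_apply, genForm_apply]
  unfold deltaMinusMat
  rw [Matrix.fromBlocks_mulVec]
  simp only [Sum.elim_inl, Sum.elim_inr, Matrix.zero_mulVec, add_zero, zero_add]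
  rw [mul_add, Finset.mul_sum]
  congr 1
  · apply Finset.sum_congr rfl
    intro k _
    rw [antiMat_mulVec]
    simp only [Sum.elim_inl, Sum.elim_inr, Function.comp_apply, Pi.smul_apply, smul_eq_mul]
    ring
  · exact binForm_pMat a b s u _

theorem sigmaMinusMat_isom (v : (Fin m ⊕ Fin m) ⊕ Fin 2 → F) :
    genForm (binForm a b) m (sigmaMinusMat m a *ᵥ v) = genForm (binForm a b) m v := by
  rw [genForm_apply, genForm_apply]
  unfold sigmaMinusMat
  rw [Matrix.fromBlocks_mulVec]
  simp only [Sum.elim_inl, Sum.elim_inr, Matrix.zero_mulVec, add_zero, zero_add, Matrix.one_mulVec]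
  congr 1
  exact binForm_rMat a b _

theorem deltaMinusMat_det :
    (deltaMinusMat m a b s u).det =
      (s * s + a * (s * u) + b * (u * u)) ^ m * (swapMat (F := F) m).det *
        (s * s + a * (s * u) + b * (u * u)) := by
  unfold deltaMinusMat
  rw [det_fromBlocks_zero₂₁, pMat_det, antiMat_eq, det_mul]
  congr 2
  unfold deltaMat
  rw [det_fromBlocks_zero₂₁, det_smul, det_one, mul_one, mul_one, Fintype.card_fin]

theorem sigmaMinusMat_det : (sigmaMinusMat (F := F) m a).det = -1 := by
  unfold sigmaMinusMat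
  rw [det_fromBlocks_zero₂₁, det_one, one_mul, rMat_det]

end mats

end Cfsg.Agent.Lib.Helper5.OAut
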