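import Mathlib
import Cfsg.Prelude.Def_LieTypeDatum
import Cfsg.Agent.Lib.Helper5.OAut.InndiagMinus
import Cfsg.Agent.Lib.Helper5.OAut.SimInst
import Cfsg.Agent.Lib.Helper5.OParab.UnipMinusEven
import Cfsg.Agent.S0294

set_option autoImplicit false

/-! `Inndiag(PΩ⁻) / Inn(PΩ⁻)`. -/

namespace Cfsg.Agent.Lib.Helper5.OAut

open Cfsg Matrix QuadraticMap Module Cfsg.Agent.Lib.Helper5.SpinorNorm
  Cfsg.Agent.Lib.Helper5.Refl Cfsg.Agent.Lib.Helper5.MaxTS
  Cfsg.Agent.Lib.Helper5.OrthCard Cfsg.Agent.Lib.Helper5.OrthPlane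
  Cfsg.Agent.Lib.Helper5.SpinorDiag

section minusmain
universe u
variable {F : Type u} [Field F] [Fintype F] (m : ℕ) (a b : F)

set_option maxHeartbeats 4000000 in
/-- **`Inndiag(PΩ⁻_{2m+2}(q)) / Inn`** for `q` odd and `m ≥ 3` -/
theorem exists_inndiag_minus (hodd : Odd (Fintype.card F)) (hm : 3 ≤ m)
    (hab : ∀ z₁ z₂ : F, z₁ ^ 2 + a * z₁ * z₂ + b * z₂ ^ 2 = 0 → z₁ = 0 ∧ z₂ = 0) :
    (negOne (genForm (binForm a b) m) ∉ Omega F ⇑(genForm (binForm a b) m) →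
      ∃ φ : ↥(inndiagGenP ⇑(genForm (binForm a b) m) (PreservesSingularClassesMinus m a b)) →*
          Multiplicative (ZMod 2), Function.Surjective φ ∧
        φ.ker = (Inn (POmega F ⇑(genForm (binForm a b) m))).subgroupOf
          (inndiagGenP ⇑(genForm (binForm a b) m) (PreservesSingularClassesMinus m a b))) ∧
    (negOne (genForm (binForm a b) m) ∈ Omega F ⇑(genForm (binForm a b) m) → Even m →
      ∃ φ : ↥(inndiagGenP ⇑(genForm (binForm a b) m) (PreservesSingularClassesMinus m a b)) →*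
          Multiplicative (ZMod 4), Function.Surjective φ ∧
        φ.ker = (Inn (POmega F ⇑(genForm (binForm a b) m))).subgroupOf
          (inndiagGenP ⇑(genForm (binForm a b) m) (PreservesSingularClassesMinus m a b))) := by
  have h2 : (2 : F) ≠ 0 := Cfsg.Agent.Lib.Helper5.two_ne_zero_of_odd_card hodd
  have hodd' : Fintype.card F % 2 = 1 := Nat.odd_iff.mp hodd
  have han := anisotropic_of a b hab
  have hQ := genForm_nondegenerate (binForm a b) (binForm_nondegenerate a b han) m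
  have hfam := Cfsg.Agent.S0294.hfam a b m
  have hcard : Fintype.card ((Fin m ⊕ Fin m) ⊕ Fin 2) = 2 * (m + 1) := by
    rw [Fintype.card_sum, Fintype.card_sum, Fintype.card_fin, Fintype.card_fin]
    ring
  have h5 : 5 ≤ Fintype.card ((Fin m ⊕ Fin m) ⊕ Fin 2) := by
    rw [hcard]
    omega
  obtain ⟨w₀, hw₀⟩ := exists_quad_eq (genForm (binForm a b) m) hQ (by rw [hcard]; omega) 1
    one_ne_zero
  obtain ⟨ν, hν0, hν⟩ := exists_nonsquare (F := F) h2
  obtain ⟨s, u, hsu⟩ := Cfsg.Agent.Lib.Helper5.OParab.exists_qBin_eq hodd' h2 hab ν hν0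
  have hsu' : s * s + a * (s * u) + b * (u * u) = ν := by
    rw [← hsu, Cfsg.Agent.Lib.Helper5.QuadSign.qBin_apply]
    simp only [Matrix.cons_val_zero, Matrix.cons_val_one]
    ring
  rw [inndiagGenP_eq _ h2 hQ w₀ hw₀ (m + 1) hcard (minus_crit a b m hodd hab hw₀)]
  constructor
  · intro hneg
    obtain ⟨g, hg⟩ := exists_sim_minus m a b s u (by rw [hsu']; exact hν0)
    rw [hsu'] at hg
    have hns : ∃ g₁ : ↥(Geo.quadSimilarityGroup (F := F) ⇑(genForm (binForm a b) m)),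
        ¬ IsSquare (mult (genForm (binForm a b) m) w₀
          (g₁ : GL ((Fin m ⊕ Fin m) ⊕ Fin 2) F)) := by
      refine ⟨⟨g, ⟨Units.mk0 ν hν0, hg⟩⟩, ?_⟩
      unfold mult
      rw [hg w₀, hw₀, mul_one]
      exact hν
    exact exists_inndiag_mod_inn_two h2 hQ hfam hm h5 w₀ hw₀ (m + 1) hcard hns hneg
  · intro hneg heven
    -- the similarity
    have hdetδ : (deltaMinusMat m a b s u).det = ν ^ m * ν := by
      rw [deltaMinusMat_det, hsu', swapMat_det_of_even m h2 heven, mul_one]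
    have hdetδ0 : (deltaMinusMat m a b s u).det ≠ 0 := by
      rw [hdetδ]
      exact mul_ne_zero (pow_ne_zero _ hν0) hν0
    have hsimδ : ∀ v, genForm (binForm a b) m (deltaMinusMat m a b s u *ᵥ v) =
        ν * genForm (binForm a b) m v := by
      intro v
      rw [deltaMinusMat_sim, hsu']
    obtain ⟨δ, hδdef⟩ : ∃ δ : ↥(Geo.quadSimilarityGroup (F := F) ⇑(genForm (binForm a b) m)),
        ((δ : GL ((Fin m ⊕ Fin m) ⊕ Fin 2) F) :
          Matrix ((Fin m ⊕ Fin m) ⊕ Fin 2) ((Fin m ⊕ Fin m) ⊕ Fin 2) F) =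
          deltaMinusMat m a b s u :=
      ⟨⟨Matrix.GeneralLinearGroup.mkOfDetNeZero _ hdetδ0, ⟨Units.mk0 ν hν0, hsimδ⟩⟩, rfl⟩
    have hδm : mult (genForm (binForm a b) m) w₀ (δ : GL ((Fin m ⊕ Fin m) ⊕ Fin 2) F) = ν := by
      unfold mult
      rw [hδdef, hsimδ, hw₀, mul_one]
    have hδ : ¬ IsSquare (mult (genForm (binForm a b) m) w₀
        (δ : GL ((Fin m ⊕ Fin m) ⊕ Fin 2) F)) := by
      rw [hδm]
      exact hν
    have hδ0 : δ ∈ goZero h2 hQ w₀ hw₀ (m + 1) hcard := by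
      rw [mem_goZero_iff]
      unfold detRatio
      rw [hδm, hδdef, hdetδ, ← pow_succ, ← mul_pow, mul_inv_cancel₀ hν0, one_pow]
    -- the isometry
    obtain ⟨σ, hσdef⟩ : ∃ σ : ↥(isometryGroup F ⇑(genForm (binForm a b) m)),
        (((σ : ↥(isometryGroup F ⇑(genForm (binForm a b) m))) :
          GL ((Fin m ⊕ Fin m) ⊕ Fin 2) F) :
          Matrix ((Fin m ⊕ Fin m) ⊕ Fin 2) ((Fin m ⊕ Fin m) ⊕ Fin 2) F) =
          sigmaMinusMat m a := by
      refine ⟨⟨⟨sigmaMinusMat m a, sigmaMinusMat m a, sigmaMinusMat_sq m a,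
        sigmaMinusMat_sq m a⟩, ?_⟩, rfl⟩
      rw [Cfsg.Agent.Lib.Helper5.OrthCard.mem_isometryGroup_iff]
      intro v
      exact sigmaMinusMat_isom m a b v
    obtain ⟨vs, hvs⟩ := exists_rep (genForm (binForm a b) m) h2 hQ σ
    have hoddlen : Odd vs.length := by
      have h1 := rprod_det (genForm (binForm a b) m) vs hvs.1
      rw [← hvs.2, hσdef, sigmaMinusMat_det] at h1
      by_contra hcon
      rw [Nat.not_odd_iff_even] at hcon
      rw [hcon.neg_one_pow] at h1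
      apply h2
      linear_combination -h1
    obtain ⟨zs, hzsdef⟩ : ∃ zs : ↥(Geo.quadSimilarityGroup (F := F) ⇑(genForm (binForm a b) m)),
        (zs : GL ((Fin m ⊕ Fin m) ⊕ Fin 2) F) = scalarGL ((Fin m ⊕ Fin m) ⊕ Fin 2) ν hν0 :=
      ⟨⟨_, scalarGL_mem ν hν0⟩, rfl⟩
    have hzs : zs ∈ (conjGO (genForm (binForm a b) m)).ker :=
      mem_ker_conjGO_of_scalar zs ν (by rw [hzsdef]; rfl)
    have hσσ : ((σ : ↥(isometryGroup F ⇑(genForm (binForm a b) m))) :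
        GL ((Fin m ⊕ Fin m) ⊕ Fin 2) F) *
        ((σ : ↥(isometryGroup F ⇑(genForm (binForm a b) m))) :
        GL ((Fin m ⊕ Fin m) ⊕ Fin 2) F) = 1 := by
      apply Units.ext
      rw [Units.val_mul, hσdef]
      exact sigmaMinusMat_sq m a
    have hσinv : ((σ : ↥(isometryGroup F ⇑(genForm (binForm a b) m))) :
        GL ((Fin m ⊕ Fin m) ⊕ Fin 2) F)⁻¹ =
        ((σ : ↥(isometryGroup F ⇑(genForm (binForm a b) m))) :
        GL ((Fin m ⊕ Fin m) ⊕ Fin 2) F) := inv_eq_of_mul_eq_one_right hσσ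
    have hsd : ((σ : ↥(isometryGroup F ⇑(genForm (binForm a b) m))) :
        GL ((Fin m ⊕ Fin m) ⊕ Fin 2) F) * (δ : GL ((Fin m ⊕ Fin m) ⊕ Fin 2) F) *
        ((σ : ↥(isometryGroup F ⇑(genForm (binForm a b) m))) :
        GL ((Fin m ⊕ Fin m) ⊕ Fin 2) F) * (δ : GL ((Fin m ⊕ Fin m) ⊕ Fin 2) F) =
        (zs : GL ((Fin m ⊕ Fin m) ⊕ Fin 2) F) := by
      apply Units.ext
      rw [Units.val_mul, Units.val_mul, Units.val_mul, hσdef, hδdef, hzsdef, Matrix.mul_assoc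
        (sigmaMinusMat m a * deltaMinusMat m a b s u), sigma_delta_sq, hsu']
      rfl
    have hrel : inclO (genForm (binForm a b) m) σ * δ *
        (inclO (genForm (binForm a b) m) σ)⁻¹ * δ⁻¹ = zs * δ⁻¹ * δ⁻¹ := by
      apply Subtype.ext
      show ((σ : ↥(isometryGroup F ⇑(genForm (binForm a b) m))) :
          GL ((Fin m ⊕ Fin m) ⊕ Fin 2) F) * (δ : GL ((Fin m ⊕ Fin m) ⊕ Fin 2) F) *
        ((σ : ↥(isometryGroup F ⇑(genForm (binForm a b) m))) :
          GL ((Fin m ⊕ Fin m) ⊕ Fin 2) F)⁻¹ * (δ : GL ((Fin m ⊕ Fin m) ⊕ Fin 2) F)⁻¹ =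
        (zs : GL ((Fin m ⊕ Fin m) ⊕ Fin 2) F) * (δ : GL ((Fin m ⊕ Fin m) ⊕ Fin 2) F)⁻¹ *
        (δ : GL ((Fin m ⊕ Fin m) ⊕ Fin 2) F)⁻¹
      rw [hσinv, ← hsd]
      group
    exact (exists_inndiag_mod_inn_four h2 hQ hfam hm h5 w₀ hw₀ (m + 1) hcard hneg δ hδ0 hδ σ vs
      hvs zs hzs hrel).1 hoddlen

end minusmain

end Cfsg.Agent.Lib.Helper5.OAut
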